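import Groth.Agent.LFFrame.Basic
import Groth.Agent.Props.QProj
import Groth.Agent.QCoh.Qcqs
import Groth.Agent.AssSch.Structure
import Mathlib.AlgebraicGeometry.Morphisms.FlatRank

/-!
# The rank of a finite flat morphism whose direct image of the structure sheaf is locally free of rank `n`
-/

set_option backward.isDefEq.respectTransparency false
set_option backward.isDefEq.respectTransparency.types false

universe u

open CategoryTheory CategoryTheory.Limits AlgebraicGeometry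

noncomputable section

namespace Groth.Agent.FEtCat.Rank

theorem finrank_eq_of_isFinLocFreeOfRank {X Y : Scheme.{u}} (f : Y ⟶ X) [IsFinite f] [Flat f] (n : ℕ)
    (h : FlatMod.IsFinLocFreeOfRank n ((Scheme.Modules.pushforward f).obj (Coh.structureModule Y))) (x : X) :
    Scheme.Hom.finrank f x = n := by
  classical
  set M := (Scheme.Modules.pushforward f).obj (Coh.structureModule Y) with hMdef
  obtain ⟨U, hxU, ⟨φ⟩⟩ := h x
  let p : Fin n → (FlatMod.freeMod (U : Scheme.{u}) n ⟶ Coh.structureModule (U : Scheme.{u})) :=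
    fun j => Sigma.desc fun i => if i = j then 𝟙 _ else 0
  obtain ⟨e, he⟩ := LFFrame.exists_isFrame_of_split (M := M)
    (fun i => Sigma.ι (fun _ : Fin n => Coh.structureModule (U : Scheme.{u})) i ≫ φ.inv)
    (fun j => φ.hom ≫ p j) (fun i j => by simp [p]) (by
      rw [← cancel_epi φ.inv, ← cancel_mono φ.hom]
      apply Sigma.hom_ext
      intro j
      simp [p, Preadditive.comp_sum, Preadditive.sum_comp, Finset.sum_ite_eq', ite_comp])
  obtain ⟨_, ⟨V, hV, rfl⟩, hxV, hVU⟩ := X.isBasis_affineOpens.exists_subset_of_mem_open hxU U.2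
  have hV' : IsAffineOpen (f ⁻¹ᵁ V) := hV.preimage f
  let ψ := f.appLE V (f ⁻¹ᵁ V) le_rfl
  have hsq := hV.SpecMap_appLE_fromSpec f hV' le_rfl
  have hpb : IsPullback hV'.fromSpec (Spec.map ψ) f hV.fromSpec := by
    refine (IsOpenImmersion.isPullback (Spec.map ψ) hV'.fromSpec hV.fromSpec f hsq.symm ?_).flip
    ext w
    simp
  let v := hV.primeIdealOf ⟨x, hxV⟩
  have hv : hV.fromSpec v = x := hV.fromSpec_primeIdealOf ⟨x, hxV⟩
  rw [← hv, ← Scheme.Hom.finrank_of_isPullback _ _ _ _ hpb v]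
  algebraize [ψ.hom]
  let L : (Fin n → Γ(X, V)) →ₗ[Γ(X, V)] Γ(Y, f ⁻¹ᵁ V) :=
    Fintype.linearCombination Γ(X, V) (fun i => M.presheaf.map (homOfLE hVU).op (e i))
  have hL : Function.Bijective L := by
    have heq : ∀ a, L a = LFFrame.comb M e hVU a := fun a => by
      rw [Fintype.linearCombination_apply]
      refine Finset.sum_congr rfl fun i _ => ?_
      change ψ (a i) * _ = f.app V (a i) * _
      rw [show ψ = f.app V from (Scheme.Hom.app_eq_appLE _).symm]
      rfl
    exact (funext heq : ⇑L = LFFrame.comb M e hVU) ▸ he V hVU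
  let b : Module.Basis (Fin n) Γ(X, V) Γ(Y, f ⁻¹ᵁ V) :=
    Module.Basis.ofEquivFun (LinearEquiv.ofBijective L hL).symm
  have : Module.Free Γ(X, V) Γ(Y, f ⁻¹ᵁ V) := Module.Free.of_basis b
  have : Module.Finite Γ(X, V) Γ(Y, f ⁻¹ᵁ V) := Module.Finite.of_basis b
  have : Nontrivial Γ(X, V) := PrimeSpectrum.nontrivial v
  rw [show ψ = CommRingCat.ofHom (algebraMap Γ(X, V) Γ(Y, f ⁻¹ᵁ V)) from rfl]
  refine (Scheme.Hom.finrank_SpecMap_algebraMap _ _ v).trans ?_
  rw [Module.rankAtStalk_eq_finrank_of_free]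
  exact Module.finrank_eq_card_basis b |>.trans (Fintype.card_fin n)

/-- Conversely constant rank gives a locally free direct image of that rank. -/
theorem isFinLocFreeOfRank_of_finrank {X Y : Scheme.{u}} (f : Y ⟶ X) [IsFinite f] [Flat f]
    [LocallyOfFinitePresentation f] (n : ℕ) (hn : ∀ x, Scheme.Hom.finrank f x = n) :
    FlatMod.IsFinLocFreeOfRank n ((Scheme.Modules.pushforward f).obj (Coh.structureModule Y)) := by
  set M := (Scheme.Modules.pushforward f).obj (Coh.structureModule Y) with hMdef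
  have : M.IsQuasicoherent := QCoh.isQuasicoherent_pushforward f (Coh.structureModule Y)
  have hfp : ∀ {W : X.Opens}, IsAffineOpen W → Module.FinitePresentation Γ(X, W) Γ(M, W) ∧
      Module.Projective Γ(X, W) Γ(M, W) := by
    intro W hW
    let _ : Algebra Γ(X, W) Γ(Y, f ⁻¹ᵁ W) := (f.app W).hom.toAlgebra
    have h1 : Module.Finite Γ(X, W) Γ(Y, f ⁻¹ᵁ W) :=
      RingHom.finite_algebraMap.mp (IsFinite.finite_app f W hW)
    have h2 : Module.Flat Γ(X, W) Γ(Y, f ⁻¹ᵁ W) := RingHom.flat_algebraMap_iff.mp (by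
      have := f.flat_appLE hW (hW.preimage f) le_rfl
      rwa [← Scheme.Hom.app_eq_appLE] at this)
    have h3 : Algebra.FinitePresentation Γ(X, W) Γ(Y, f ⁻¹ᵁ W) := RingHom.finitePresentation_algebraMap.mp (by
      have := HasRingHomProperty.appLE (P := @LocallyOfFinitePresentation) f inferInstance ⟨W, hW⟩
        ⟨f ⁻¹ᵁ W, hW.preimage f⟩ le_rfl
      rwa [← Scheme.Hom.app_eq_appLE] at this)
    have h4 : Module.FinitePresentation Γ(X, W) Γ(Y, f ⁻¹ᵁ W) := .of_finite_of_finitePresentation _ _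
    have h5 : Module.Projective Γ(X, W) Γ(Y, f ⁻¹ᵁ W) := Module.Flat.projective_of_finitePresentation
    exact ⟨h4, h5⟩
  have hfree : FlatMod.IsFinLocFree M := by
    refine Props.QProj.isFinLocFree_of M (fun x => ?_) fun x => ?_
    all_goals obtain ⟨_, ⟨W, hW, rfl⟩, hx, -⟩ := X.isBasis_affineOpens.exists_subset_of_mem_open (Set.mem_univ x) isOpen_univ
    · exact ⟨W, hW, hx, (hfp hW).1⟩
    · obtain ⟨_, _⟩ := hfp hW
      exact Props.QProj.free_stalk_of_flat M hW hx
  intro x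
  obtain ⟨U, k, hx, ⟨φ⟩⟩ := hfree x
  suffices k = n by
    subst this
    exact ⟨U, hx, ⟨φ⟩⟩
  obtain ⟨_, ⟨V, hV, rfl⟩, hxV, hVU⟩ := X.isBasis_affineOpens.exists_subset_of_mem_open hx U.2
  obtain ⟨b'⟩ := Props.QProj.free_sections_of_restrict_iso M φ hV hVU
  have hV' : IsAffineOpen (f ⁻¹ᵁ V) := hV.preimage f
  let ψ := f.appLE V (f ⁻¹ᵁ V) le_rfl
  have hsq := hV.SpecMap_appLE_fromSpec f hV' le_rfl
  have hpb : IsPullback hV'.fromSpec (Spec.map ψ) f hV.fromSpec := by
    refine (IsOpenImmersion.isPullback (Spec.map ψ) hV'.fromSpec hV.fromSpec f hsq.symm ?_).flip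
    ext w
    simp
  let v := hV.primeIdealOf ⟨x, hxV⟩
  have hv : hV.fromSpec v = x := hV.fromSpec_primeIdealOf ⟨x, hxV⟩
  rw [← hn x, ← hv, ← Scheme.Hom.finrank_of_isPullback _ _ _ _ hpb v]
  rw [show ψ = f.app V from (Scheme.Hom.app_eq_appLE _).symm]
  let _ : Algebra Γ(X, V) Γ(Y, f ⁻¹ᵁ V) := (f.app V).hom.toAlgebra
  let b : Module.Basis (Fin k) Γ(X, V) Γ(Y, f ⁻¹ᵁ V) := b'
  have : Module.Free Γ(X, V) Γ(Y, f ⁻¹ᵁ V) := Module.Free.of_basis b
  have : Module.Finite Γ(X, V) Γ(Y, f ⁻¹ᵁ V) := Module.Finite.of_basis b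
  have : Nontrivial Γ(X, V) := PrimeSpectrum.nontrivial v
  rw [show f.app V = CommRingCat.ofHom (algebraMap Γ(X, V) Γ(Y, f ⁻¹ᵁ V)) from rfl]
  refine ((Scheme.Hom.finrank_SpecMap_algebraMap _ _ v).trans ?_).symm
  rw [Module.rankAtStalk_eq_finrank_of_free]
  exact Module.finrank_eq_card_basis b |>.trans (Fintype.card_fin k)

end Groth.Agent.FEtCat.Rank
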