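import Mathlib.AlgebraicGeometry.Morphisms.FlatRank
import Mathlib.AlgebraicGeometry.Morphisms.Etale
import Mathlib.AlgebraicGeometry.Morphisms.UnderlyingMap
import Mathlib.AlgebraicGeometry.Morphisms.FlatMono
import Mathlib.RingTheory.TotallySplit
import Mathlib.FieldTheory.IsAlgClosed.AlgebraicClosure
import Mathlib.LinearAlgebra.FreeModule.Finite.Matrix

/-!
# Geometric points of finite étale morphisms
-/

universe u

open CategoryTheory CategoryTheory.Limits AlgebraicGeometry

namespace Groth.Agent.FEtCat.Count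

noncomputable section

/-- The `Ω`-points of `Y` over `ξ`. -/
abbrev Sec {X Y : Scheme.{u}} (p : Y ⟶ X) {T : Scheme.{u}} (ξ : T ⟶ X) : Type u :=
  {s : T ⟶ Y // s ≫ p = ξ}

variable {X Y : Scheme.{u}}

/-- Base change of sections. -/
def secEquivPullback (p : Y ⟶ X) {T : Scheme.{u}} (ξ : T ⟶ X) :
    Sec p ξ ≃ Sec (pullback.snd p ξ) (𝟙 T) where
  toFun s := ⟨pullback.lift s.1 (𝟙 T) (by rw [s.2, Category.id_comp]), pullback.lift_snd _ _ _⟩
  invFun t := ⟨t.1 ≫ pullback.fst p ξ, by rw [Category.assoc, pullback.condition, reassoc_of% t.2]⟩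
  left_inv s := Subtype.ext (pullback.lift_fst _ _ _)
  right_inv t := Subtype.ext (pullback.hom_ext (pullback.lift_fst _ _ _) ((pullback.lift_snd _ _ _).trans t.2.symm))

/-- Sections of isomorphic sources. -/
def secCongr {Y' : Scheme.{u}} (e : Y' ≅ Y) (p : Y ⟶ X) {T : Scheme.{u}} (ξ : T ⟶ X) :
    Sec p ξ ≃ Sec (e.hom ≫ p) ξ where
  toFun s := ⟨s.1 ≫ e.inv, by simp [s.2]⟩
  invFun t := ⟨t.1 ≫ e.hom, by rw [Category.assoc, t.2]⟩
  left_inv s := Subtype.ext (by simp)
  right_inv t := Subtype.ext (by simp)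

/-- Points of an affine morphism are algebra maps. -/
def secSpecEquiv {R B : Type u} [CommRing R] [CommRing B] [Algebra R B] (T : Type u) [CommRing T] [Algebra R T] :
    Sec (Spec.map (CommRingCat.ofHom (algebraMap R B))) (Spec.map (CommRingCat.ofHom (algebraMap R T))) ≃
      (B →ₐ[R] T) where
  toFun s :=
    { (Spec.preimage s.1).hom with
      commutes' := fun r => by
        have h : CommRingCat.ofHom (algebraMap R B) ≫ Spec.preimage s.1 = CommRingCat.ofHom (algebraMap R T) :=
          Spec.map_injective (by rw [Spec.map_comp, Spec.map_preimage, s.2])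
        exact RingHom.congr_fun (congrArg CommRingCat.Hom.hom h) r }
  invFun g := ⟨Spec.map (CommRingCat.ofHom g.toRingHom), by
    rw [← Spec.map_comp]
    congr 1
    exact CommRingCat.hom_ext (RingHom.ext g.commutes)⟩
  left_inv s := Subtype.ext (by
    conv_rhs => rw [← Spec.map_preimage s.1]
    rfl)
  right_inv g := AlgHom.ext fun b => by
    change (Spec.preimage (Spec.map (CommRingCat.ofHom g.toRingHom))).hom b = g b
    rw [Spec.preimage_map]
    rfl

section field

variable {Ω : Type u} [Field Ω]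

theorem exists_spec_presentation (p : Y ⟶ X) [IsFinite p] [Etale p] (ξ : Spec (.of Ω) ⟶ X) :
    ∃ (B : Type u) (_ : CommRing B) (_ : Algebra Ω B), Module.Finite Ω B ∧ Algebra.Etale Ω B ∧
      Nonempty (Sec p ξ ≃ (B →ₐ[Ω] Ω)) ∧
      Scheme.Hom.finrank p (ξ default) = Module.finrank Ω B := by
  let P := pullback p ξ
  have : IsAffine P := isAffine_of_isAffineHom (pullback.snd p ξ)
  obtain ⟨φ, hφ⟩ := Spec.map_surjective (P.isoSpec.inv ≫ pullback.snd p ξ)
  have hfin : IsFinite (Spec.map φ) := by rw [hφ]; infer_instance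
  have het : Etale (Spec.map φ) := by rw [hφ]; infer_instance
  let _ : Algebra Ω Γ(P, ⊤) := φ.hom.toAlgebra
  have hmf : Module.Finite Ω Γ(P, ⊤) := (IsFinite.SpecMap_iff _).mp hfin
  refine ⟨Γ(P, ⊤), inferInstance, inferInstance, hmf,
    RingHom.etale_algebraMap.1 ((HasRingHomProperty.Spec_iff (P := @Etale)).1 het), ⟨?_⟩, ?_⟩
  · refine ((secEquivPullback p ξ).trans (secCongr P.isoSpec.symm _ _)).trans ?_
    refine (Equiv.subtypeEquivRight fun s => ?_).trans
      (secSpecEquiv (R := Ω) (B := Γ(P, ⊤)) Ω)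
    have h1 : CommRingCat.ofHom (algebraMap Ω Γ(P, ⊤)) = φ := rfl
    have h2 : Spec.map (CommRingCat.ofHom (algebraMap Ω Ω)) = 𝟙 (Spec (.of Ω)) := Spec.map_id _
    rw [h1, h2, hφ]
    rfl
  · rw [← Scheme.Hom.finrank_pullback_snd p ξ,
      ← Scheme.Hom.finrank_comp_left_of_isIso P.isoSpec.inv (pullback.snd p ξ), ← hφ]
    change Scheme.Hom.finrank (Spec.map (CommRingCat.ofHom (algebraMap Ω Γ(P, ⊤)))) default = _
    refine (Scheme.Hom.finrank_SpecMap_algebraMap Ω Γ(P, ⊤) _).trans ?_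
    rw [Module.rankAtStalk_eq_finrank_of_free]
    rfl

theorem finite_sec (p : Y ⟶ X) [IsFinite p] [Etale p] (ξ : Spec (.of Ω) ⟶ X) : Finite (Sec p ξ) := by
  obtain ⟨B, _, _, _, -, ⟨e⟩, -⟩ := exists_spec_presentation p ξ
  exact .of_equiv _ e.symm

/-- Over a separably closed field the number of points is the rank. -/
theorem natCard_sec [IsSepClosed Ω] (p : Y ⟶ X) [IsFinite p] [Etale p] (ξ : Spec (.of Ω) ⟶ X) :
    Nat.card (Sec p ξ) = Scheme.Hom.finrank p (ξ default) := by
  obtain ⟨B, _, _, _, _, ⟨e⟩, h⟩ := exists_spec_presentation p ξ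
  rw [h, Nat.card_congr e, Nat.card_congr (Algebra.IsFiniteSplit.algHomEquivPrimeSpectrum Ω B)]
  obtain ⟨n, ⟨f⟩⟩ := Algebra.IsFiniteSplit.nonempty_algEquiv_fun Ω B
  rw [f.toLinearEquiv.finrank_eq, Module.finrank_fintype_fun_eq_card, Fintype.card_fin,
    Nat.card_congr (PrimeSpectrum.comapEquiv f.toRingEquiv).toEquiv,
    Nat.card_congr (Equiv.ofBijective _ (PrimeSpectrum.sigmaToPi_bijective (fun _ : Fin n => Ω))).symm,
    Nat.card_congr (Equiv.sigmaUnique _ _)]
  simp

/-- Every point of the source above a point of the base lifts the geometric point. -/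
theorem exists_sec_apply_eq [IsSepClosed Ω] (p : Y ⟶ X) [IsFinite p] [Etale p] (ξ : Spec (.of Ω) ⟶ X) (y : Y)
    (hy : p y = ξ default) : ∃ s : Sec p ξ, s.1 default = y := by
  obtain ⟨z, hz, -⟩ := Scheme.Pullback.exists_preimage_pullback (f := p) (g := ξ) y default hy
  let P := pullback p ξ
  have : IsAffine P := isAffine_of_isAffineHom (pullback.snd p ξ)
  obtain ⟨φ, hφ⟩ := Spec.map_surjective (P.isoSpec.inv ≫ pullback.snd p ξ)
  have hfin : IsFinite (Spec.map φ) := by rw [hφ]; infer_instance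
  have het : Etale (Spec.map φ) := by rw [hφ]; infer_instance
  let _ : Algebra Ω Γ(P, ⊤) := φ.hom.toAlgebra
  have hmf : Module.Finite Ω Γ(P, ⊤) := (IsFinite.SpecMap_iff _).mp hfin
  have : Algebra.Etale Ω Γ(P, ⊤) :=
    RingHom.etale_algebraMap.1 ((HasRingHomProperty.Spec_iff (P := @Etale)).1 het)
  let g : Γ(P, ⊤) →ₐ[Ω] Ω := (Algebra.IsFiniteSplit.algHomEquivPrimeSpectrum Ω Γ(P, ⊤)).symm (P.isoSpec.hom z)
  let t := Spec.map (CommRingCat.ofHom g.toRingHom)
  have ht : t ≫ Spec.map φ = 𝟙 (Spec (.of Ω)) := by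
    rw [← Spec.map_comp, ← Spec.map_id]
    congr 1
    exact CommRingCat.hom_ext (RingHom.ext g.commutes)
  refine ⟨(secEquivPullback p ξ).symm ⟨t ≫ P.isoSpec.inv, by rw [Category.assoc, ← hφ, ht]⟩, ?_⟩
  have h1 : t default = P.isoSpec.hom z := by
    apply PrimeSpectrum.ext
    have h2 : RingHom.ker g = (P.isoSpec.hom z).asIdeal := congrArg PrimeSpectrum.asIdeal
      ((Algebra.IsFiniteSplit.algHomEquivPrimeSpectrum Ω Γ(P, ⊤)).apply_symm_apply (P.isoSpec.hom z))
    rw [← h2]
    have : (default : Spec (CommRingCat.of Ω)).asIdeal.IsPrime := PrimeSpectrum.isPrime _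
    have h3 : (default : Spec (CommRingCat.of Ω)).asIdeal = ⊥ := Ideal.eq_bot_of_prime _
    change Ideal.comap g.toRingHom (default : Spec (CommRingCat.of Ω)).asIdeal = RingHom.ker g
    rw [h3]
    rfl
  change ((t ≫ P.isoSpec.inv) ≫ pullback.fst p ξ) default = y
  rw [Category.assoc, Scheme.Hom.comp_apply, h1, ← Scheme.Hom.comp_apply, Iso.hom_inv_id_assoc, hz]

end field

section clopen

theorem isClopen_image (p : Y ⟶ X) [IsFinite p] [Etale p] {W : Set Y} (hW : IsClopen W) :
    IsClopen (p '' W) :=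
  ⟨p.isClosedMap _ hW.1, p.isOpenMap _ hW.2⟩

/-- A clopen subset of a finite étale cover of a connected scheme is empty or surjects onto the base. -/
theorem eq_empty_or_image_eq_univ [PreconnectedSpace X] (p : Y ⟶ X) [IsFinite p] [Etale p] {W : Set Y}
    (hW : IsClopen W) : W = ∅ ∨ p '' W = Set.univ := by
  rcases isClopen_iff.mp (isClopen_image p hW) with h | h
  · exact .inl (Set.image_eq_empty.mp h)
  · exact .inr h

end clopen

end

end Groth.Agent.FEtCat.Count

namespace Groth.Agent.FEtCat.Count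

/-- Two maps into a finite étale scheme agree if they agree through a map whose image meets every nonempty
clopen subset. -/
theorem eq_of_comp_eq {X Y Z T : Scheme.{u}} (p : Y ⟶ X) [IsFinite p] [Etale p] (φ₁ φ₂ : Z ⟶ Y)
    (h : φ₁ ≫ p = φ₂ ≫ p) (g : T ⟶ Z) (hg : g ≫ φ₁ = g ≫ φ₂)
    (hd : ∀ W : Set Z, IsClopen W → Set.range g ⊆ W → W = Set.univ) : φ₁ = φ₂ := by
  let l := pullback.lift φ₁ φ₂ h
  have hopen : IsOpen (Set.range (pullback.diagonal p)) := (pullback.diagonal p).isOpenEmbedding.isOpen_range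
  have hclosed : IsClosed (Set.range (pullback.diagonal p)) :=
    (pullback.diagonal p).isClosedEmbedding.isClosed_range
  have hsub : Set.range g ⊆ l ⁻¹' Set.range (pullback.diagonal p) := by
    rintro _ ⟨t, rfl⟩
    have : g ≫ l = (g ≫ φ₁) ≫ pullback.diagonal p :=
      pullback.hom_ext
        (by rw [Category.assoc, Category.assoc, pullback.lift_fst, pullback.diagonal_fst]; simp)
        (by rw [Category.assoc, Category.assoc, pullback.lift_snd, pullback.diagonal_snd, hg]; simp)
    exact ⟨(g ≫ φ₁) t, by rw [← Scheme.Hom.comp_apply, ← this]; rfl⟩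
  have huniv := hd _ ⟨hclosed.preimage l.continuous, hopen.preimage l.continuous⟩ hsub
  have hr : Set.range l ⊆ Set.range (pullback.diagonal p) := by
    rintro _ ⟨z, rfl⟩
    exact huniv.ge (Set.mem_univ z)
  have e := IsOpenImmersion.lift_fac (pullback.diagonal p) l hr
  have e₁ : l ≫ pullback.fst p p = φ₁ := pullback.lift_fst _ _ _
  have e₂ : l ≫ pullback.snd p p = φ₂ := pullback.lift_snd _ _ _
  rw [← e₁, ← e₂, ← e, Category.assoc, Category.assoc, pullback.diagonal_fst, pullback.diagonal_snd]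

end Groth.Agent.FEtCat.Count
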