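import Groth.Prelude.Def_FEt
import Groth.Agent.FEtCat.Count
import Mathlib.AlgebraicGeometry.LimitsOver
import Mathlib.AlgebraicGeometry.Limits
import Mathlib.CategoryTheory.Limits.Constructions.FiniteProductsOfBinaryProducts
import Mathlib.CategoryTheory.Limits.Constructions.LimitsOfProductsAndEqualizers
import Mathlib.CategoryTheory.Galois.Basic

/-!
# The category of finite étale covers: limits, coproducts, fibres
-/

universe u

open CategoryTheory CategoryTheory.Limits AlgebraicGeometry

namespace Groth.Agent.FEtCat.Basic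

noncomputable section

variable {X : Scheme.{u}}

set_option backward.isDefEq.respectTransparency.types false in
instance : FEt.prop.{u}.HasOfPostcompProperty FEt.prop.{u} := by
  have : MorphismProperty.HasOfPostcompProperty @IsFinite FEt.prop.{u} :=
    .of_le _ @IsSeparated fun _ _ f hf => by have := hf.1; exact inferInstance
  have : MorphismProperty.HasOfPostcompProperty @Etale FEt.prop.{u} :=
    .of_le _ @Etale fun _ _ f hf => hf.2
  exact inferInstanceAs (MorphismProperty.HasOfPostcompProperty (@IsFinite ⊓ @Etale) FEt.prop.{u})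

instance isFinite_hom (Y : FEt.Cat X) : IsFinite Y.hom := Y.prop.1

instance etale_hom (Y : FEt.Cat X) : Etale Y.hom := Y.prop.2

theorem prop_left {Y Z : FEt.Cat X} (φ : Y ⟶ Z) : FEt.prop φ.left := by
  refine MorphismProperty.of_postcomp (W := FEt.prop) (W' := FEt.prop) φ.left Z.hom Z.prop ?_
  have h : φ.left ≫ Z.hom = Y.hom := MorphismProperty.Over.w φ
  rw [h]
  exact Y.prop

instance isFinite_left {Y Z : FEt.Cat X} (φ : Y ⟶ Z) : IsFinite φ.left := (prop_left φ).1

instance etale_left {Y Z : FEt.Cat X} (φ : Y ⟶ Z) : Etale φ.left := (prop_left φ).2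

instance hasFiniteLimits : HasFiniteLimits (FEt.Cat X) :=
  MorphismProperty.Over.hasFiniteLimits _ X

/-- An object from a finite étale morphism. -/
abbrev mk {W : Scheme.{u}} (f : W ⟶ X) [IsFinite f] [Etale f] : FEt.Cat X :=
  MorphismProperty.Over.mk ⊤ f ⟨inferInstance, inferInstance⟩

/-- A morphism from a morphism over the base. -/
abbrev homMk {Y Z : FEt.Cat X} (g : Y.left ⟶ Z.left) (h : g ≫ Z.hom = Y.hom) : Y ⟶ Z :=
  MorphismProperty.Over.homMk g h trivial

theorem hom_ext {Y Z : FEt.Cat X} {φ ψ : Y ⟶ Z} (h : φ.left = ψ.left) : φ = ψ :=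
  MorphismProperty.Over.Hom.ext h

theorem isIso_of_left {Y Z : FEt.Cat X} (φ : Y ⟶ Z) [IsIso φ.left] : IsIso φ :=
  ⟨homMk (inv φ.left) ((IsIso.inv_comp_eq _).mpr (MorphismProperty.Over.w φ).symm),
    hom_ext (IsIso.hom_inv_id φ.left), hom_ext (IsIso.inv_hom_id φ.left)⟩

theorem isIso_left {Y Z : FEt.Cat X} (φ : Y ⟶ Z) [IsIso φ] : IsIso φ.left :=
  (inferInstance : IsIso ((MorphismProperty.Over.forget FEt.prop ⊤ X ⋙ Over.forget X).map φ))

section coproducts

instance (W : Scheme.{u}) [IsEmpty W] (f : W ⟶ X) : IsFinite f := by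
  have : IsClosedImmersion f := by
    refine @IsClosedImmersion.mk _ _ _ inferInstance ?_
    have : IsOpenImmersion f := inferInstance
    refine ⟨f.isOpenEmbedding.toIsEmbedding, ?_⟩
    rw [Set.range_eq_empty]
    exact isClosed_empty
  infer_instance

/-- The empty cover. -/
def empty (X : Scheme.{u}) : FEt.Cat X := mk (Scheme.emptyTo X)

/-- The empty cover is initial. -/
def isInitialEmpty : IsInitial (empty X) :=
  @IsInitial.ofUnique _ _ _ fun Y =>
    { default := homMk (Y := empty X) (Scheme.emptyTo Y.left) (emptyIsInitial.hom_ext _ _)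
      uniq := fun _ => hom_ext (emptyIsInitial.hom_ext _ _) }

instance : HasInitial (FEt.Cat X) := isInitialEmpty.hasInitial

instance : IsEmpty (empty X).left := inferInstanceAs (IsEmpty (∅ : Scheme.{u}))

set_option backward.isDefEq.respectTransparency.types false in
/-- The disjoint union of two covers. -/
def coprodObj (Y Z : FEt.Cat X) : FEt.Cat X :=
  MorphismProperty.Over.mk ⊤ (coprod.desc Y.hom Z.hom)
    ⟨inferInstance, by
      rw [IsZariskiLocalAtSource.iff_of_openCover (P := (@Etale : MorphismProperty Scheme.{u})) (coprodOpenCover.{u, u} Y.left Z.left)]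
      rintro (⟨⟨⟩⟩ | ⟨⟨⟩⟩)
      · change Etale (coprod.inl ≫ coprod.desc Y.hom Z.hom)
        exact (coprod.inl_desc Y.hom Z.hom).symm ▸ Y.prop.2
      · change Etale (coprod.inr ≫ coprod.desc Y.hom Z.hom)
        exact (coprod.inr_desc Y.hom Z.hom).symm ▸ Z.prop.2⟩

/-- The binary cofan on the disjoint union. -/
def coprodCofan (Y Z : FEt.Cat X) : BinaryCofan Y Z :=
  BinaryCofan.mk (P := coprodObj Y Z) (homMk (Z := coprodObj Y Z) coprod.inl (coprod.inl_desc _ _))
    (homMk (Z := coprodObj Y Z) coprod.inr (coprod.inr_desc _ _))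

/-- A binary cofan which is a coproduct of schemes is a coproduct of covers. -/
def isColimitOfLeft {Y Z : FEt.Cat X} (c : BinaryCofan Y Z)
    (hc : IsColimit (BinaryCofan.mk c.inl.left c.inr.left)) : IsColimit c :=
  BinaryCofan.IsColimit.mk c
    (fun {T} f g => homMk (BinaryCofan.IsColimit.desc hc f.left g.left) (by
      apply BinaryCofan.IsColimit.hom_ext hc
      · change c.inl.left ≫ _ = c.inl.left ≫ _
        refine (BinaryCofan.IsColimit.inl_desc_assoc hc f.left g.left T.hom).trans ?_
        exact (MorphismProperty.Over.w f).trans (MorphismProperty.Over.w c.inl).symm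
      · change c.inr.left ≫ _ = c.inr.left ≫ _
        refine (BinaryCofan.IsColimit.inr_desc_assoc hc f.left g.left T.hom).trans ?_
        exact (MorphismProperty.Over.w g).trans (MorphismProperty.Over.w c.inr).symm))
    (fun f g => hom_ext (BinaryCofan.IsColimit.inl_desc hc f.left g.left))
    (fun f g => hom_ext (BinaryCofan.IsColimit.inr_desc hc f.left g.left))
    (fun {T} f g m h₁ h₂ => hom_ext (BinaryCofan.IsColimit.hom_ext hc
      ((congrArg (fun t : Y ⟶ T => t.left) h₁).trans
        (BinaryCofan.IsColimit.inl_desc hc f.left g.left).symm)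
      ((congrArg (fun t : Z ⟶ T => t.left) h₂).trans
        (BinaryCofan.IsColimit.inr_desc hc f.left g.left).symm)))

/-- The disjoint union is a coproduct. -/
def coprodIsColimit (Y Z : FEt.Cat X) : IsColimit (coprodCofan Y Z) :=
  isColimitOfLeft _ (coprodIsCoprod Y.left Z.left)

instance : HasBinaryCoproducts (FEt.Cat X) :=
  have : ∀ {Y Z : FEt.Cat X}, HasColimit (pair Y Z) := fun {Y Z} => ⟨⟨_, coprodIsColimit Y Z⟩⟩
  hasBinaryCoproducts_of_hasColimit_pair _

instance : HasFiniteCoproducts (FEt.Cat X) := hasFiniteCoproducts_of_has_binary_and_initial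

/-- A monomorphism of covers is an open and closed immersion. -/
theorem of_mono {Y Z : FEt.Cat X} (φ : Y ⟶ Z) [Mono φ] :
    IsOpenImmersion φ.left ∧ IsClosedImmersion φ.left := by
  have : PreservesLimitsOfShape WalkingCospan (MorphismProperty.Over.forget FEt.prop ⊤ X) := inferInstance
  have : Mono φ.left :=
    (inferInstance : Mono ((MorphismProperty.Over.forget FEt.prop ⊤ X ⋙ Over.forget X).map φ))
  exact ⟨IsOpenImmersion.of_flat_of_mono φ.left,
    (IsClosedImmersion.iff_isFinite_and_mono φ.left).mpr ⟨inferInstance, inferInstance⟩⟩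

/-- The cover given by a clopen subset. -/
def sub (Z : FEt.Cat X) (U : Z.left.Opens) (hU : IsClosed (U : Set Z.left)) : FEt.Cat X :=
  have : IsClosedImmersion U.ι := by
    refine IsClosedImmersion.of_isPreimmersion _ ?_
    rw [Scheme.Opens.range_ι]
    exact hU
  mk (U.ι ≫ Z.hom)

/-- Inclusion of a clopen subset. -/
def subι (Z : FEt.Cat X) (U : Z.left.Opens) (hU : IsClosed (U : Set Z.left)) : sub Z U hU ⟶ Z :=
  homMk (Y := sub Z U hU) U.ι rfl

/-- A monomorphism of covers is a direct summand. -/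
theorem exists_summand {Y Z : FEt.Cat X} (φ : Y ⟶ Z) [Mono φ] :
    ∃ (W : FEt.Cat X) (ψ : W ⟶ Z), Nonempty (IsColimit (BinaryCofan.mk φ ψ)) := by
  obtain ⟨_, _⟩ := of_mono φ
  let U : Z.left.Opens := ⟨(Set.range φ.left)ᶜ, φ.left.isClosedEmbedding.isClosed_range.isOpen_compl⟩
  have hU : IsClosed (U : Set Z.left) := φ.left.isOpenEmbedding.isOpen_range.isClosed_compl
  refine ⟨sub Z U hU, subι Z U hU, ⟨isColimitOfLeft _ ?_⟩⟩
  refine (nonempty_isColimit_binaryCofanMk_of_isCompl φ.left U.ι ?_).some
  rw [Scheme.Opens.opensRange_ι]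
  refine IsCompl.of_eq (SetLike.coe_injective ?_) (SetLike.coe_injective ?_)
  · simp [U]
  · simp [U]

end coproducts

section fibre

variable {Ω : Type u} [Field Ω] (ξ : Spec (CommRingCat.of Ω) ⟶ X)

theorem finite_fiberObj (Y : FEt.Cat X) : Finite (FEt.fiberObj ξ Y) := Count.finite_sec Y.hom ξ

theorem natCard_fiberObj [IsSepClosed Ω] (Y : FEt.Cat X) :
    Nat.card (FEt.fiberObj ξ Y) = Scheme.Hom.finrank Y.hom (ξ default) := Count.natCard_sec Y.hom ξ

/-- The fibre functor is the functor of points over the geometric point. -/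
def fiberIso : FEt.fiber ξ ≅
    MorphismProperty.Over.forget FEt.prop ⊤ X ⋙ coyoneda.obj (Opposite.op (Over.mk ξ)) :=
  NatIso.ofComponents (fun Y => Equiv.toIso
    { toFun := fun s => Over.homMk s.1 s.2
      invFun := fun t => ⟨t.left, Over.w t⟩
      left_inv := fun _ => rfl
      right_inv := fun _ => rfl })
    (fun φ => ConcreteCategory.hom_ext _ _ fun s => rfl)

instance : PreservesFiniteLimits (FEt.fiber ξ) :=
  have : PreservesFiniteLimits (coyoneda.obj (Opposite.op (Over.mk ξ))) := inferInstance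
  have := comp_preservesFiniteLimits (MorphismProperty.Over.forget FEt.prop ⊤ X)
    (coyoneda.obj (Opposite.op (Over.mk ξ)))
  preservesFiniteLimits_of_natIso (fiberIso ξ).symm

/-- The fibre functor with values in finite sets. -/
def fibre : FEt.Cat X ⥤ FintypeCat.{u} where
  obj Y := have := finite_fiberObj ξ Y; FintypeCat.of (FEt.fiberObj ξ Y)
  map φ := FintypeCat.homMk ((FEt.fiber ξ).map φ)
  map_id Y := by
    ext s
    exact ConcreteCategory.congr_hom ((FEt.fiber ξ).map_id Y) s
  map_comp φ ψ := by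
    ext s
    exact ConcreteCategory.congr_hom ((FEt.fiber ξ).map_comp φ ψ) s

/-- Forgetting finiteness. -/
def fibreIncl : fibre ξ ⋙ FintypeCat.incl ≅ FEt.fiber ξ :=
  NatIso.ofComponents (fun _ => Iso.refl _) (fun _ => rfl)

instance : PreservesFiniteLimits (fibre ξ) := by
  have : PreservesFiniteLimits (fibre ξ ⋙ FintypeCat.incl) :=
    preservesFiniteLimits_of_natIso (fibreIncl ξ).symm
  exact ⟨fun J _ _ => preservesLimitsOfShape_of_reflects_of_preserves _ FintypeCat.incl⟩

/-- The fibre of a disjoint union. -/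
theorem fiber_coprod_bijective {Y Z W : FEt.Cat X} (j : Y ⟶ W) (k : Z ⟶ W) [IsOpenImmersion j.left]
    [IsOpenImmersion k.left] (h : IsCompl (Set.range j.left) (Set.range k.left)) :
    Function.Bijective (Sum.elim ((FEt.fiber ξ).map j : FEt.fiberObj ξ Y → FEt.fiberObj ξ W)
      ((FEt.fiber ξ).map k : FEt.fiberObj ξ Z → FEt.fiberObj ξ W)) := by
  constructor
  · rintro (s | s) (t | t) hst <;> have h' : _ = _ := congrArg Subtype.val hst
    · exact congrArg Sum.inl (Subtype.ext ((cancel_mono j.left).mp h'))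
    · exact (Set.disjoint_iff_forall_ne.mp h.disjoint ⟨s.1 default, rfl⟩ ⟨t.1 default, rfl⟩
        (congrArg (fun g => g default) h')).elim
    · exact (Set.disjoint_iff_forall_ne.mp h.disjoint ⟨t.1 default, rfl⟩ ⟨s.1 default, rfl⟩
        (congrArg (fun g => g default) h').symm).elim
    · exact congrArg Sum.inr (Subtype.ext ((cancel_mono k.left).mp h'))
  · intro s
    have lift : ∀ {V : FEt.Cat X} (i : V ⟶ W) [IsOpenImmersion i.left],
        s.1 default ∈ Set.range i.left → ∃ t : FEt.fiberObj ξ V, (FEt.fiber ξ).map i t = s := by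
      intro V i _ hi
      have hr : Set.range s.1 ⊆ Set.range i.left := by
        rintro _ ⟨a, rfl⟩
        rwa [Subsingleton.elim a default]
      refine ⟨⟨IsOpenImmersion.lift i.left s.1 hr, ?_⟩, Subtype.ext (IsOpenImmersion.lift_fac _ _ _)⟩
      rw [← MorphismProperty.Over.w i, IsOpenImmersion.lift_fac_assoc]
      exact s.2
    rcases h.sup_eq_top.ge (Set.mem_univ (s.1 default)) with h1 | h1
    · obtain ⟨t, ht⟩ := lift j h1; exact ⟨.inl t, ht⟩
    · obtain ⟨t, ht⟩ := lift k h1; exact ⟨.inr t, ht⟩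

/-- Pullback of fibres. -/
theorem finrank_left_eq_one [IsAlgClosed Ω] {Y Z : FEt.Cat X} (φ : Y ⟶ Z)
    (h : Function.Bijective ((FEt.fiber ξ).map φ)) (z : Z.left) (hz : Z.hom z = ξ default) :
    Scheme.Hom.finrank φ.left z = 1 := by
  obtain ⟨t, ht⟩ := Count.exists_sec_apply_eq Z.hom ξ z hz
  rw [← ht, ← Count.natCard_sec φ.left t.1, Nat.card_eq_one_iff_unique]
  obtain ⟨s, hs⟩ := h.2 t
  refine ⟨⟨fun a b => ?_⟩, ⟨⟨s.1, congrArg Subtype.val hs⟩⟩⟩
  have ha : a.1 ≫ Y.hom = ξ := by
    rw [← MorphismProperty.Over.w φ, ← Category.assoc, a.2]; exact t.2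
  have hb : b.1 ≫ Y.hom = ξ := by
    rw [← MorphismProperty.Over.w φ, ← Category.assoc, b.2]; exact t.2
  have h1 : (⟨a.1, ha⟩ : FEt.fiberObj ξ Y) = ⟨b.1, hb⟩ := h.1 (Subtype.ext (a.2.trans b.2.symm))
  exact Subtype.ext (congrArg Subtype.val h1 :)

end fibre

/-- Geometric fibres jointly reflect isomorphisms. -/
theorem isIso_of_forall_bijective {Y Z : FEt.Cat X} (φ : Y ⟶ Z)
    (h : ∀ (Ω : Type u) (_ : Field Ω) (_ : IsAlgClosed Ω) (ξ : Spec (CommRingCat.of Ω) ⟶ X),
      Function.Bijective ((FEt.fiber ξ).map φ)) : IsIso φ := by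
  have : IsIso φ.left := by
    rw [Scheme.Hom.isIso_iff_finrank_eq]
    funext z
    let x := Z.hom z
    let ξ : Spec (CommRingCat.of (AlgebraicClosure (X.residueField x))) ⟶ X :=
      Spec.map (CommRingCat.ofHom (algebraMap (X.residueField x) (AlgebraicClosure (X.residueField x)))) ≫
        X.fromSpecResidueField x
    refine finrank_left_eq_one ξ φ (h _ _ inferInstance ξ) z ?_
    simp only [ξ, x, Scheme.Hom.comp_apply]
    exact (Scheme.fromSpecResidueField_apply _ _).symm
  exact isIso_of_left φ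

/-- Over a connected base one geometric fibre reflects isomorphisms. -/
theorem isIso_of_bijective [PreconnectedSpace X] {Ω : Type u} [Field Ω] [IsAlgClosed Ω]
    (ξ : Spec (CommRingCat.of Ω) ⟶ X) {Y Z : FEt.Cat X} (φ : Y ⟶ Z)
    (h : Function.Bijective ((FEt.fiber ξ).map φ)) : IsIso φ := by
  have : IsIso φ.left := by
    rw [Scheme.Hom.isIso_iff_finrank_eq]
    funext z
    by_contra hz
    let W : Set Z.left := {w | Scheme.Hom.finrank φ.left w ≠ 1}
    have hW : IsClopen W := by
      have hl := Scheme.Hom.isLocallyConstant_finrank φ.left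
      exact ⟨(hl.isClopen_fiber 1).compl.1, (hl.isClopen_fiber 1).compl.2⟩
    rcases Count.eq_empty_or_image_eq_univ (X := X) Z.hom hW with h0 | h0
    · exact Set.notMem_empty z (h0 ▸ hz)
    · obtain ⟨w, hw, hwx⟩ := h0.ge (Set.mem_univ (ξ default))
      exact hw (finrank_left_eq_one ξ φ h w hwx)
  exact isIso_of_left φ

/-- Base change of covers. -/
instance restrict_preservesFiniteLimits {X' : Scheme.{u}} (f : X' ⟶ X) :
    PreservesFiniteLimits (FEt.restrict f) :=
  inferInstanceAs (PreservesFiniteLimits (MorphismProperty.Over.pullback FEt.prop.{u} ⊤ f))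

/-- The fibre of a base change. -/
def restrictFiberIso {X' : Scheme.{u}} (f : X' ⟶ X) {Ω : Type u} [Field Ω]
    (ξ : Spec (CommRingCat.of Ω) ⟶ X') : FEt.restrict f ⋙ FEt.fiber ξ ≅ FEt.fiber (ξ ≫ f) :=
  NatIso.ofComponents (fun Y => Equiv.toIso
    { toFun := fun s => ⟨s.1 ≫ pullback.fst Y.hom f, (Category.assoc _ _ _).trans
        ((congrArg (s.1 ≫ ·) pullback.condition).trans
          ((Category.assoc _ _ _).symm.trans (congrArg (· ≫ f) s.2)))⟩
      invFun := fun t => ⟨pullback.lift t.1 ξ t.2, pullback.lift_snd _ _ _⟩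
      left_inv := fun s => Subtype.ext (pullback.hom_ext (pullback.lift_fst _ _ _)
        ((pullback.lift_snd _ _ _).trans s.2.symm))
      right_inv := fun t => Subtype.ext (pullback.lift_fst _ _ _) })
    (fun {Y Z} φ => ConcreteCategory.hom_ext _ _ fun s => Subtype.ext (by
      change (s.1 ≫ ((FEt.restrict f).map φ).left) ≫ pullback.fst Z.hom f =
        (s.1 ≫ pullback.fst Y.hom f) ≫ φ.left
      refine (Category.assoc _ _ _).trans ?_
      refine Eq.trans ?_ (Category.assoc _ _ _).symm
      refine congrArg (s.1 ≫ ·) ?_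
      simp [FEt.restrict]
      exact pullback.lift_fst _ _ _))

end

end Groth.Agent.FEtCat.Basic
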