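import Groth.Agent.FEtCat.Sigma
import Mathlib.CategoryTheory.Limits.Preserves.Shapes.Products
import Mathlib.CategoryTheory.Limits.Preserves.Shapes.Equalizers
import Mathlib.Data.Fintype.CardEmbedding

/-!
# The cover of ordered tuples of distinct points, splitting a cover of constant degree
-/

set_option backward.isDefEq.respectTransparency.types false

universe u

open CategoryTheory CategoryTheory.Limits AlgebraicGeometry

noncomputable section

namespace Groth.Agent.FEtCat.Ordered

open Groth.Agent.FEtCat.Basic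

variable {X : Scheme.{u}} (Y : FEt.Cat X) (n : ℕ)

/-- The `n`-fold product. -/
abbrev power : FEt.Cat X := ∏ᶜ fun _ : Fin n => Y

/-- The projection. -/
abbrev proj (i : Fin n) : power Y n ⟶ Y := Pi.π (fun _ : Fin n => Y) i

/-- The locus where two projections agree. -/
abbrev eqLocus (i j : Fin n) : FEt.Cat X := equalizer (proj Y n i) (proj Y n j)

/-- Its inclusion. -/
abbrev eqι (i j : Fin n) : eqLocus Y n i j ⟶ power Y n := equalizer.ι (proj Y n i) (proj Y n j)

/-- The tuples of distinct points. -/
def distinct : (power Y n).left.Opens where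
  carrier := ⋂ p : {p : Fin n × Fin n // p.1 ≠ p.2}, (Set.range (eqι Y n p.1.1 p.1.2).left)ᶜ
  is_open' := isOpen_iInter_of_finite fun p => by
    have := (of_mono (eqι Y n p.1.1 p.1.2)).2
    exact (eqι Y n p.1.1 p.1.2).left.isClosedEmbedding.isClosed_range.isOpen_compl

theorem isClosed_distinct : IsClosed (distinct Y n : Set (power Y n).left) :=
  isClosed_iInter fun p => by
    have := (of_mono (eqι Y n p.1.1 p.1.2)).1
    exact (eqι Y n p.1.1 p.1.2).left.isOpenEmbedding.isOpen_range.isClosed_compl

/-- The cover of ordered distinct tuples. -/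
def cover : FEt.Cat X := Basic.sub (power Y n) (distinct Y n) (isClosed_distinct Y n)

/-- Its inclusion in the power. -/
def incl : cover Y n ⟶ power Y n := Basic.subι (power Y n) (distinct Y n) (isClosed_distinct Y n)

/-- The coordinates. -/
def coord (i : Fin n) : cover Y n ⟶ Y := incl Y n ≫ proj Y n i

section fibre

variable {Ω : Type u} [Field Ω] (ξ : Spec (CommRingCat.of Ω) ⟶ X)

/-- The coordinates of a point. -/
def tuple (t : FEt.fiberObj ξ (cover Y n)) : Fin n → FEt.fiberObj ξ Y := fun i =>
  (FEt.fiber ξ).map (coord Y n i) t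

theorem power_fiber_bijective :
    Function.Bijective fun (s : FEt.fiberObj ξ (power Y n)) (i : Fin n) =>
      ((FEt.fiber ξ).map (proj Y n i) s : FEt.fiberObj ξ Y) := by
  let h := isLimitFanMkObjOfIsLimit (FEt.fiber ξ) (fun _ : Fin n => Y) _ (productIsProduct fun _ : Fin n => Y)
  constructor
  · intro s t hst
    have h1 : (TypeCat.ofHom fun _ : PUnit.{u + 1} => s) = TypeCat.ofHom fun _ : PUnit.{u + 1} => t :=
      h.hom_ext fun ⟨i⟩ => ConcreteCategory.hom_ext _ _ fun _ => congrFun hst i
    exact ConcreteCategory.congr_hom h1 PUnit.unit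
  · intro f
    refine ⟨(h.lift (Fan.mk (PUnit.{u + 1}) fun i => TypeCat.ofHom fun _ => f i)) PUnit.unit, funext fun i => ?_⟩
    exact ConcreteCategory.congr_hom
      (h.fac (Fan.mk (PUnit.{u + 1}) fun i => TypeCat.ofHom fun _ => f i) ⟨i⟩) PUnit.unit

theorem mem_range_eqι_iff (s : FEt.fiberObj ξ (power Y n)) (i j : Fin n) :
    s.1 default ∈ Set.range (eqι Y n i j).left ↔
      (FEt.fiber ξ).map (proj Y n i) s = (FEt.fiber ξ).map (proj Y n j) s := by
  constructor
  · intro hs
    have := (of_mono (eqι Y n i j)).1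
    have hr : Set.range s.1 ⊆ Set.range (eqι Y n i j).left := by
      rintro _ ⟨a, rfl⟩
      rwa [Subsingleton.elim a default]
    refine Subtype.ext ?_
    change s.1 ≫ (proj Y n i).left = s.1 ≫ (proj Y n j).left
    rw [← IsOpenImmersion.lift_fac (eqι Y n i j).left s.1 hr, Category.assoc, Category.assoc]
    exact congrArg (IsOpenImmersion.lift (eqι Y n i j).left s.1 hr ≫ ·)
      (congrArg (fun φ : eqLocus Y n i j ⟶ Y => φ.left) (equalizer.condition (proj Y n i) (proj Y n j)))
  · intro h
    have hl := isLimitForkMapOfIsLimit (FEt.fiber ξ) (equalizer.condition (proj Y n i) (proj Y n j))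
      (equalizerIsEqualizer (proj Y n i) (proj Y n j))
    let k : (PUnit.{u + 1}) ⟶ (FEt.fiber ξ).obj (power Y n) := TypeCat.ofHom fun _ => s
    obtain ⟨l, hl'⟩ := Fork.IsLimit.lift' hl k (ConcreteCategory.hom_ext _ _ fun _ => h)
    let w : FEt.fiberObj ξ (eqLocus Y n i j) := l PUnit.unit
    have h2 : ((FEt.fiber ξ).map (eqι Y n i j)) w = s := ConcreteCategory.congr_hom hl' PUnit.unit
    exact ⟨w.1 default, congrArg (fun v : FEt.fiberObj ξ (power Y n) => v.1 default) h2⟩

theorem tuple_injective (t : FEt.fiberObj ξ (cover Y n)) : Function.Injective (tuple Y n ξ t) := by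
  intro i j hij
  by_contra hne
  let s : FEt.fiberObj ξ (power Y n) := (FEt.fiber ξ).map (incl Y n) t
  have h1 : s.1 default ∈ Set.range (eqι Y n i j).left := by
    rw [mem_range_eqι_iff]
    simp only [tuple, coord, Functor.map_comp] at hij
    exact hij
  exact Set.mem_iInter.mp (t.1 default).2 ⟨(i, j), hne⟩ h1

theorem tuple_bijective :
    Function.Bijective fun t : FEt.fiberObj ξ (cover Y n) =>
      (⟨tuple Y n ξ t, tuple_injective Y n ξ t⟩ : {f : Fin n → FEt.fiberObj ξ Y // Function.Injective f}) := by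
  have hc : ∀ (t : FEt.fiberObj ξ (cover Y n)) i,
      tuple Y n ξ t i = (FEt.fiber ξ).map (proj Y n i) ((FEt.fiber ξ).map (incl Y n) t) := fun t i => by
    simp only [tuple, coord, Functor.map_comp]
    rfl
  constructor
  · intro t t' h
    have h1 : (FEt.fiber ξ).map (incl Y n) t = (FEt.fiber ξ).map (incl Y n) t' :=
      (power_fiber_bijective Y n ξ).1 (funext fun i =>
        (hc t i).symm.trans ((congrFun (congrArg Subtype.val h) i).trans (hc t' i)))
    have : IsOpenImmersion (incl Y n).left := inferInstanceAs (IsOpenImmersion (distinct Y n).ι)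
    exact Subtype.ext ((cancel_mono (incl Y n).left).mp (congrArg Subtype.val h1))
  · rintro ⟨f, hf⟩
    obtain ⟨s, hs⟩ := (power_fiber_bijective Y n ξ).2 f
    have hr : Set.range s.1 ⊆ Set.range (distinct Y n).ι := by
      rintro _ ⟨a, rfl⟩
      rw [Scheme.Opens.range_ι, Subsingleton.elim a default]
      refine Set.mem_iInter.mpr fun p hp => p.2 (hf ?_)
      rw [← hs]
      exact (mem_range_eqι_iff Y n ξ s p.1.1 p.1.2).mp hp
    have : IsOpenImmersion (incl Y n).left := inferInstanceAs (IsOpenImmersion (distinct Y n).ι)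
    have hr' : Set.range s.1 ⊆ Set.range (incl Y n).left := hr
    let l : Spec (CommRingCat.of Ω) ⟶ (cover Y n).left := IsOpenImmersion.lift (incl Y n).left s.1 hr'
    have hl : l ≫ (incl Y n).left = s.1 := IsOpenImmersion.lift_fac _ _ _
    let t : FEt.fiberObj ξ (cover Y n) := ⟨l, by
      rw [← MorphismProperty.Over.w (incl Y n), reassoc_of% hl]
      exact s.2⟩
    have ht : (FEt.fiber ξ).map (incl Y n) t = s := Subtype.ext hl
    exact ⟨t, Subtype.ext (funext fun i => (hc t i).trans (by rw [ht]; exact congrFun hs i))⟩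

theorem natCard_fiber_cover [IsSepClosed Ω] (h : Nat.card (FEt.fiberObj ξ Y) = n) :
    Nat.card (FEt.fiberObj ξ (cover Y n)) = n.factorial := by
  have := finite_fiberObj ξ Y
  have := Fintype.ofFinite (FEt.fiberObj ξ Y)
  classical
  rw [Nat.card_eq_of_bijective _ (tuple_bijective Y n ξ),
    Nat.card_congr (Equiv.subtypeInjectiveEquivEmbedding (Fin n) (FEt.fiberObj ξ Y)),
    Nat.card_eq_fintype_card, Fintype.card_embedding_eq, Fintype.card_fin, ← Nat.card_eq_fintype_card, h,
    Nat.descFactorial_self]

end fibre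

theorem finrank_cover (hn : ∀ x, Scheme.Hom.finrank Y.hom x = n) (x : X) :
    Scheme.Hom.finrank (cover Y n).hom x = n.factorial := by
  obtain ⟨ξ, hξ⟩ := Sigma.exists_geomPoint x
  rw [← hξ, ← natCard_fiberObj ξ (cover Y n), natCard_fiber_cover Y n ξ]
  rw [natCard_fiberObj ξ Y]
  exact hn _

theorem surjective_cover (hn : ∀ x, Scheme.Hom.finrank Y.hom x = n) : Surjective (cover Y n).hom := by
  rw [← Scheme.Hom.one_le_finrank_iff_surjective]
  intro x
  exact (finrank_cover Y n hn x).symm ▸ Nat.factorial_pos n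

/-- Over the cover of ordered tuples the cover splits. -/
theorem exists_split (hn : ∀ x, Scheme.Hom.finrank Y.hom x = n) :
    ∃ e : pullback Y.hom (cover Y n).hom ≅ ∐ fun _ : ULift.{u} (Fin n) => (cover Y n).left,
      ∀ i, Limits.Sigma.ι (fun _ : ULift.{u} (Fin n) => (cover Y n).left) i ≫ e.inv ≫
        pullback.snd Y.hom (cover Y n).hom = 𝟙 (cover Y n).left := by
  let σ : ULift.{u} (Fin n) → ((cover Y n).left ⟶ pullback Y.hom (cover Y n).hom) := fun i =>
    pullback.lift (coord Y n i.down).left (𝟙 _)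
      ((MorphismProperty.Over.w (coord Y n i.down)).trans (Category.id_comp _).symm)
  have hσ : ∀ i, σ i ≫ pullback.snd Y.hom (cover Y n).hom = 𝟙 _ := fun i => pullback.lift_snd _ _ _
  have : IsIso (Limits.Sigma.desc σ) := by
    refine (Sigma.isIso_desc_iff _ σ hσ).mpr fun Ω _ _ η => ?_
    let t : FEt.fiberObj (η ≫ (cover Y n).hom) (cover Y n) := ⟨η, rfl⟩
    let e : Count.Sec (pullback.snd Y.hom (cover Y n).hom) η ≃ FEt.fiberObj (η ≫ (cover Y n).hom) Y :=
      { toFun := fun s => ⟨s.1 ≫ pullback.fst _ _, by rw [Category.assoc, pullback.condition, reassoc_of% s.2]⟩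
        invFun := fun s => ⟨pullback.lift s.1 η s.2, pullback.lift_snd _ _ _⟩
        left_inv := fun s => Subtype.ext (pullback.hom_ext (pullback.lift_fst _ _ _)
          ((pullback.lift_snd _ _ _).trans s.2.symm))
        right_inv := fun s => Subtype.ext (pullback.lift_fst _ _ _) }
    have := Count.finite_sec (pullback.snd Y.hom (cover Y n).hom) η
    refine (Nat.bijective_iff_injective_and_card _).mpr ⟨?_, ?_⟩
    · intro i j hij
      have h1 := congrArg (fun w : Count.Sec (pullback.snd Y.hom (cover Y n).hom) η =>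
        w.1 ≫ pullback.fst Y.hom (cover Y n).hom) hij
      simp only [σ, Category.assoc, pullback.lift_fst] at h1
      exact ULift.down_injective (tuple_injective Y n _ t (Subtype.ext h1))
    · rw [Nat.card_congr e, natCard_fiberObj _ Y, hn]
      simp
  refine ⟨(asIso (Limits.Sigma.desc σ)).symm, fun i => ?_⟩
  rw [Iso.symm_inv, asIso_hom, Limits.Sigma.ι_desc_assoc]
  exact hσ i

end Groth.Agent.FEtCat.Ordered
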