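import Groth.Agent.FEtCat.Basic
import Groth.Agent.SGA1Quot.Sigma

/-!
# Trivial covers and families of sections
-/

set_option backward.isDefEq.respectTransparency.types false

universe u

open CategoryTheory CategoryTheory.Limits AlgebraicGeometry

noncomputable section

namespace Groth.Agent.FEtCat.Sigma

open Groth.Agent.FEtCat.Basic

variable {Y P : Scheme.{u}} {α : Type u} [Finite α]

instance isFinite_fold : IsFinite (Limits.Sigma.desc fun _ : α => 𝟙 Y) :=
  SGA1Quot.isFinite_sigmaDesc α (fun _ => Y) (fun _ => 𝟙 Y) fun _ => inferInstance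

instance etale_fold : Etale (Limits.Sigma.desc fun _ : α => 𝟙 Y) :=
  IsZariskiLocalAtSource.sigmaDesc (P := @Etale) fun _ => inferInstance

theorem exists_range_ι (x : (∐ fun _ : α => Y : Scheme.{u})) :
    ∃ (a : α) (y : Y), Limits.Sigma.ι (fun _ : α => Y) a y = x := by
  obtain ⟨⟨a, y⟩, rfl⟩ := (sigmaMk fun _ : α => Y).surjective x
  exact ⟨a, y, (sigmaMk_mk (fun _ : α => Y) a y).symm⟩

theorem ι_injective {a b : α} {x y : Y} (h : Limits.Sigma.ι (fun _ : α => Y) a x = Limits.Sigma.ι (fun _ : α => Y) b y) :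
    a = b := by
  rw [← sigmaMk_mk, ← sigmaMk_mk] at h
  exact congrArg Sigma.fst ((sigmaMk fun _ : α => Y).injective h)

/-- The points of a trivial cover. -/
theorem fold_sec_bijective {Ω : Type u} [Field Ω] (η : Spec (CommRingCat.of Ω) ⟶ Y) :
    Function.Bijective fun a : α =>
      (⟨η ≫ Limits.Sigma.ι (fun _ : α => Y) a, by simp⟩ : Count.Sec (Limits.Sigma.desc fun _ : α => 𝟙 Y) η) := by
  constructor
  · intro a b h
    have h' := congrArg (fun s : Count.Sec (Limits.Sigma.desc fun _ : α => 𝟙 Y) η => s.1 default) h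
    exact ι_injective h'
  · rintro ⟨s, hs⟩
    obtain ⟨a, y, hay⟩ := exists_range_ι (s default)
    refine ⟨a, Subtype.ext ?_⟩
    have hr : Set.range s ⊆ Set.range (Limits.Sigma.ι (fun _ : α => Y) a) := by
      rintro _ ⟨z, rfl⟩
      rw [Subsingleton.elim z default]
      exact ⟨y, hay⟩
    have h1 := IsOpenImmersion.lift_fac (Limits.Sigma.ι (fun _ : α => Y) a) s hr
    have h2 : IsOpenImmersion.lift (Limits.Sigma.ι (fun _ : α => Y) a) s hr = η := by
      rw [← hs]
      conv_rhs => rw [← h1, Category.assoc, Limits.Sigma.ι_desc, Category.comp_id]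
    change η ≫ _ = s
    rw [← h2]
    exact h1

/-- A finite family of sections trivializes a cover iff it gives bijections on geometric fibres. -/
theorem isIso_desc_iff (a : P ⟶ Y) [IsFinite a] [Etale a] (σ : α → (Y ⟶ P)) (hσ : ∀ i, σ i ≫ a = 𝟙 Y) :
    IsIso (Limits.Sigma.desc σ) ↔
      ∀ (Ω : Type u) (_ : Field Ω) (_ : IsAlgClosed Ω) (η : Spec (CommRingCat.of Ω) ⟶ Y),
        Function.Bijective fun i : α => (⟨η ≫ σ i, by rw [Category.assoc, hσ, Category.comp_id]⟩ : Count.Sec a η) := by
  let φ : Basic.mk (Limits.Sigma.desc fun _ : α => 𝟙 Y) ⟶ Basic.mk a :=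
    Basic.homMk (Y := Basic.mk (Limits.Sigma.desc fun _ : α => 𝟙 Y)) (Z := Basic.mk a) (Limits.Sigma.desc σ)
      (show Limits.Sigma.desc σ ≫ a = Limits.Sigma.desc (fun _ : α => 𝟙 Y) from
        Limits.Sigma.hom_ext _ _ fun i => by rw [Limits.Sigma.ι_desc_assoc, hσ, Limits.Sigma.ι_desc])
  have key : ∀ {Ω : Type u} [Field Ω] (η : Spec (CommRingCat.of Ω) ⟶ Y),
      Function.Bijective ((FEt.fiber η).map φ) ↔
        Function.Bijective fun i : α => (⟨η ≫ σ i, by rw [Category.assoc, hσ, Category.comp_id]⟩ : Count.Sec a η) := by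
    intro Ω _ η
    refine (Function.Bijective.of_comp_iff _ (fold_sec_bijective η)).symm.trans (Iff.of_eq (congrArg _ ?_))
    funext i
    refine Subtype.ext ?_
    change (η ≫ Limits.Sigma.ι (fun _ : α => Y) i) ≫ Limits.Sigma.desc σ = η ≫ σ i
    simp
  constructor
  · intro h Ω _ _ η
    have : IsIso φ.left := h
    have := isIso_of_left φ
    exact (key η).mp (ConcreteCategory.bijective_of_isIso ((FEt.fiber η).map φ))
  · intro h
    have := isIso_of_forall_bijective φ fun Ω hf ha η => (key η).mpr (h Ω hf ha η)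
    exact isIso_left φ

/-- An algebraically closed point at a given point. -/
theorem exists_geomPoint (y : Y) : ∃ η : Spec (CommRingCat.of (AlgebraicClosure (Y.residueField y))) ⟶ Y,
    η default = y :=
  ⟨Spec.map (CommRingCat.ofHom (algebraMap (Y.residueField y) (AlgebraicClosure (Y.residueField y)))) ≫
    Y.fromSpecResidueField y, by
      simp only [Scheme.Hom.comp_apply]
      exact Scheme.fromSpecResidueField_apply _ _⟩

end Groth.Agent.FEtCat.Sigma
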