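import Groth.Agent.FEtCat.Basic
import Mathlib.AlgebraicGeometry.Geometrically.Connected

/-!
# Full faithfulness of base change of finite étale covers through clopen subsets
-/

noncomputable section

universe u

open CategoryTheory CategoryTheory.Limits AlgebraicGeometry Topology

namespace Groth.Agent.FEtCat.Full

open Groth.Agent.FEtCat.Basic

variable {X X' : Scheme.{u}} (f : X' ⟶ X)

/-- Clopen subsets of covers are determined by their preimages in the base change. -/
def ClopenInj : Prop :=
  ∀ (Y : FEt.Cat X) (W : Set Y.left), IsClopen W → pullback.fst Y.hom f ⁻¹' W = ∅ → W = ∅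

/-- Every clopen subset of the base change of a cover comes from the cover. -/
def ClopenSurj : Prop :=
  ∀ (Y : FEt.Cat X) (W' : Set (pullback Y.hom f : Scheme.{u})), IsClopen W' →
    ∃ W : Set Y.left, IsClopen W ∧ pullback.fst Y.hom f ⁻¹' W = W'

theorem faithful_of_clopenInj (h : ClopenInj f) : (FEt.restrict f).Faithful := by
  constructor
  intro Y Z φ ψ e
  refine Basic.hom_ext ?_
  have e' : pullback.fst Y.hom f ≫ φ.left = pullback.fst Y.hom f ≫ ψ.left := by
    have h1 := congrArg (fun t => t.left ≫ pullback.fst Z.hom f) e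
    simp [FEt.restrict] at h1
    exact (pullback.lift_fst _ _ _).symm.trans (h1.trans (pullback.lift_fst _ _ _))
  refine Count.eq_of_comp_eq Z.hom φ.left ψ.left
    ((MorphismProperty.Over.w φ).trans (MorphismProperty.Over.w ψ).symm) _ e' fun W hW hsub => ?_
  have h1 : pullback.fst Y.hom f ⁻¹' Wᶜ = ∅ :=
    Set.eq_empty_of_forall_notMem fun y hy => hy (hsub ⟨y, rfl⟩)
  simpa using h Y _ hW.compl h1

/-- A map of covers from a map of their base changes, through the graph. -/
theorem exists_preimage (hinj : ClopenInj f) (hsurj : ClopenSurj f) {Y Z : FEt.Cat X}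
    (ψ : pullback Y.hom f ⟶ pullback Z.hom f) (hψ : ψ ≫ pullback.snd Z.hom f = pullback.snd Y.hom f) :
    ∃ φ : Y ⟶ Z, pullback.fst Y.hom f ≫ φ.left = ψ ≫ pullback.fst Z.hom f := by
  let b : pullback Y.hom Z.hom ⟶ X := pullback.fst Y.hom Z.hom ≫ Y.hom
  let a : pullback b f ⟶ pullback Y.hom Z.hom := pullback.fst b f
  let p' : pullback b f ⟶ pullback Y.hom f :=
    pullback.lift (a ≫ pullback.fst Y.hom Z.hom) (pullback.snd b f)
      ((Category.assoc _ _ _).trans pullback.condition)
  have hY : pullback.fst Y.hom f ≫ Y.hom = (ψ ≫ pullback.fst Z.hom f) ≫ Z.hom := by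
    rw [Category.assoc, pullback.condition, pullback.condition, reassoc_of% hψ]
  let s : pullback Y.hom f ⟶ pullback Y.hom Z.hom :=
    pullback.lift (pullback.fst Y.hom f) (ψ ≫ pullback.fst Z.hom f) hY
  have hs₁ : s ≫ pullback.fst Y.hom Z.hom = pullback.fst Y.hom f := pullback.lift_fst _ _ _
  have hs₂ : s ≫ pullback.snd Y.hom Z.hom = ψ ≫ pullback.fst Z.hom f := pullback.lift_snd _ _ _
  let t : pullback Y.hom f ⟶ pullback b f :=
    pullback.lift (f := b) (g := f) s (pullback.snd Y.hom f) (by
      change s ≫ pullback.fst Y.hom Z.hom ≫ Y.hom = _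
      rw [reassoc_of% hs₁, pullback.condition])
  have hta : t ≫ a = s := pullback.lift_fst _ _ _
  have hts : t ≫ pullback.snd b f = pullback.snd Y.hom f := pullback.lift_snd _ _ _
  have htp : t ≫ p' = 𝟙 _ := by
    apply pullback.hom_ext
    · rw [Category.assoc, pullback.lift_fst, reassoc_of% hta, hs₁, Category.id_comp]
    · rw [Category.assoc, pullback.lift_snd, hts, Category.id_comp]
  have hp' : FEt.prop p' := by
    refine MorphismProperty.of_postcomp (W := FEt.prop) (W' := FEt.prop) p' (pullback.snd Y.hom f)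
      ⟨inferInstance, inferInstance⟩ ?_
    rw [pullback.lift_snd]
    exact ⟨inferInstance, inferInstance⟩
  have := hp'.1
  have := hp'.2
  have : IsFinite (t ≫ p') := by rw [htp]; infer_instance
  have : IsFinite t := IsFinite.of_comp t p'
  have : Etale (t ≫ p') := by rw [htp]; infer_instance
  have : Etale t := Etale.of_comp t p'
  have : Mono t := mono_of_mono_fac htp
  have : IsOpenImmersion t := IsOpenImmersion.of_flat_of_mono t
  have : IsFinite b := inferInstanceAs (IsFinite (pullback.fst Y.hom Z.hom ≫ Y.hom))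
  have : Etale b := inferInstanceAs (Etale (pullback.fst Y.hom Z.hom ≫ Y.hom))
  obtain ⟨W, hW, hWt⟩ : ∃ W : Set ↥(pullback Y.hom Z.hom : Scheme.{u}),
      IsClopen W ∧ pullback.fst b f ⁻¹' W = Set.range t :=
    hsurj (Basic.mk b) (Set.range t) ⟨t.isClosedMap.isClosed_range, t.isOpenEmbedding.isOpen_range⟩
  let U : (pullback Y.hom Z.hom : Scheme.{u}).Opens := ⟨W, hW.2⟩
  have : IsClosedImmersion U.ι := by
    refine IsClosedImmersion.of_isPreimmersion _ ?_
    rw [Scheme.Opens.range_ι]
    exact hW.1
  let q : U.toScheme ⟶ Y.left := U.ι ≫ pullback.fst Y.hom Z.hom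
  have : IsFinite q := inferInstanceAs (IsFinite (U.ι ≫ pullback.fst Y.hom Z.hom))
  have : Etale q := inferInstanceAs (Etale (U.ι ≫ pullback.fst Y.hom Z.hom))
  have hl : Set.range s ⊆ Set.range U.ι := by
    rintro _ ⟨y, rfl⟩
    rw [Scheme.Opens.range_ι]
    have : t y ∈ pullback.fst b f ⁻¹' W := by rw [hWt]; exact ⟨y, rfl⟩
    rw [← hta, Scheme.Hom.comp_apply]
    exact this
  let l := IsOpenImmersion.lift U.ι s hl
  have hlι : l ≫ U.ι = s := IsOpenImmersion.lift_fac _ _ _
  have hlq : l ≫ q = pullback.fst Y.hom f := by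
    change l ≫ U.ι ≫ pullback.fst Y.hom Z.hom = _
    rw [reassoc_of% hlι, hs₁]
  have hrank : ∀ y' : ↥(pullback Y.hom f : Scheme.{u}),
      Scheme.Hom.finrank q (pullback.fst Y.hom f y') = 1 := by
    intro y'
    let κ := (pullback Y.hom f).residueField y'
    let η : Spec (CommRingCat.of (AlgebraicClosure κ)) ⟶ pullback Y.hom f :=
      Spec.map (CommRingCat.ofHom (algebraMap κ (AlgebraicClosure κ))) ≫
        (pullback Y.hom f).fromSpecResidueField y'
    have hη : η default = y' := by
      simp only [η, Scheme.Hom.comp_apply]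
      exact Scheme.fromSpecResidueField_apply _ _
    have hqy : pullback.fst Y.hom f y' = (η ≫ pullback.fst Y.hom f) default := by
      rw [Scheme.Hom.comp_apply, hη]
    rw [hqy, ← Count.natCard_sec q (η ≫ pullback.fst Y.hom f), Nat.card_eq_one_iff_unique]
    refine ⟨⟨fun w₁ w₂ => Subtype.ext ?_⟩, ⟨⟨η ≫ l, by rw [Category.assoc, hlq]⟩⟩⟩
    suffices H : ∀ w : Spec (CommRingCat.of (AlgebraicClosure κ)) ⟶ U.toScheme,
        w ≫ U.ι ≫ pullback.fst Y.hom Z.hom = η ≫ pullback.fst Y.hom f → w ≫ U.ι = η ≫ s by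
      exact (cancel_mono U.ι).mp ((H w₁.1 w₁.2).trans (H w₂.1 w₂.2).symm)
    intro w hw
    let w' : Spec (CommRingCat.of (AlgebraicClosure κ)) ⟶ pullback b f :=
      pullback.lift (w ≫ U.ι) (η ≫ pullback.snd Y.hom f) (by
        change (w ≫ U.ι) ≫ pullback.fst Y.hom Z.hom ≫ Y.hom = _
        rw [Category.assoc, reassoc_of% hw, Category.assoc, pullback.condition]; simp [η])
    have hw'a : w' ≫ a = w ≫ U.ι := pullback.lift_fst _ _ _
    have hw'p : w' ≫ p' = η := by
      apply pullback.hom_ext
      · rw [Category.assoc, pullback.lift_fst, reassoc_of% hw'a, hw]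
      · rw [Category.assoc, pullback.lift_snd, pullback.lift_snd]
    have hr : Set.range w' ⊆ Set.range t := by
      rintro _ ⟨x, rfl⟩
      rw [← hWt]
      change (w' ≫ a) x ∈ W
      rw [hw'a, Scheme.Hom.comp_apply]
      exact (w x).2
    have hz : IsOpenImmersion.lift t w' hr = η := by
      rw [← hw'p]
      conv_rhs => rw [← IsOpenImmersion.lift_fac t w' hr, Category.assoc, htp, Category.comp_id]
    rw [← hw'a, ← IsOpenImmersion.lift_fac t w' hr, hz, Category.assoc, hta]
  have : IsIso q := by
    rw [Scheme.Hom.isIso_iff_finrank_eq]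
    funext y
    by_contra hy
    let B : Set Y.left := {y | Scheme.Hom.finrank q y ≠ 1}
    have hB : IsClopen B := by
      have hl := Scheme.Hom.isLocallyConstant_finrank q
      exact ⟨(hl.isClopen_fiber 1).compl.1, (hl.isClopen_fiber 1).compl.2⟩
    exact Set.notMem_empty y ((hinj Y B hB (Set.eq_empty_of_forall_notMem fun y' h => h (hrank y'))) ▸ hy)
  refine ⟨Basic.homMk (inv q ≫ U.ι ≫ pullback.snd Y.hom Z.hom) ?_, ?_⟩
  · rw [Category.assoc, Category.assoc, ← pullback.condition, IsIso.inv_comp_eq]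
    exact (Category.assoc _ _ _).symm
  · change pullback.fst Y.hom f ≫ inv q ≫ U.ι ≫ pullback.snd Y.hom Z.hom = _
    rw [← hlq, Category.assoc, IsIso.hom_inv_id_assoc, reassoc_of% hlι, hs₂]

theorem full_faithful (hinj : ClopenInj f) (hsurj : ClopenSurj f) :
    (FEt.restrict f).Full ∧ (FEt.restrict f).Faithful := by
  refine ⟨⟨fun {Y Z} ψ => ?_⟩, faithful_of_clopenInj f hinj⟩
  obtain ⟨φ, hφ⟩ := exists_preimage f hinj hsurj ψ.left (MorphismProperty.Over.w ψ)
  refine ⟨φ, Basic.hom_ext ?_⟩
  refine pullback.hom_ext ?_ ?_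
  · refine Eq.trans ?_ hφ
    simp [FEt.restrict]
    exact pullback.lift_fst _ _ _
  · refine (MorphismProperty.Over.w ((FEt.restrict f).map φ)).trans (MorphismProperty.Over.w ψ).symm

/-- Base change along a map with connected fibres which is a topological quotient on every cover. -/
theorem clopen_of_isQuotientMap (h : ∀ (Y : FEt.Cat X),
    IsQuotientMap (pullback.fst Y.hom f) ∧ ∀ y, _root_.IsPreconnected (pullback.fst Y.hom f ⁻¹' {y})) :
    ClopenInj f ∧ ClopenSurj f := by
  refine ⟨fun Y W _ hp => Set.eq_empty_of_forall_notMem fun w hw => by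
      obtain ⟨v, rfl⟩ := (h Y).1.surjective w
      exact Set.notMem_empty v (hp ▸ hw),
    fun Y W' hW' => ⟨pullback.fst Y.hom f '' W', ?_⟩⟩
  have hsat : pullback.fst Y.hom f ⁻¹' (pullback.fst Y.hom f '' W') = W' := by
    refine Set.Subset.antisymm (fun z ⟨z', hz', e⟩ => ?_) (Set.subset_preimage_image _ _)
    exact ((h Y).2 (pullback.fst Y.hom f z)).subset_isClopen hW' ⟨z', e, hz'⟩ rfl
  refine ⟨⟨?_, ?_⟩, hsat⟩
  · rw [← (h Y).1.isClosed_preimage, hsat]; exact hW'.1
  · rw [← (h Y).1.isOpen_preimage, hsat]; exact hW'.2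

/-- Connectedness of all base changes to algebraically closed fields gives geometric connectedness. -/
theorem geometricallyConnected_of_algClosed
    (h : ∀ (Ω : Type u) [Field Ω] [IsAlgClosed Ω] (s : Spec (CommRingCat.of Ω) ⟶ X),
      ConnectedSpace ↥(pullback f s)) : GeometricallyConnected f := by
  rw [GeometricallyConnected.eq_geometrically, geometrically_iff_of_isClosedUnderIsomorphisms]
  intro K _ y
  let e : Spec (CommRingCat.of (AlgebraicClosure K)) ⟶ Spec (CommRingCat.of K) :=
    Spec.map (CommRingCat.ofHom (algebraMap K (AlgebraicClosure K)))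
  have : Surjective e := ⟨fun x => ⟨default, Subsingleton.elim _ _⟩⟩
  let m := pullback.snd f y
  have hc : ConnectedSpace ↥(pullback m e) := by
    have := h (AlgebraicClosure K) (e ≫ y)
    exact (pullbackLeftPullbackSndIso f y e).symm.hom.homeomorph.surjective.connectedSpace
      (pullbackLeftPullbackSndIso f y e).symm.hom.continuous
  have : Surjective (pullback.fst m e) := inferInstance
  exact (pullback.fst m e).surjective.connectedSpace (pullback.fst m e).continuous

end Groth.Agent.FEtCat.Full
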