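import Groth.Agent.EtaleSite.TopInv
import Groth.Agent.AlgSp.DescentAffine
import Groth.Agent.FpqcDesc.Props
import Mathlib.AlgebraicGeometry.Sites.Fpqc

/-!
# Descending finite étale schemes along an étale surjection, over a universal homeomorphism
-/

set_option backward.isDefEq.respectTransparency.types false

noncomputable section

universe u

open CategoryTheory CategoryTheory.Limits AlgebraicGeometry
open scoped TensorProduct

namespace Groth.Agent.FEtCat.Descend

theorem exists_descend {A A' B' : Type u} [CommRing A] [CommRing A'] [CommRing B'] [Algebra A A']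
    [Algebra A B'] [Algebra A' B'] [IsScalarTower A A' B'] {X U : Scheme.{u}}
    (f : X ⟶ Spec (CommRingCat.of A)) [IsIntegralHom f] [UniversallyInjective f] [Surjective f]
    (v : Spec (CommRingCat.of A') ⟶ Spec (CommRingCat.of A)) (hv : v = Spec.map (CommRingCat.ofHom (algebraMap A A')))
    [Etale v] [Surjective v]
    (w : Spec (CommRingCat.of B') ⟶ Spec (CommRingCat.of A')) (hw : w = Spec.map (CommRingCat.ofHom (algebraMap A' B')))
    [IsFinite w] [Etale w] (u : U ⟶ X)
    (κ : pullback (w ≫ v) f ⟶ U)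
    (μ : pullback (w ≫ v) f ⟶ pullback v f)
    (hμ₁ : μ ≫ pullback.fst v f = pullback.fst (w ≫ v) f ≫ w)
    (hμ₂ : μ ≫ pullback.snd v f = pullback.snd (w ≫ v) f)
    (hiso : IsPullback κ μ u (pullback.snd v f)) :
    ∃ (Z : Scheme.{u}) (z : Z ⟶ Spec (CommRingCat.of A)), IsFinite z ∧ Etale z ∧
      ∃ κ₀ : pullback z f ⟶ U, IsIso κ₀ ∧ κ₀ ≫ u = pullback.snd z f := by
  have : Etale (w ≫ v) := inferInstance
  have hκ : κ ≫ u = pullback.snd (w ≫ v) f := hiso.w.trans hμ₂
  have hwv : Spec.map (CommRingCat.ofHom (algebraMap A B')) = w ≫ v := by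
    rw [hv, hw, ← Spec.map_comp, ← CommRingCat.ofHom_comp, ← IsScalarTower.algebraMap_eq]
  -- the product `V ×_Y W`
  let T : Scheme.{u} := Spec (CommRingCat.of (A' ⊗[A] B'))
  let pr₁ : T ⟶ Spec (CommRingCat.of A') :=
    Spec.map (CommRingCat.ofHom (Algebra.TensorProduct.includeLeftRingHom : A' →+* A' ⊗[A] B'))
  let pr₂ : T ⟶ Spec (CommRingCat.of B') :=
    Spec.map (CommRingCat.ofHom (Algebra.TensorProduct.includeRight (R := A) (A := A') (B := B')).toRingHom)
  have hT : IsPullback pr₁ pr₂ v (w ≫ v) := by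
    rw [← hwv, hv]
    exact AlgSp.isPullback_tensor A A' B'
  -- the descent datum
  let TX := pullback (pr₂ ≫ w ≫ v) f
  let π : TX ⟶ T := pullback.fst _ _
  let xT : TX ⟶ X := pullback.snd _ _
  have hTX : π ≫ pr₂ ≫ w ≫ v = xT ≫ f := pullback.condition
  let j : TX ⟶ pullback (w ≫ v) f := pullback.lift (π ≫ pr₂) xT (by rw [Category.assoc, hTX])
  let k : TX ⟶ pullback v f := pullback.lift (π ≫ pr₁) xT (by rw [Category.assoc, hT.w, hTX])
  let ψ : TX ⟶ pullback (w ≫ v) f := hiso.lift (j ≫ κ) k (by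
    rw [Category.assoc, hκ, pullback.lift_snd, pullback.lift_snd])
  have hψκ : ψ ≫ κ = j ≫ κ := hiso.lift_fst _ _ _
  have hψμ : ψ ≫ μ = k := hiso.lift_snd _ _ _
  have hψx : ψ ≫ pullback.snd (w ≫ v) f = xT := by
    rw [← hμ₂, ← Category.assoc, hψμ, pullback.lift_snd]
  have : Etale (Over.mk (w ≫ v)).hom := inferInstanceAs (Etale (w ≫ v))
  obtain ⟨φ, hφ⟩ := (EtaleSite.bijective_pullback_map f (Over.mk (w ≫ v)) (Over.mk (pr₂ ≫ w ≫ v))).2
    (Over.homMk ψ hψx)
  let t : T ⟶ Spec (CommRingCat.of B') := φ.left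
  have htv : t ≫ w ≫ v = pr₂ ≫ w ≫ v := Over.w φ
  have hπt : π ≫ t = ψ ≫ pullback.fst (w ≫ v) f := by
    have h := congrArg (fun q => q.left ≫ pullback.fst (w ≫ v) f) hφ
    refine Eq.trans ?_ h
    exact (pullback.lift_fst _ _ _).symm
  have : Surjective π := inferInstance
  have htw : t ≫ w = pr₁ := by
    refine EtaleSite.hom_ext_of_surjective v (t ≫ w) pr₁ (by rw [Category.assoc, htv, hT.w]) π ?_
    rw [reassoc_of% hπt, ← hμ₁, reassoc_of% hψμ, pullback.lift_fst]
  -- points
  have hK : ∀ {S : Scheme.{u}} (m : S ⟶ T) (x : S ⟶ X) (h₁ : (m ≫ t) ≫ w ≫ v = x ≫ f)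
      (h₂ : (m ≫ pr₂) ≫ w ≫ v = x ≫ f),
      pullback.lift (m ≫ t) x h₁ ≫ κ = pullback.lift (m ≫ pr₂) x h₂ ≫ κ := by
    intro S m x h₁ h₂
    let mX : S ⟶ TX := pullback.lift m x ((Category.assoc _ _ _).symm.trans h₂)
    have e₁ : pullback.lift (m ≫ t) x h₁ = mX ≫ ψ := by
      apply pullback.hom_ext
      · rw [pullback.lift_fst, Category.assoc, ← hπt, pullback.lift_fst_assoc]
      · rw [pullback.lift_snd, Category.assoc, hψx, pullback.lift_snd]
    have e₂ : pullback.lift (m ≫ pr₂) x h₂ = mX ≫ j := by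
      apply pullback.hom_ext
      · rw [pullback.lift_fst, Category.assoc, pullback.lift_fst, pullback.lift_fst_assoc]
      · rw [pullback.lift_snd, Category.assoc, pullback.lift_snd, pullback.lift_snd]
    rw [e₁, e₂, Category.assoc, Category.assoc, hψκ]
  have hext : ∀ {S : Scheme.{u}} (a b : S ⟶ Spec (CommRingCat.of B')) (_ : a ≫ w = b ≫ w),
      (∀ (SX : Scheme.{u}) (q : SX ⟶ S) (x : SX ⟶ X) (h₁ : (q ≫ a) ≫ w ≫ v = x ≫ f)
        (h₂ : (q ≫ b) ≫ w ≫ v = x ≫ f),
        pullback.lift (q ≫ a) x h₁ ≫ κ = pullback.lift (q ≫ b) x h₂ ≫ κ) → a = b := by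
    intro S a b hab H
    have hab' : a ≫ w ≫ v = b ≫ w ≫ v := by rw [reassoc_of% hab]
    let q : pullback (a ≫ w ≫ v) f ⟶ S := pullback.fst _ _
    let x : pullback (a ≫ w ≫ v) f ⟶ X := pullback.snd _ _
    have h₁ : (q ≫ a) ≫ w ≫ v = x ≫ f := (Category.assoc _ _ _).trans pullback.condition
    have h₂ : (q ≫ b) ≫ w ≫ v = x ≫ f :=
      ((Category.assoc _ _ _).trans (congrArg (q ≫ ·) hab'.symm)).trans ((Category.assoc _ _ _).symm.trans h₁)
    refine EtaleSite.hom_ext_of_surjective (w ≫ v) a b hab' q ?_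
    have hl : pullback.lift (q ≫ a) x h₁ = pullback.lift (q ≫ b) x h₂ := by
      refine hiso.hom_ext (H _ q x h₁ h₂) (pullback.hom_ext ?_ ?_)
      · simp only [Category.assoc, hμ₁, pullback.lift_fst_assoc]
        rw [hab]
      · simp only [Category.assoc, hμ₂, pullback.lift_snd]
    exact (pullback.lift_fst _ _ h₁).symm.trans ((congrArg (· ≫ pullback.fst (w ≫ v) f) hl).trans (pullback.lift_fst _ _ h₂))
  obtain ⟨θ₀, hθ₀⟩ := Spec.map_surjective t
  have hθ : ∀ a : A', θ₀.hom (algebraMap A' B' a) = a ⊗ₜ 1 := by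
    intro a
    have h := htw
    rw [← hθ₀, hw] at h
    rw [← Spec.map_comp] at h
    exact RingHom.congr_fun (congrArg CommRingCat.Hom.hom (Spec.map_injective h)) a
  let θ : B' →ₐ[A] A' ⊗[A] B' :=
    { θ₀.hom with
      commutes' := fun r => by
        change θ₀.hom (algebraMap A B' r) = _
        rw [IsScalarTower.algebraMap_apply A A' B', hθ]
        rfl }
  have sθ : Spec.map (CommRingCat.ofHom θ.toRingHom) = t := hθ₀
  let ι : B' →ₐ[A] A' ⊗[A] B' := Algebra.TensorProduct.includeRight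
  let μ' : A' ⊗[A] B' →ₐ[A] B' :=
    Algebra.TensorProduct.lift (IsScalarTower.toAlgHom A A' B') (AlgHom.id A B') (fun _ _ => Commute.all _ _)
  let sp {C D : Type u} [CommRing C] [Algebra A C] [CommRing D] [Algebra A D] (g : C →ₐ[A] D) :
      Spec (CommRingCat.of D) ⟶ Spec (CommRingCat.of C) := Spec.map (CommRingCat.ofHom g.toRingHom)
  have sp_comp {C D E : Type u} [CommRing C] [Algebra A C] [CommRing D] [Algebra A D] [CommRing E] [Algebra A E]
      (g : C →ₐ[A] D) (g' : D →ₐ[A] E) : sp g' ≫ sp g = sp (g'.comp g) := (Spec.map_comp _ _).symm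
  have sp_inj {C D : Type u} [CommRing C] [Algebra A C] [CommRing D] [Algebra A D] {g g' : C →ₐ[A] D}
      (h : sp g = sp g') : g = g' :=
    AlgHom.ext fun c => RingHom.congr_fun (congrArg CommRingCat.Hom.hom (Spec.map_injective h)) c
  have hunit : μ'.comp θ = AlgHom.id A B' := by
    have e₂ : sp μ' ≫ pr₂ = 𝟙 _ := by
      change sp μ' ≫ sp ι = _
      rw [sp_comp, show μ'.comp ι = AlgHom.id A B' from AlgHom.ext fun b => by simp [μ', ι]]
      exact Spec.map_id _
    have e₁ : (sp μ' ≫ t) ≫ w = 𝟙 _ ≫ w := by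
      rw [Category.assoc, htw, Category.id_comp]
      change sp μ' ≫ sp (Algebra.TensorProduct.includeLeft (R := A) (S := A) (A := A') (B := B')) = _
      rw [sp_comp, hw,
        show μ'.comp Algebra.TensorProduct.includeLeft = IsScalarTower.toAlgHom A A' B' from
          AlgHom.ext fun b => by simp [μ']]
      rfl
    have h := hext (sp μ' ≫ t) (𝟙 _) e₁ fun SX q x h₁ h₂ => by
      have := hK (q ≫ sp μ') x (by simpa using h₁) (by simpa [reassoc_of% e₂] using h₂)
      simp only [Category.assoc] at this ⊢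
      simpa [e₂] using this
    refine sp_inj ?_
    rw [← sp_comp]
    refine (congrArg (sp μ' ≫ ·) sθ).trans (h.trans ?_)
    exact (Spec.map_id _).symm
  have hcocycle : (Algebra.TensorProduct.map (AlgHom.id A A') θ).comp θ =
      (Algebra.TensorProduct.map (AlgHom.id A A') ι).comp θ := by
    let aθ := Algebra.TensorProduct.map (AlgHom.id A A') θ
    let aι := Algebra.TensorProduct.map (AlgHom.id A A') ι
    let c : A' ⊗[A] B' →ₐ[A] A' ⊗[A] (A' ⊗[A] B') := Algebra.TensorProduct.includeRight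
    have e₁ : sp aθ ≫ pr₁ = sp aι ≫ pr₁ := by
      change sp aθ ≫ sp (Algebra.TensorProduct.includeLeft (R := A) (S := A) (A := A') (B := B')) =
        sp aι ≫ sp (Algebra.TensorProduct.includeLeft (R := A) (S := A) (A := A') (B := B'))
      rw [sp_comp, sp_comp]
      congr 1
      exact AlgHom.ext fun b => by simp [aθ, aι]
    have e₂ : sp aθ ≫ pr₂ = sp c ≫ t := by
      rw [← sθ]
      change sp aθ ≫ sp ι = sp c ≫ sp θ
      rw [sp_comp, sp_comp]
      congr 1
    have e₃ : sp aι ≫ pr₂ = sp c ≫ pr₂ := by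
      change sp aι ≫ sp ι = sp c ≫ sp ι
      rw [sp_comp, sp_comp]
      congr 1
    have h := hext (sp aθ ≫ t) (sp aι ≫ t) (by rw [Category.assoc, Category.assoc, htw, e₁])
      fun SX q x h₁ h₂ => by
        have c₁ : (q ≫ sp aθ ≫ pr₂) ≫ w ≫ v = x ≫ f := by
          rw [← h₁, Category.assoc, Category.assoc, Category.assoc, Category.assoc, htv]
        have c₂ : (q ≫ sp aι ≫ pr₂) ≫ w ≫ v = x ≫ f := by
          rw [← h₂, Category.assoc, Category.assoc, Category.assoc, Category.assoc, htv]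
        have k₁ := hK (q ≫ sp aθ) x (by simpa using h₁) (by simpa using c₁)
        have k₂ := hK (q ≫ sp aι) x (by simpa using h₂) (by simpa using c₂)
        have k₃ := hK (q ≫ sp c) x (by simpa [e₂] using c₁) (by simpa [e₃] using c₂)
        simp only [Category.assoc, e₂] at k₁
        simp only [Category.assoc, e₃] at k₂
        simp only [Category.assoc] at k₃
        exact k₁.trans (k₃.trans k₂.symm)
    rw [← sθ] at h
    refine sp_inj ?_
    rw [← sp_comp, ← sp_comp]
    exact h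
  -- the descended algebra
  let B := AlgHom.equalizer θ ι
  have : Flat v := inferInstance
  have : Module.Flat A A' := by
    have h := ‹Flat v›
    rw [hv, HasRingHomProperty.Spec_iff (P := @Flat)] at h
    exact RingHom.flat_algebraMap_iff.1 h
  have hbij := AlgSp.bijective_lift_equalizer θ hθ (AlgHom.congr_fun hunit) (AlgHom.congr_fun hcocycle)
  let e := AlgEquiv.ofBijective _ hbij
  let z : Spec (CommRingCat.of B) ⟶ Spec (CommRingCat.of A) := Spec.map (CommRingCat.ofHom (algebraMap A B))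
  let q : Spec (CommRingCat.of B') ⟶ Spec (CommRingCat.of B) := sp B.val
  have hq : t ≫ q = pr₂ ≫ q := by
    rw [← sθ]
    change sp θ ≫ sp B.val = sp ι ≫ sp B.val
    rw [sp_comp, sp_comp]
    congr 1
    exact AlgHom.ext fun b => b.2
  have hsq : IsPullback w q v z := by
    rw [hv, hw]
    refine IsPullback.of_iso (AlgSp.isPullback_tensor A A' B) (Scheme.Spec.mapIso e.toRingEquiv.toCommRingCatIso.symm.op)
      (Iso.refl _) (Iso.refl _) (Iso.refl _) ?_ ?_ (by simp) (by simp [z])
    · simp only [Iso.refl_hom, Category.comp_id, Functor.mapIso_hom, Iso.op_hom]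
      change Spec.map _ = Spec.map _ ≫ Spec.map _
      rw [← Spec.map_comp]
      congr 1
      ext a
      change a ⊗ₜ 1 = e.symm (algebraMap A' B' a)
      rw [AlgEquiv.eq_symm_apply]
      simp [e]
    · simp only [Iso.refl_hom, Category.comp_id, Functor.mapIso_hom, Iso.op_hom]
      change Spec.map _ = Spec.map _ ≫ Spec.map _
      rw [← Spec.map_comp]
      congr 1
      ext b
      change 1 ⊗ₜ b = e.symm (b : B')
      rw [AlgEquiv.eq_symm_apply]
      simp [e]
  have hQv : (@Surjective ⊓ @Flat ⊓ @QuasiCompact : MorphismProperty Scheme.{u}) v :=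
    ⟨⟨inferInstance, inferInstance⟩, inferInstance⟩
  have hzf : IsFinite z := by
    have := FpqcDesc.descendsAlong_isFinite.{u}
    exact MorphismProperty.of_isPullback_of_descendsAlong (P := @IsFinite) (Q := FpqcDesc.FPQC) hsq hQv ‹_›
  have hze : Etale z :=
    MorphismProperty.of_isPullback_of_descendsAlong (P := @Etale) (Q := FpqcDesc.FPQC) hsq hQv ‹_›
  -- descending the comparison map
  let qX : pullback (w ≫ v) f ⟶ pullback z f :=
    pullback.lift (pullback.fst (w ≫ v) f ≫ q) (pullback.snd (w ≫ v) f) (by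
      rw [Category.assoc, ← hsq.w, pullback.condition])
  have sq₁ : IsPullback qX (pullback.fst (w ≫ v) f) (pullback.fst z f) q := by
    refine IsPullback.of_right (h₁₂ := pullback.snd z f) (v₁₃ := f) (h₂₂ := z) ?_
      (pullback.lift_fst _ _ _) (IsPullback.of_hasPullback z f).flip
    rw [pullback.lift_snd, ← hsq.w]
    exact (IsPullback.of_hasPullback (w ≫ v) f).flip
  have sq₂ : IsPullback qX μ (pullback.snd z f) (pullback.snd v f) := by
    refine IsPullback.of_bot (v₂₁ := pullback.fst v f) (v₂₂ := f) (h₃₁ := v) ?_ ?_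
      (IsPullback.of_hasPullback v f).flip
    · rw [hμ₁, ← pullback.condition]
      exact sq₁.paste_vert hsq.flip
    · exact (pullback.lift_snd _ _ _).trans hμ₂.symm
  have hQq : (@Surjective ⊓ @Flat ⊓ @QuasiCompact : MorphismProperty Scheme.{u}) q :=
    ⟨⟨MorphismProperty.of_isPullback (P := @Surjective) hsq ‹_›,
      MorphismProperty.of_isPullback (P := @Flat) hsq ‹_›⟩, MorphismProperty.of_isPullback (P := @QuasiCompact) hsq inferInstance⟩
  have : Surjective qX := MorphismProperty.of_isPullback (P := @Surjective) sq₁.flip hQq.1.1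
  have : Flat qX := MorphismProperty.of_isPullback (P := @Flat) sq₁.flip hQq.1.2
  have : QuasiCompact qX := MorphismProperty.of_isPullback (P := @QuasiCompact) sq₁.flip hQq.2
  have hdesc : ∀ {S : Scheme.{u}} (g₁ g₂ : S ⟶ pullback (w ≫ v) f), g₁ ≫ qX = g₂ ≫ qX → g₁ ≫ κ = g₂ ≫ κ := by
    intro S g₁ g₂ h
    have hs : g₁ ≫ pullback.snd (w ≫ v) f = g₂ ≫ pullback.snd (w ≫ v) f := by
      have h' := congrArg (· ≫ pullback.snd z f) h
      simp only [Category.assoc] at h'
      rwa [show qX ≫ pullback.snd z f = pullback.snd (w ≫ v) f from pullback.lift_snd _ _ _] at h'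
    have hq' : g₁ ≫ pullback.fst (w ≫ v) f ≫ q = g₂ ≫ pullback.fst (w ≫ v) f ≫ q := by
      have h' := congrArg (· ≫ pullback.fst z f) h
      simp only [Category.assoc] at h'
      rwa [show qX ≫ pullback.fst z f = pullback.fst (w ≫ v) f ≫ q from pullback.lift_fst _ _ _] at h'
    have hc : (g₁ ≫ pullback.fst (w ≫ v) f ≫ w) ≫ v = (g₂ ≫ pullback.fst (w ≫ v) f) ≫ w ≫ v := by
      simp only [Category.assoc, pullback.condition]
      rw [reassoc_of% hs]
    let m : S ⟶ T := hT.lift _ _ hc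
    have hm₁ : m ≫ pr₁ = g₁ ≫ pullback.fst (w ≫ v) f ≫ w := hT.lift_fst _ _ _
    have hm₂ : m ≫ pr₂ = g₂ ≫ pullback.fst (w ≫ v) f := hT.lift_snd _ _ _
    have hmt : m ≫ t = g₁ ≫ pullback.fst (w ≫ v) f := by
      refine hsq.hom_ext ?_ ?_
      · rw [Category.assoc, htw, hm₁, Category.assoc]
      · rw [Category.assoc, hq, reassoc_of% hm₂, Category.assoc, hq']
    have c₁ : (m ≫ t) ≫ w ≫ v = (g₁ ≫ pullback.snd (w ≫ v) f) ≫ f := by
      rw [hmt, Category.assoc, Category.assoc, pullback.condition]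
    have c₂ : (m ≫ pr₂) ≫ w ≫ v = (g₁ ≫ pullback.snd (w ≫ v) f) ≫ f := by
      rw [hm₂, hs, Category.assoc, Category.assoc, pullback.condition]
    have key := hK m _ c₁ c₂
    rwa [show pullback.lift (m ≫ t) _ c₁ = g₁ from
        pullback.hom_ext ((pullback.lift_fst _ _ _).trans hmt) (pullback.lift_snd _ _ _),
      show pullback.lift (m ≫ pr₂) _ c₂ = g₂ from
        pullback.hom_ext ((pullback.lift_fst _ _ _).trans hm₂) ((pullback.lift_snd _ _ _).trans hs)] at key
  let κ₀ : pullback z f ⟶ U := EffectiveEpi.desc qX κ hdesc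
  have hfac : qX ≫ κ₀ = κ := EffectiveEpi.fac qX κ hdesc
  have hκ₀ : κ₀ ≫ u = pullback.snd z f := by
    rw [← cancel_epi qX, reassoc_of% hfac, hκ, pullback.lift_snd]
  refine ⟨_, z, hzf, hze, κ₀, ?_, hκ₀⟩
  have sq₃ : IsPullback qX (𝟙 _) κ₀ κ := by
    refine IsPullback.of_bot (v₂₁ := μ) (v₂₂ := u) (h₃₁ := pullback.snd v f) ?_
      (hfac.trans (Category.id_comp κ).symm) hiso
    rw [Category.id_comp, hκ₀]
    exact sq₂
  have hQκ : (@Surjective ⊓ @Flat ⊓ @QuasiCompact : MorphismProperty Scheme.{u}) κ :=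
    ⟨⟨MorphismProperty.of_isPullback (P := @Surjective) hiso.flip inferInstance,
      MorphismProperty.of_isPullback (P := @Flat) hiso.flip inferInstance⟩,
      MorphismProperty.of_isPullback (P := @QuasiCompact) hiso.flip inferInstance⟩
  exact MorphismProperty.of_isPullback_of_descendsAlong (P := MorphismProperty.isomorphisms Scheme.{u})
    (Q := @Surjective ⊓ @Flat ⊓ @QuasiCompact) sq₃.flip hQκ (inferInstanceAs (IsIso (𝟙 _)))

end Groth.Agent.FEtCat.Descend
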