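import Groth.Agent.FEtCat.TopInv
import Groth.Agent.FEtCat.Descend
import Groth.Agent.FEtCat.Ordered
import Groth.Agent.EtaleSite.SplitScheme
import Groth.Agent.EtaleSite.TopInvGlue

/-!
# Finite étale covers and universal homeomorphisms
-/

set_option backward.isDefEq.respectTransparency.types false

noncomputable section

universe u

open CategoryTheory CategoryTheory.Limits AlgebraicGeometry Opposite

namespace Groth.Agent.FEtCat.UnivHomeo

variable {X Y : Scheme.{u}} (f : X ⟶ Y) [IsIntegralHom f] [UniversallyInjective f] [Surjective f]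

/-- A cover splits over an affine étale neighbourhood of every point. -/
theorem exists_split_nbhd (U : FEt.Cat X) (y : Y) :
    ∃ (n : ℕ) (A A' : CommRingCat.{u}) (j : Spec A ⟶ Y) (_ : IsOpenImmersion j) (_ : y ∈ Set.range j)
      (v : Spec A' ⟶ Spec A) (_ : Etale v) (_ : Surjective v)
      (σ : ULift.{u} (Fin n) → (pullback (v ≫ j) f ⟶ U.left))
      (hσ : ∀ i, σ i ≫ U.hom = pullback.snd (v ≫ j) f),
      ∀ (Ω : Type u) (_ : Field Ω) (_ : IsAlgClosed Ω) (η : Spec (CommRingCat.of Ω) ⟶ pullback (v ≫ j) f),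
        Function.Bijective fun i =>
          (⟨η ≫ σ i, by rw [Category.assoc, hσ]⟩ : Count.Sec U.hom (η ≫ pullback.snd (v ≫ j) f)) := by
  classical
  obtain ⟨x, rfl⟩ := f.surjective y
  let n := Scheme.Hom.finrank U.hom x
  let L : X.Opens :=
    ⟨{x' | Scheme.Hom.finrank U.hom x' = n}, ((Scheme.Hom.isLocallyConstant_finrank U.hom).isClopen_fiber n).2⟩
  let UL : FEt.Cat (L : Scheme.{u}) := Basic.mk (pullback.snd U.hom L.ι)
  have hn : ∀ z : (L : Scheme.{u}), Scheme.Hom.finrank UL.hom z = n := fun z =>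
    (Scheme.Hom.finrank_pullback_snd U.hom L.ι z).trans z.2
  let P := Ordered.cover UL n
  let g : P.left ⟶ X := P.hom ≫ L.ι
  have : Etale g := inferInstanceAs (Etale (P.hom ≫ L.ι))
  have : Surjective P.hom := Ordered.surjective_cover UL n hn
  obtain ⟨η₀, hη₀⟩ := Sigma.exists_geomPoint (f x)
  have hU : ∀ x' : X, f x' = η₀ default → x' ∈ Set.range g := by
    intro x' hx'
    rw [hη₀] at hx'
    obtain rfl := f.injective hx'
    obtain ⟨p, hp⟩ := P.hom.surjective ⟨x', rfl⟩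
    exact ⟨p, by rw [Scheme.Hom.comp_apply, hp]; rfl⟩
  obtain ⟨V, y₀, hy₀, h, hh⟩ := EtaleSite.split_integral f η₀ g hU
  have : Etale V.hom := V.prop
  let p : V.left := y₀ default
  have hp : V.hom p = f x := by rw [← hη₀, ← hy₀, Scheme.Hom.comp_apply]
  obtain ⟨_, ⟨Y₀, hY₀, rfl⟩, hy, -⟩ :=
    Y.isBasis_affineOpens.exists_subset_of_mem_open (Set.mem_univ (f x)) isOpen_univ
  obtain ⟨_, ⟨W₀, hW₀, rfl⟩, hpW, hWY⟩ := V.left.isBasis_affineOpens.exists_subset_of_mem_open
    (show p ∈ (V.hom ⁻¹ᵁ Y₀ : V.left.Opens) from (show V.hom p ∈ Y₀ from hp ▸ hy)) (V.hom ⁻¹ᵁ Y₀).2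
  obtain ⟨r, hr, hyr⟩ := hY₀.exists_basicOpen_le
    (V := ⟨V.hom '' (W₀ : Set V.left), V.hom.isOpenMap _ W₀.2⟩) ⟨f x, p, hpW, hp⟩ hy
  have hY₁ := hY₀.basicOpen r
  let W₁ := V.left.basicOpen (V.hom.appLE Y₀ W₀ hWY r)
  have hW₁ : IsAffineOpen W₁ := hW₀.basicOpen _
  have hW₁eq : W₁ = W₀ ⊓ V.hom ⁻¹ᵁ Y.basicOpen r := Scheme.basicOpen_appLE _ _ _ _ _
  let e : W₁ ≤ V.hom ⁻¹ᵁ Y.basicOpen r := hW₁eq.le.trans inf_le_right
  let j := hY₁.fromSpec
  let v := Spec.map (V.hom.appLE (Y.basicOpen r) W₁ e)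
  have hvj : v ≫ j = hW₁.fromSpec ≫ V.hom := IsAffineOpen.SpecMap_appLE_fromSpec V.hom hY₁ hW₁ e
  have : Etale (v ≫ j) := by rw [hvj]; infer_instance
  have hv : Etale v := Etale.of_comp v j
  have hvs : Surjective v := ⟨fun a => by
    have ha : j a ∈ Y.basicOpen r := by rw [← SetLike.mem_coe, ← hY₁.range_fromSpec]; exact ⟨a, rfl⟩
    obtain ⟨w, hw, hwa⟩ := hr ha
    have hw₁ : w ∈ W₁ := hW₁eq.ge ⟨hw, show V.hom w ∈ Y.basicOpen r from hwa ▸ ha⟩
    obtain ⟨b, rfl⟩ : w ∈ Set.range hW₁.fromSpec := by rw [hW₁.range_fromSpec]; exact hw₁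
    refine ⟨b, j.isOpenEmbedding.injective ?_⟩
    rw [← Scheme.Hom.comp_apply, hvj, Scheme.Hom.comp_apply]
    exact hwa⟩
  let m : pullback (v ≫ j) f ⟶ pullback V.hom f :=
    pullback.lift (pullback.fst (v ≫ j) f ≫ hW₁.fromSpec) (pullback.snd (v ≫ j) f)
      (by rw [Category.assoc, ← hvj, pullback.condition])
  have hm : m ≫ h ≫ g = pullback.snd (v ≫ j) f := by rw [hh]; exact pullback.lift_snd _ _ _
  let σ : ULift.{u} (Fin n) → (pullback (v ≫ j) f ⟶ U.left) := fun i =>
    m ≫ h ≫ (Ordered.coord UL n i.down).left ≫ pullback.fst U.hom L.ι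
  have hσ : ∀ i, σ i ≫ U.hom = pullback.snd (v ≫ j) f := fun i => by
    have hc : (Ordered.coord UL n i.down).left ≫ pullback.snd U.hom L.ι = P.hom :=
      MorphismProperty.Over.w (Ordered.coord UL n i.down)
    have hc' : (Ordered.coord UL n i.down).left ≫ pullback.fst U.hom L.ι ≫ U.hom = g :=
      (congrArg ((Ordered.coord UL n i.down).left ≫ ·) pullback.condition).trans
        ((Category.assoc _ _ _).symm.trans (congrArg (· ≫ L.ι) hc))
    simp only [σ, Category.assoc]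
    rw [hc']
    exact hm
  refine ⟨n, _, _, j, inferInstance, ?_, v, hv, hvs, σ, hσ, fun Ω _ _ η => ?_⟩
  · rw [hY₁.range_fromSpec]; exact hyr
  let t : FEt.fiberObj (η ≫ m ≫ h ≫ P.hom) P := ⟨η ≫ m ≫ h, by simp only [Category.assoc]⟩
  have := Count.finite_sec U.hom (η ≫ pullback.snd (v ≫ j) f)
  refine (Nat.bijective_iff_injective_and_card _).mpr ⟨fun i k hik => ?_, ?_⟩
  · refine ULift.down_injective (Ordered.tuple_injective UL n _ t (Subtype.ext ?_))
    change (η ≫ m ≫ h) ≫ (Ordered.coord UL n i.down).left = (η ≫ m ≫ h) ≫ (Ordered.coord UL n k.down).left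
    have := congrArg Subtype.val hik
    simp only [σ, ← Category.assoc] at this ⊢
    exact (cancel_mono (pullback.fst U.hom L.ι)).mp this
  · rw [Count.natCard_sec U.hom, Nat.card_ulift, Nat.card_fin]
    rw [← hm, Scheme.Hom.comp_apply, Scheme.Hom.comp_apply, Scheme.Hom.comp_apply, Scheme.Hom.comp_apply]
    exact ((P.hom (h (m (η default)))).2).symm

/-- A cover lifts locally on the base. -/
theorem exists_local_lift (U : FEt.Cat X) (u₀ : U.left) :
    ∃ (V : Y.Etale) (k : pullback V.hom f ⟶ U.left), k ≫ U.hom = pullback.snd V.hom f ∧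
      IsOpenImmersion k ∧ u₀ ∈ Set.range k := by
  classical
  obtain ⟨n, A, A', j, hj, hyj, v, hv, hvs, σ, hσ, hb⟩ := exists_split_nbhd f U (f (U.hom u₀))
  let f₁ := pullback.fst j f
  let e₁ := pullback.snd j f
  have : IsIntegralHom f₁ := inferInstance
  have : UniversallyInjective f₁ := MorphismProperty.pullback_fst j f ‹_›
  have : Surjective f₁ := inferInstance
  let u := pullback.snd U.hom e₁
  let P' := pullback v f₁
  let ρ : P' ⟶ pullback (v ≫ j) f := pullback.lift (pullback.fst v f₁) (pullback.snd v f₁ ≫ e₁) (by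
    rw [pullback.condition_assoc, Category.assoc, pullback.condition])
  -- the trivial cover of the neighbourhood
  let α := ULift.{u} (Fin n)
  let W₀ : Scheme.{u} := ∐ fun _ : α => Spec A'
  let w₀ : W₀ ⟶ Spec A' := Limits.Sigma.desc fun _ : α => 𝟙 (Spec A')
  have : IsAffine W₀ := isAffine_of_isAffineHom w₀
  let B' := Γ(W₀, ⊤)
  obtain ⟨w, hw⟩ : ∃ w : Spec B' ⟶ Spec A', w = W₀.isoSpec.inv ≫ w₀ := ⟨_, rfl⟩
  have : IsFinite w := hw ▸ inferInstanceAs (IsFinite (W₀.isoSpec.inv ≫ w₀))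
  have : Etale w := hw ▸ inferInstanceAs (Etale (W₀.isoSpec.inv ≫ w₀))
  let ι : α → (Spec A' ⟶ Spec B') := fun i => Limits.Sigma.ι (fun _ : α => Spec A') i ≫ W₀.isoSpec.hom
  have hι : ∀ i, ι i ≫ w = 𝟙 _ := fun i => by simp [ι, hw, w₀]
  let μ : pullback (w ≫ v) f₁ ⟶ P' :=
    pullback.lift (pullback.fst (w ≫ v) f₁ ≫ w) (pullback.snd (w ≫ v) f₁)
      (by rw [Category.assoc, pullback.condition])
  have hμ₁ : μ ≫ pullback.fst v f₁ = pullback.fst (w ≫ v) f₁ ≫ w := pullback.lift_fst _ _ _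
  have hμ₂ : μ ≫ pullback.snd v f₁ = pullback.snd (w ≫ v) f₁ := pullback.lift_snd _ _ _
  have sqμ : IsPullback μ (pullback.fst (w ≫ v) f₁) (pullback.fst v f₁) w := by
    refine IsPullback.of_right (h₁₂ := pullback.snd v f₁) (v₁₃ := f₁) (h₂₂ := v) ?_ hμ₁
      (IsPullback.of_hasPullback v f₁).flip
    rw [hμ₂]
    exact (IsPullback.of_hasPullback (w ≫ v) f₁).flip
  have : IsFinite μ := MorphismProperty.of_isPullback (P := @IsFinite) sqμ.flip ‹_›
  have : Etale μ := MorphismProperty.of_isPullback (P := @Etale) sqμ.flip ‹_›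
  let τ : α → (P' ⟶ pullback (w ≫ v) f₁) := fun i =>
    pullback.lift (pullback.fst v f₁ ≫ ι i) (pullback.snd v f₁)
      (by rw [Category.assoc, reassoc_of% (hι i), pullback.condition])
  have hτ : ∀ i, τ i ≫ μ = 𝟙 _ := fun i => by
    apply pullback.hom_ext
    · simp only [τ, Category.assoc, hμ₁, Category.id_comp]
      rw [pullback.lift_fst_assoc, Category.assoc, hι, Category.comp_id]
    · simp only [τ, Category.assoc, hμ₂, Category.id_comp]
      rw [pullback.lift_snd]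
  have : IsIso (Limits.Sigma.desc τ) := by
    refine (Sigma.isIso_desc_iff μ τ hτ).mpr fun Ω _ _ η => ⟨fun i k hik => ?_, fun s => ?_⟩
    · refine (Sigma.fold_sec_bijective (η ≫ pullback.fst v f₁)).1 (Subtype.ext ?_)
      have h' := congrArg (fun s : Count.Sec μ η => s.1 ≫ pullback.fst (w ≫ v) f₁ ≫ W₀.isoSpec.inv) hik
      simp only [τ, ι, Category.assoc, pullback.lift_fst_assoc, Iso.hom_inv_id, Category.comp_id] at h'
      exact (Category.assoc _ _ _).trans (h'.trans (Category.assoc _ _ _).symm)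
    · obtain ⟨i, hi⟩ := (Sigma.fold_sec_bijective (η ≫ pullback.fst v f₁)).2
        ⟨s.1 ≫ pullback.fst (w ≫ v) f₁ ≫ W₀.isoSpec.inv, by
          simp only [Category.assoc]
          rw [← hw]
          rw [← hμ₁, reassoc_of% s.2]⟩
      refine ⟨i, Subtype.ext (pullback.hom_ext ?_ ?_)⟩
      · have h' := congrArg (· ≫ W₀.isoSpec.hom) (congrArg Subtype.val hi)
        simp only [Category.assoc, Iso.inv_hom_id, Category.comp_id] at h'
        simp only [τ, Category.assoc, pullback.lift_fst]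
        exact h'
      · simp only [τ, Category.assoc, pullback.lift_snd]
        rw [← hμ₂, reassoc_of% s.2]
  -- the pulled back cover
  let σ₁ : α → (P' ⟶ pullback u (pullback.snd v f₁)) := fun i =>
    pullback.lift (pullback.lift (ρ ≫ σ i) (pullback.snd v f₁)
      (by rw [Category.assoc, hσ, pullback.lift_snd])) (𝟙 _)
      ((pullback.lift_snd _ _ _).trans (Category.id_comp _).symm)
  have hσ₁ : ∀ i, σ₁ i ≫ pullback.snd u (pullback.snd v f₁) = 𝟙 _ := fun i => pullback.lift_snd _ _ _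
  have hσ₁' : ∀ i, σ₁ i ≫ pullback.fst u (pullback.snd v f₁) ≫ pullback.fst U.hom e₁ = ρ ≫ σ i := fun i => by
    simp only [σ₁]
    rw [pullback.lift_fst_assoc, pullback.lift_fst]
  have : IsIso (Limits.Sigma.desc σ₁) := by
    refine (Sigma.isIso_desc_iff _ σ₁ hσ₁).mpr fun Ω _ _ η => ⟨fun i k hik => ?_, fun s => ?_⟩
    · refine (hb Ω _ inferInstance (η ≫ ρ)).1 (Subtype.ext ?_)
      have h' := congrArg (fun s : Count.Sec (pullback.snd u (pullback.snd v f₁)) η =>
        s.1 ≫ pullback.fst u (pullback.snd v f₁) ≫ pullback.fst U.hom e₁) hik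
      simpa [hσ₁'] using h'
    · have hs : s.1 ≫ pullback.fst u (pullback.snd v f₁) ≫ u = η ≫ pullback.snd v f₁ := by
        rw [pullback.condition, reassoc_of% s.2]
      obtain ⟨i, hi⟩ := (hb Ω _ inferInstance (η ≫ ρ)).2
        ⟨s.1 ≫ pullback.fst u (pullback.snd v f₁) ≫ pullback.fst U.hom e₁, by
          have hρ : ρ ≫ pullback.snd (v ≫ j) f = pullback.snd v f₁ ≫ e₁ := pullback.lift_snd _ _ _
          rw [Category.assoc η, hρ, ← reassoc_of% hs]
          simp only [Category.assoc]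
          rw [pullback.condition]⟩
      refine ⟨i, Subtype.ext (pullback.hom_ext (pullback.hom_ext ?_ ?_) ?_)⟩
      · simp only [Category.assoc, hσ₁']
        exact (Category.assoc _ _ _).symm.trans (congrArg Subtype.val hi)
      · simp only [Category.assoc]
        rw [hs, pullback.condition, reassoc_of% (hσ₁ i)]
      · simp only [Category.assoc, hσ₁, Category.comp_id]
        exact s.2.symm
  let κ₂ : pullback (w ≫ v) f₁ ≅ pullback u (pullback.snd v f₁) :=
    (asIso (Limits.Sigma.desc τ)).symm ≪≫ asIso (Limits.Sigma.desc σ₁)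
  have hκ₂ : κ₂.hom ≫ pullback.snd u (pullback.snd v f₁) = μ := by
    rw [← cancel_epi (Limits.Sigma.desc τ)]
    refine Limits.Sigma.hom_ext _ _ fun i => ?_
    simp only [κ₂, Iso.trans_hom, Iso.symm_hom, asIso_inv, asIso_hom, Category.assoc, IsIso.hom_inv_id_assoc,
      Limits.Sigma.ι_desc_assoc, hσ₁, hτ]
  let κ := κ₂.hom ≫ pullback.fst u (pullback.snd v f₁)
  have hiso : IsPullback κ μ u (pullback.snd v f₁) := by
    refine IsPullback.of_iso_pullback ⟨?_⟩ κ₂ rfl hκ₂
    change (κ₂.hom ≫ pullback.fst u (pullback.snd v f₁)) ≫ u = μ ≫ pullback.snd v f₁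
    conv_rhs => arg 1; rw [← hκ₂]
    rw [Category.assoc, Category.assoc, pullback.condition]
  obtain ⟨a, rfl⟩ := Spec.map_surjective v
  obtain ⟨b, hbw⟩ := Spec.map_surjective w
  let _ : Algebra A A' := a.hom.toAlgebra
  let _ : Algebra A' B' := b.hom.toAlgebra
  let _ : Algebra A B' := (a ≫ b).hom.toAlgebra
  have : IsScalarTower A A' B' := .of_algebraMap_eq fun _ => rfl
  obtain ⟨Z, z, hz, hze, κ₀, hκ₀, hκ₀u⟩ :=
    Descend.exists_descend (A := A) (A' := A') (B' := B') f₁ (Spec.map a) rfl w hbw.symm u κ μ hμ₁ hμ₂ hiso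
  let m' := (pullbackRightPullbackFstIso j f z).inv
  refine ⟨Scheme.Etale.mk (z ≫ j), m' ≫ κ₀ ≫ pullback.fst U.hom e₁, ?_, inferInstance, ?_⟩
  · change (m' ≫ κ₀ ≫ pullback.fst U.hom e₁) ≫ U.hom = pullback.snd (z ≫ j) f
    simp only [Category.assoc, pullback.condition]
    rw [reassoc_of% hκ₀u]
    exact pullbackRightPullbackFstIso_inv_snd_snd j f z
  · have h1 : u₀ ∈ Set.range (pullback.fst U.hom e₁) := by
      rw [Scheme.Pullback.range_fst, Scheme.Pullback.range_snd]
      exact hyj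
    obtain ⟨q, rfl⟩ := h1
    obtain ⟨q', rfl⟩ := κ₀.surjective q
    obtain ⟨q'', rfl⟩ := m'.surjective q'
    exact ⟨q'', rfl⟩

/-- Finite étale covers are insensitive to universal homeomorphisms. -/
theorem isEquivalence_restrict : (FEt.restrict f).IsEquivalence :=
  TopInv.isEquivalence_restrict_of_mem f fun U => EtaleSite.mem_essImage_bc f _ fun u => by
    obtain ⟨V, k, hk, hko, hu⟩ := exists_local_lift f U u
    refine ⟨⟨k.opensRange, V, ⟨MorphismProperty.Over.isoMk k.isoOpensRange ?_⟩⟩, hu⟩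
    show k.isoOpensRange.hom ≫ k.opensRange.ι ≫ U.hom = pullback.snd V.hom f
    rw [← Category.assoc, Scheme.Hom.isoOpensRange_hom_ι, hk]

end Groth.Agent.FEtCat.UnivHomeo
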