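import Groth.Agent.RelSpecLib.Basic
import Mathlib.AlgebraicGeometry.Normalization
import Mathlib.Topology.Sheaves.SheafCondition.UniqueGluing

/-!
# The relative spectrum of the equalizer of direct images, and maps into relative spectra
-/

noncomputable section

universe u

open CategoryTheory CategoryTheory.Limits AlgebraicGeometry TopologicalSpace Opposite
open RelSpec

namespace Groth.Agent.FEtCat.EqAlg

variable {S Y Z : Scheme.{u}} (a : Z ⟶ S) (b : Y ⟶ S) (f g : Y ⟶ Z) (hf : f ≫ a = b) (hg : g ≫ a = b)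

theorem preimage_le {h : Y ⟶ Z} (hh : h ≫ a = b) (U : S.Opens) : b ⁻¹ᵁ U ≤ h ⁻¹ᵁ (a ⁻¹ᵁ U) :=
  (congrArg (fun t : Y ⟶ S => t ⁻¹ᵁ U) hh).ge

/-- Pullback of sections along a morphism over the base. -/
def pullHom {h : Y ⟶ Z} (hh : h ≫ a = b) : a.base _* Z.presheaf ⟶ b.base _* Y.presheaf where
  app U := h.appLE (a ⁻¹ᵁ U.unop) (b ⁻¹ᵁ U.unop) (preimage_le a b hh U.unop)
  naturality U V i := by
    change Z.presheaf.map _ ≫ h.appLE (a ⁻¹ᵁ V.unop) (b ⁻¹ᵁ V.unop) _ =
      h.appLE (a ⁻¹ᵁ U.unop) (b ⁻¹ᵁ U.unop) _ ≫ Y.presheaf.map _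
    rw [Scheme.Hom.map_appLE, Scheme.Hom.appLE_map]

theorem c_pullHom {h : Y ⟶ Z} (hh : h ≫ a = b) : a.c ≫ pullHom a b hh = b.c := by
  refine NatTrans.ext (funext fun U => ?_)
  subst hh
  change a.app U.unop ≫ h.appLE _ _ _ = (h ≫ a).app U.unop
  rw [Scheme.Hom.app_eq_appLE, Scheme.Hom.appLE_comp_appLE, ← Scheme.Hom.app_eq_appLE]

/-- The subring of sections on which the two pullbacks agree. -/
def eqSub (U : S.Opens) : Subring Γ(Z, a ⁻¹ᵁ U) :=
  RingHom.eqLocus ((pullHom a b hf).app (op U)).hom ((pullHom a b hg).app (op U)).hom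

theorem map_mem {U V : (S.Opens)ᵒᵖ} (i : U ⟶ V) (x : eqSub a b f g hf hg U.unop) :
    ((a.base _* Z.presheaf).map i).hom x.1 ∈ eqSub a b f g hf hg V.unop := by
  have h1 := ConcreteCategory.congr_hom ((pullHom a b hf).naturality i) x.1
  have h2 := ConcreteCategory.congr_hom ((pullHom a b hg).naturality i) x.1
  exact h1.trans ((congrArg _ x.2).trans h2.symm)

/-- The equalizer presheaf. -/
def presheaf : TopCat.Presheaf CommRingCat.{u} S.carrier where
  obj U := CommRingCat.of (eqSub a b f g hf hg U.unop)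
  map {U V} i := CommRingCat.ofHom
    ((((a.base _* Z.presheaf).map i).hom.comp (eqSub a b f g hf hg U.unop).subtype).codRestrict
      (eqSub a b f g hf hg V.unop) (map_mem a b f g hf hg i))
  map_id U := by
    ext x
    exact ConcreteCategory.congr_hom ((a.base _* Z.presheaf).map_id U) x.1
  map_comp i j := by
    ext x
    exact ConcreteCategory.congr_hom ((a.base _* Z.presheaf).map_comp i j) x.1

/-- The inclusion into the direct image. -/
def incl : presheaf a b f g hf hg ⟶ a.base _* Z.presheaf where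
  app U := CommRingCat.ofHom (eqSub a b f g hf hg U.unop).subtype

theorem incl_injective (U : (S.Opens)ᵒᵖ) : Function.Injective ((incl a b f g hf hg).app U) :=
  Subtype.val_injective

theorem isSheaf : (presheaf a b f g hf hg).IsSheaf := by
  rw [TopCat.Presheaf.isSheaf_iff_isSheafUniqueGluing]
  intro ι U sf hsf
  obtain ⟨s, hs, hu⟩ := TopCat.Sheaf.existsUnique_gluing (⟨_, TopCat.Sheaf.pushforward_sheaf_of_sheaf a.base Z.sheaf.property⟩ :
      TopCat.Sheaf CommRingCat.{u} S.carrier) U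
    (fun i => (sf i).1) (fun i j => congrArg Subtype.val (hsf i j))
  refine ⟨⟨s, ?_⟩, fun i => Subtype.ext (hs i), fun t ht => Subtype.ext (hu t.1 fun i => congrArg Subtype.val (ht i))⟩
  refine TopCat.Sheaf.eq_of_locally_eq (⟨_, TopCat.Sheaf.pushforward_sheaf_of_sheaf b.base Y.sheaf.property⟩ :
      TopCat.Sheaf CommRingCat.{u} S.carrier) U _ _ fun i => ?_
  have h1 := ConcreteCategory.congr_hom ((pullHom a b hf).naturality (Opens.leSupr U i).op) s
  have h2 := ConcreteCategory.congr_hom ((pullHom a b hg).naturality (Opens.leSupr U i).op) s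
  refine h1.symm.trans (Eq.trans ?_ h2)
  have h3 : ((a.base _* Z.presheaf).map (Opens.leSupr U i).op) s = (sf i).1 := hs i
  refine (congrArg ((pullHom a b hf).app (op (U i))).hom h3).trans ?_
  refine Eq.trans (sf i).2 (congrArg ((pullHom a b hg).app (op (U i))).hom h3).symm

theorem str_mem (U : (S.Opens)ᵒᵖ) (x : S.presheaf.obj U) : (a.c.app U).hom x ∈ eqSub a b f g hf hg U.unop :=
  (ConcreteCategory.congr_hom (NatTrans.congr_app (c_pullHom a b hf) U) x).trans
    (ConcreteCategory.congr_hom (NatTrans.congr_app (c_pullHom a b hg) U) x).symm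

/-- The structure map. -/
def str : S.presheaf ⟶ presheaf a b f g hf hg where
  app U := CommRingCat.ofHom ((a.c.app U).hom.codRestrict (eqSub a b f g hf hg U.unop) (str_mem a b f g hf hg U))
  naturality U V i := by
    ext x
    exact Subtype.ext (ConcreteCategory.congr_hom (a.c.naturality i) x)

theorem isQC [IsAffineHom a] [IsAffineHom b] : IsQC (presheaf a b f g hf hg) (str a b f g hf hg) := by
  intro U hU r
  let ρ : op U ⟶ op (S.basicOpen r) := (homOfLE (S.basicOpen_le r)).op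
  let _ : Algebra (eqSub a b f g hf hg U) (eqSub a b f g hf hg (S.basicOpen r)) :=
    ((presheaf a b f g hf hg).map ρ).hom.toAlgebra
  let rZ : Γ(Z, a ⁻¹ᵁ U) := a.app U r
  let rY : Γ(Y, b ⁻¹ᵁ U) := b.app U r
  let _ : Algebra Γ(Z, a ⁻¹ᵁ U) Γ(Z, a ⁻¹ᵁ S.basicOpen r) := ((a.base _* Z.presheaf).map ρ).hom.toAlgebra
  let _ : Algebra Γ(Y, b ⁻¹ᵁ U) Γ(Y, b ⁻¹ᵁ S.basicOpen r) := ((b.base _* Y.presheaf).map ρ).hom.toAlgebra
  have hZ : IsLocalization.Away rZ Γ(Z, a ⁻¹ᵁ S.basicOpen r) := QCAlg.isQC_pushforward a U hU r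
  have hY : IsLocalization.Away rY Γ(Y, b ⁻¹ᵁ S.basicOpen r) := QCAlg.isQC_pushforward b U hU r
  let rE : eqSub a b f g hf hg U := ⟨(a.c.app (op U)).hom r, str_mem a b f g hf hg (op U) r⟩
  change IsLocalization.Away rE (eqSub a b f g hf hg (S.basicOpen r))
  refine IsLocalization.Away.mk rE ?_ (fun s => ?_) (fun x y hxy => ?_)
  · have := hU.isLocalization_basicOpen r
    have h1 : IsUnit ((S.presheaf.map ρ).hom r) := IsLocalization.Away.algebraMap_isUnit (S := Γ(S, S.basicOpen r)) r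
    have h2 := h1.map ((str a b f g hf hg).app (op (S.basicOpen r))).hom
    have h3 := ConcreteCategory.congr_hom ((str a b f g hf hg).naturality ρ) r
    exact Eq.mp (congrArg IsUnit h3) h2
  · obtain ⟨n, t, ht⟩ := IsLocalization.Away.surj rZ (s.1 : Γ(Z, a ⁻¹ᵁ S.basicOpen r))
    let α : Γ(Z, a ⁻¹ᵁ U) →+* Γ(Y, b ⁻¹ᵁ U) := ((pullHom a b hf).app (op U)).hom
    let β : Γ(Z, a ⁻¹ᵁ U) →+* Γ(Y, b ⁻¹ᵁ U) := ((pullHom a b hg).app (op U)).hom
    let α' : Γ(Z, a ⁻¹ᵁ S.basicOpen r) →+* Γ(Y, b ⁻¹ᵁ S.basicOpen r) :=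
      ((pullHom a b hf).app (op (S.basicOpen r))).hom
    let β' : Γ(Z, a ⁻¹ᵁ S.basicOpen r) →+* Γ(Y, b ⁻¹ᵁ S.basicOpen r) :=
      ((pullHom a b hg).app (op (S.basicOpen r))).hom
    have hα : ∀ x, α' (algebraMap _ _ x) = algebraMap _ _ (α x) := fun x =>
      ConcreteCategory.congr_hom ((pullHom a b hf).naturality ρ) x
    have hβ : ∀ x, β' (algebraMap _ _ x) = algebraMap _ _ (β x) := fun x =>
      ConcreteCategory.congr_hom ((pullHom a b hg).naturality ρ) x
    have hαr : α rZ = rY := ConcreteCategory.congr_hom (NatTrans.congr_app (c_pullHom a b hf) (op U)) r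
    have hβr : β rZ = rY := ConcreteCategory.congr_hom (NatTrans.congr_app (c_pullHom a b hg) (op U)) r
    have hres : algebraMap Γ(Y, b ⁻¹ᵁ U) Γ(Y, b ⁻¹ᵁ S.basicOpen r) (α t) = algebraMap _ _ (β t) := by
      rw [← hα, ← hβ, ← ht, map_mul, map_mul, map_pow, map_pow, hα, hβ, hαr, hβr]
      exact congrArg (· * _) s.2
    obtain ⟨m, hm⟩ := IsLocalization.Away.exists_of_eq rY hres
    have hmem : rZ ^ m * t ∈ eqSub a b f g hf hg U := by
      change α _ = β _
      rw [map_mul, map_mul, map_pow, map_pow, hαr, hβr]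
      exact hm
    refine ⟨m + n, ⟨_, hmem⟩, Subtype.ext ?_⟩
    have key : (s.1 : Γ(Z, a ⁻¹ᵁ S.basicOpen r)) * algebraMap _ _ rZ ^ (m + n) = algebraMap _ _ (rZ ^ m * t) := by
      rw [map_mul, map_pow, ← ht]
      ring
    exact key
  · obtain ⟨m, hm⟩ := IsLocalization.Away.exists_of_eq (S := Γ(Z, a ⁻¹ᵁ S.basicOpen r))
      rZ (a := (x.1 : Γ(Z, a ⁻¹ᵁ U))) (b := y.1) (congrArg Subtype.val hxy)
    exact ⟨m, Subtype.ext hm⟩

/-- The equalizer algebra. -/
def alg [IsAffineHom a] [IsAffineHom b] : QCAlg S :=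
  ⟨presheaf a b f g hf hg, isSheaf a b f g hf hg, str a b f g hf hg, isQC a b f g hf hg⟩

end Groth.Agent.FEtCat.EqAlg
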