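import Mathlib.RingTheory.TotallySplit
import Mathlib.RingTheory.Flat.EquationalCriterion
import Mathlib.RingTheory.Finiteness.ModuleFinitePresentation
import Mathlib.RingTheory.Smooth.Fiber
import Mathlib.RingTheory.Flat.Localization
import Mathlib.RingTheory.Localization.BaseChange
import Mathlib.RingTheory.LocalRing.Module
import Mathlib.RingTheory.Kaehler.TensorProduct
import Mathlib.FieldTheory.IsAlgClosed.AlgebraicClosure
import Mathlib.RingTheory.Unramified.Basic

/-!
# Equalizers of maps of finite étale algebras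
-/

universe u

open scoped TensorProduct
open TensorProduct

namespace Groth.Agent.FEtCat.Split

section funs

variable {A : Type*} [CommRing A] {ι κ : Type*}

/-- An algebra map between split algebras over a local ring is given by a map of finite sets. -/
theorem algHom_pi_eq_comp [IsLocalRing A] [Finite ι] (f : (ι → A) →ₐ[A] (κ → A)) :
    ∃ φ : κ → ι, ∀ a, f a = a ∘ φ := by
  classical
  cases nonempty_fintype ι
  have hone : ∑ i, (Pi.single i (1 : A) : ι → A) = 1 := Finset.univ_sum_single (fun _ => (1 : A))
  have key : ∀ k, ∃ i, ∀ a, f a k = a i := by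
    intro k
    let e : ι → A := fun i => f (Pi.single i 1) k
    have hidem : ∀ i, e i * e i = e i := fun i => by
      change f _ k * f _ k = f _ k
      rw [← Pi.mul_apply, ← map_mul, ← Pi.single_mul, mul_one]
    have horth : ∀ i j, i ≠ j → e i * e j = 0 := fun i j hij => by
      change f _ k * f _ k = 0
      rw [← Pi.mul_apply, ← map_mul]
      have : (Pi.single i (1 : A) : ι → A) * Pi.single j 1 = 0 := by
        funext t
        by_cases ht : t = i
        · subst ht; simp [Pi.single_eq_of_ne hij]
        · simp [Pi.single_eq_of_ne ht]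
      rw [this, map_zero, Pi.zero_apply]
    obtain ⟨i, hi⟩ : ∃ i, IsUnit (e i) := by
      by_contra hne
      push Not at hne
      have hsum : ∑ i, e i ∈ IsLocalRing.maximalIdeal A :=
        Ideal.sum_mem _ fun i _ => (IsLocalRing.mem_maximalIdeal _).mpr (hne i)
      have h1 : ∑ i, e i = 1 := by
        simp only [e]
        rw [← Finset.sum_apply, ← map_sum, hone, map_one, Pi.one_apply]
      rw [h1] at hsum
      exact (IsLocalRing.mem_maximalIdeal _).mp hsum isUnit_one
    have hi1 : e i = 1 := by
      obtain ⟨v, hv⟩ := hi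
      have := hidem i
      rw [← hv] at this ⊢
      exact (v.isUnit.mul_eq_left).mp this
    refine ⟨i, fun a => ?_⟩
    have ha : a = ∑ j, a j • (Pi.single j (1 : A) : ι → A) := pi_eq_sum_univ' a
    conv_lhs => rw [ha, map_sum]
    simp only [map_smul, Finset.sum_apply, Pi.smul_apply, smul_eq_mul]
    rw [Finset.sum_eq_single i (fun j _ hj => by
      have := horth j i hj
      rw [hi1, mul_one] at this
      change a j * e j = 0
      rw [this, mul_zero]) (by simp)]
    change a i * e i = a i
    rw [hi1, mul_one]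
  choose φ hφ using key
  exact ⟨φ, fun a => funext fun k => hφ k a⟩

/-- The relation generated by a pair of maps. -/
def Rel (φ ψ : κ → ι) : ι → ι → Prop := fun i j => ∃ k, φ k = i ∧ ψ k = j

/-- The difference of the pullbacks along two maps of sets is a regular linear map. -/
theorem exists_regular_funs (φ ψ : κ → ι) :
    ∃ h : (κ → A) →ₗ[A] (ι → A),
      (LinearMap.funLeft A A φ - LinearMap.funLeft A A ψ) ∘ₗ h ∘ₗ
        (LinearMap.funLeft A A φ - LinearMap.funLeft A A ψ) =
        LinearMap.funLeft A A φ - LinearMap.funLeft A A ψ := by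
  set d : (ι → A) →ₗ[A] (κ → A) := LinearMap.funLeft A A φ - LinearMap.funLeft A A ψ with hd
  have step : ∀ i j, Relation.EqvGen (Rel φ ψ) i j →
      ∃ L : (κ → A) →ₗ[A] A, ∀ a, L (d a) = a i - a j := by
    intro i j h
    induction h with
    | rel i j h =>
      obtain ⟨k, rfl, rfl⟩ := h
      exact ⟨LinearMap.proj k, fun a => rfl⟩
    | refl i => exact ⟨0, fun a => by simp⟩
    | symm i j _ ih =>
      obtain ⟨L, hL⟩ := ih
      exact ⟨-L, fun a => by simp [hL]⟩
    | trans i j l _ _ ih ih' =>
      obtain ⟨L, hL⟩ := ih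
      obtain ⟨L', hL'⟩ := ih'
      exact ⟨L + L', fun a => by simp [hL, hL']⟩
  let r : ι → ι := fun i => (Quot.mk (Rel φ ψ) i).out
  have hr : ∀ i, Relation.EqvGen (Rel φ ψ) i (r i) := fun i =>
    Quot.eqvGen_exact (Quot.out_eq _).symm
  choose L hL using fun i => step i (r i) (hr i)
  refine ⟨LinearMap.pi L, LinearMap.ext fun a => funext fun k => ?_⟩
  have hrk : r (φ k) = r (ψ k) := congrArg Quot.out (Quot.sound ⟨k, rfl, rfl⟩)
  change L (φ k) (d a) - L (ψ k) (d a) = a (φ k) - a (ψ k)
  rw [hL, hL, hrk]
  ring

end funs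

section finEtale

variable {A B C : Type u} [CommRing A] [CommRing B] [CommRing C] [Algebra A B] [Algebra A C]

/-- The difference of two algebra maps, as a linear map. -/
abbrev diff (f g : B →ₐ[A] C) : B →ₗ[A] C := f.toLinearMap - g.toLinearMap

theorem baseChange_diff (T : Type u) [CommRing T] [Algebra A T] (f g : B →ₐ[A] C) :
    (diff f g).baseChange T =
      diff (Algebra.TensorProduct.map (AlgHom.id T T) f) (Algebra.TensorProduct.map (AlgHom.id T T) g) := by
  ext b
  simp [diff, TensorProduct.tmul_sub]

theorem exists_regular_of_isFiniteSplit [IsLocalRing A] [Algebra.IsFiniteSplit A B]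
    [Algebra.IsFiniteSplit A C] (f g : B →ₐ[A] C) :
    ∃ h : C →ₗ[A] B, diff f g ∘ₗ h ∘ₗ diff f g = diff f g := by
  obtain ⟨n, ⟨eB⟩⟩ := Algebra.IsFiniteSplit.nonempty_algEquiv_fun A B
  obtain ⟨m, ⟨eC⟩⟩ := Algebra.IsFiniteSplit.nonempty_algEquiv_fun A C
  obtain ⟨φ, hφ⟩ := algHom_pi_eq_comp ((eC.toAlgHom.comp f).comp eB.symm.toAlgHom)
  obtain ⟨ψ, hψ⟩ := algHom_pi_eq_comp ((eC.toAlgHom.comp g).comp eB.symm.toAlgHom)
  obtain ⟨h, hh⟩ := exists_regular_funs (A := A) φ ψ
  have hd : ∀ b, diff f g b =
      eC.symm ((LinearMap.funLeft A A φ - LinearMap.funLeft A A ψ) (eB b)) := by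
    intro b
    apply eC.injective
    rw [AlgEquiv.apply_symm_apply]
    have h1 : eC (f b) = eB b ∘ φ := by simpa using hφ (eB b)
    have h2 : eC (g b) = eB b ∘ ψ := by simpa using hψ (eB b)
    simp only [diff, LinearMap.sub_apply, AlgHom.toLinearMap_apply, map_sub, h1, h2]
    rfl
  refine ⟨eB.symm.toLinearMap ∘ₗ h ∘ₗ eC.toLinearMap, LinearMap.ext fun b => ?_⟩
  simp only [LinearMap.comp_apply, hd, AlgEquiv.toLinearMap_apply, AlgEquiv.apply_symm_apply]
  exact congrArg eC.symm (LinearMap.congr_fun hh (eB b))

/-- Two finite étale algebras are split by a flat local algebra over any given local ring. -/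
theorem exists_local_split (R : Type u) [CommRing R] [IsLocalRing R] (B C : Type u) [CommRing B] [CommRing C]
    [Algebra R B] [Algebra R C] [Module.Finite R B] [Algebra.Etale R B] [Module.Finite R C] [Algebra.Etale R C] :
    ∃ (T : Type u) (_ : CommRing T) (_ : Algebra R T) (_ : IsLocalRing T), Module.FaithfullyFlat R T ∧
      Algebra.IsFiniteSplit T (T ⊗[R] B) ∧ Algebra.IsFiniteSplit T (T ⊗[R] C) := by
  have : Module.Free R B := Module.free_of_flat_of_isLocalRing
  have : Module.Free R C := Module.free_of_flat_of_isLocalRing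
  obtain ⟨T₁, _, _, _, _, _, hB⟩ := Algebra.IsFiniteSplit.exists_tensorProduct_of_etale
    (R := R) (S := B) (n := Module.finrank R B) Module.rankAtStalk_eq_finrank_of_free
  have hrC : Module.rankAtStalk (R := T₁) (T₁ ⊗[R] C) = Module.finrank R C := by
    funext p
    rw [Module.rankAtStalk_baseChange, Module.rankAtStalk_eq_finrank_of_free (R := R) (M := C)]
    rfl
  obtain ⟨T₂, _, _, _, _, _, hC⟩ := Algebra.IsFiniteSplit.exists_tensorProduct_of_etale (R := T₁)
    (S := T₁ ⊗[R] C) hrC
  letI : Algebra R T₂ := ((algebraMap T₁ T₂).comp (algebraMap R T₁)).toAlgebra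
  have : IsScalarTower R T₁ T₂ := .of_algebraMap_eq' rfl
  have : Module.FaithfullyFlat R T₂ := Module.FaithfullyFlat.trans R T₁ T₂
  obtain ⟨⟨q, hq⟩, hqm⟩ := PrimeSpectrum.comap_surjective_of_faithfullyFlat (A := R) (B := T₂)
    ⟨IsLocalRing.maximalIdeal R, inferInstance⟩
  let T := Localization.AtPrime q
  have hsplit : ∀ (M : Type u) [CommRing M] [Algebra R M], Algebra.IsFiniteSplit T₂ (T₂ ⊗[R] M) →
      Algebra.IsFiniteSplit T (T ⊗[R] M) := fun M _ _ _ =>
    .of_algEquiv (Algebra.TensorProduct.cancelBaseChange R T₂ T T M)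
  refine ⟨T, inferInstance, inferInstance, inferInstance, ?_, hsplit B ?_, hsplit C ?_⟩
  · have hloc : IsLocalHom (algebraMap R T) := by
      constructor
      intro r hr
      by_contra hrm
      have hmem : algebraMap R T₂ r ∈ q := by
        have h1 : r ∈ q.comap (algebraMap R T₂) := by
          have : q.comap (algebraMap R T₂) = IsLocalRing.maximalIdeal R := congrArg PrimeSpectrum.asIdeal hqm
          rw [this]
          exact (IsLocalRing.mem_maximalIdeal r).mpr hrm
        exact h1
      rw [IsScalarTower.algebraMap_apply R T₂ T] at hr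
      exact ((IsLocalization.AtPrime.isUnit_to_map_iff T q _).mp hr) hmem
    have : Module.Flat R T := Module.Flat.trans R T₂ T
    exact Module.FaithfullyFlat.of_flat_of_isLocalHom
  · have : Algebra.IsFiniteSplit T₁ (T₁ ⊗[R] B) := hB
    exact .of_algEquiv (Algebra.TensorProduct.cancelBaseChange R T₁ T₂ T₂ B)
  · exact .of_algEquiv (Algebra.TensorProduct.cancelBaseChange R T₁ T₂ T₂ C)

theorem flat_coker [Module.Finite A B] [Algebra.Etale A B] [Module.Finite A C] [Algebra.Etale A C]
    (f g : B →ₐ[A] C) : Module.Flat A (C ⧸ LinearMap.range (diff f g)) := by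
  let Q := C ⧸ LinearMap.range (diff f g)
  have : ∀ (P : Ideal A) [P.IsMaximal], IsLocalizedModule.AtPrime P
      (TensorProduct.mk A (Localization.AtPrime P) Q 1) := fun P _ =>
    (isLocalizedModule_iff_isBaseChange P.primeCompl (Localization.AtPrime P) _).mpr
      (TensorProduct.isBaseChange A Q (Localization.AtPrime P))
  refine Module.flat_of_isLocalized_maximal (R := A) (S := A) (M := Q)
    (fun P _ => Localization.AtPrime P ⊗[A] Q) (fun P _ => TensorProduct.mk A (Localization.AtPrime P) Q 1)
    fun P _ => ?_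
  let R := Localization.AtPrime P
  obtain ⟨T, _, _, _, _, hTB, hTC⟩ := exists_local_split R (R ⊗[A] B) (R ⊗[A] C)
  letI : Algebra A T := ((algebraMap R T).comp (algebraMap A R)).toAlgebra
  have : IsScalarTower A R T := .of_algebraMap_eq' rfl
  have : Algebra.IsFiniteSplit T (T ⊗[A] B) :=
    .of_algEquiv (Algebra.TensorProduct.cancelBaseChange A R T T B)
  have : Algebra.IsFiniteSplit T (T ⊗[A] C) :=
    .of_algEquiv (Algebra.TensorProduct.cancelBaseChange A R T T C)
  obtain ⟨h, hh⟩ := exists_regular_of_isFiniteSplit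
    (Algebra.TensorProduct.map (AlgHom.id T T) f) (Algebra.TensorProduct.map (AlgHom.id T T) g)
  rw [← baseChange_diff] at hh
  let π := (LinearMap.range (diff f g)).mkQ.baseChange T
  have hex : Function.Exact ((diff f g).baseChange T) π :=
    lTensor_exact T (LinearMap.exact_map_mkQ_range _) (Submodule.mkQ_surjective _)
  have hπ : Function.Surjective π := LinearMap.lTensor_surjective T (Submodule.mkQ_surjective _)
  let r : T ⊗[A] C →ₗ[T] T ⊗[A] C := LinearMap.id - (diff f g).baseChange T ∘ₗ h
  have hle : LinearMap.range ((diff f g).baseChange T) ≤ LinearMap.ker r := by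
    rintro _ ⟨x, rfl⟩
    rw [LinearMap.mem_ker, LinearMap.sub_apply, LinearMap.id_apply, sub_eq_zero]
    exact (LinearMap.congr_fun hh x).symm
  let s : T ⊗[A] Q →ₗ[T] T ⊗[A] C :=
    ((LinearMap.range ((diff f g).baseChange T)).liftQ r hle) ∘ₗ (hex.linearEquivOfSurjective hπ).symm.toLinearMap
  have hs : π ∘ₗ s = LinearMap.id := by
    apply LinearMap.ext
    intro y
    obtain ⟨x, rfl⟩ := hπ y
    simp only [s, LinearMap.comp_apply, LinearEquiv.coe_coe, Function.Exact.linearEquivOfSurjective_symm_apply,
      Submodule.liftQ_apply, LinearMap.id_apply, r, LinearMap.sub_apply, map_sub]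
    rw [(hex _).mpr ⟨_, rfl⟩, sub_zero]
  have : Module.Projective T (T ⊗[A] Q) := Module.Projective.of_split s π hs
  have : Module.Flat T (T ⊗[R] (R ⊗[A] Q)) :=
    Module.Flat.of_linearEquiv (AlgebraTensorModule.cancelBaseChange A R T T Q)
  have : Module.Flat R (R ⊗[A] Q) := Module.Flat.of_flat_tensorProduct R (R ⊗[A] Q) T
  exact Module.Flat.trans A R (R ⊗[A] Q)

theorem exists_regular [Module.Finite A B] [Algebra.Etale A B] [Module.Finite A C] [Algebra.Etale A C]
    (f g : B →ₐ[A] C) : ∃ h : C →ₗ[A] B, diff f g ∘ₗ h ∘ₗ diff f g = diff f g := by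
  let d := diff f g
  have := flat_coker f g
  have : Module.FinitePresentation A C := Module.FinitePresentation.of_finite_of_finitePresentation A _
  have hfp : Module.FinitePresentation A (C ⧸ LinearMap.range d) :=
    Module.finitePresentation_of_surjective _ (Submodule.mkQ_surjective _)
      (by rw [Submodule.ker_mkQ]; exact Module.Finite.iff_fg.mp inferInstance)
  have : Module.Projective A (C ⧸ LinearMap.range d) := Module.Flat.projective_of_finitePresentation
  obtain ⟨s, hs⟩ := Module.projective_lifting_property _ LinearMap.id (Submodule.mkQ_surjective (LinearMap.range d))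
  let p : C →ₗ[A] LinearMap.range d := (LinearMap.id - s ∘ₗ (LinearMap.range d).mkQ).codRestrict _ fun c => by
    have := LinearMap.congr_fun hs ((LinearMap.range d).mkQ c)
    rw [← Submodule.Quotient.mk_eq_zero, ← Submodule.mkQ_apply, LinearMap.sub_apply, map_sub]
    simp only [LinearMap.comp_apply, LinearMap.id_apply] at this ⊢
    rw [this, sub_self]
  have : Module.Projective A C := Module.Flat.projective_of_finitePresentation
  have hpd : ∀ y : LinearMap.range d, p y = y := by
    intro y
    apply Subtype.ext
    change (y : C) - s ((LinearMap.range d).mkQ y) = y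
    rw [Submodule.mkQ_apply, (Submodule.Quotient.mk_eq_zero _).mpr y.2, map_zero, sub_zero]
  have : Module.Projective A (LinearMap.range d) :=
    Module.Projective.of_split (LinearMap.range d).subtype p (LinearMap.ext hpd)
  obtain ⟨t, ht⟩ := Module.projective_lifting_property _ LinearMap.id (LinearMap.surjective_rangeRestrict d)
  refine ⟨t ∘ₗ p, LinearMap.ext fun b => ?_⟩
  change d (t (p (d b))) = d b
  rw [hpd ⟨d b, b, rfl⟩]
  exact congrArg Subtype.val (LinearMap.congr_fun ht ⟨d b, b, rfl⟩)

variable [Module.Finite A B] [Algebra.Etale A B] [Module.Finite A C] [Algebra.Etale A C] (f g : B →ₐ[A] C)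

theorem exists_retraction : ∃ r : B →ₗ[A] (AlgHom.equalizer f g),
    (∀ x : AlgHom.equalizer f g, r x = x) ∧
      ∃ h : C →ₗ[A] B, ∀ b, ((r b : AlgHom.equalizer f g) : B) = b - h (diff f g b) := by
  obtain ⟨h, hh⟩ := exists_regular f g
  let r : B →ₗ[A] Subalgebra.toSubmodule (AlgHom.equalizer f g) :=
    (LinearMap.id - h ∘ₗ diff f g).codRestrict _ fun b => by
      have := LinearMap.congr_fun hh b
      simp only [diff, LinearMap.comp_apply, LinearMap.sub_apply, AlgHom.toLinearMap_apply] at this
      change f (b - h (f b - g b)) = g (b - h (f b - g b))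
      rw [map_sub f, map_sub g]
      linear_combination -this
  refine ⟨r, fun x => Subtype.ext ?_, h, fun b => rfl⟩
  change (x : B) - h (f x - g x) = x
  rw [x.2, sub_self, map_zero, sub_zero]

/-- The equalizer of two maps of finite étale algebras is finite projective. -/
theorem finite_projective_equalizer :
    Module.Finite A (AlgHom.equalizer f g) ∧ Module.Projective A (AlgHom.equalizer f g) := by
  obtain ⟨r, hr, -⟩ := exists_retraction f g
  have : Module.FinitePresentation A B := Module.FinitePresentation.of_finite_of_finitePresentation A _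
  have : Module.Projective A B := Module.Flat.projective_of_finitePresentation
  exact ⟨Module.Finite.of_surjective r fun x => ⟨x, hr x⟩,
    Module.Projective.of_split (AlgHom.equalizer f g).val.toLinearMap r (LinearMap.ext hr)⟩

/-- Formation of the equalizer commutes with every base change. -/
theorem baseChange_equalizer (T : Type u) [CommRing T] [Algebra A T] :
    Function.Injective (Algebra.TensorProduct.map (AlgHom.id T T) (AlgHom.equalizer f g).val) ∧
      ∀ x, Algebra.TensorProduct.map (AlgHom.id T T) f x = Algebra.TensorProduct.map (AlgHom.id T T) g x →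
        ∃ y, Algebra.TensorProduct.map (AlgHom.id T T) (AlgHom.equalizer f g).val y = x := by
  obtain ⟨r, hr, h, hrh⟩ := exists_retraction f g
  have hleft : ∀ y, r.baseChange T (Algebra.TensorProduct.map (AlgHom.id T T) (AlgHom.equalizer f g).val y) = y := by
    intro y
    induction y using TensorProduct.induction_on with
    | zero => simp
    | tmul t x => simp [hr]
    | add a b ha hb => simp [ha, hb]
  refine ⟨Function.LeftInverse.injective hleft, fun x hx => ⟨r.baseChange T x, ?_⟩⟩
  have hd : (diff f g).baseChange T x = 0 := by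
    rw [baseChange_diff]; exact sub_eq_zero.mpr hx
  have key : ∀ z, Algebra.TensorProduct.map (AlgHom.id T T) (AlgHom.equalizer f g).val (r.baseChange T z) =
      z - h.baseChange T ((diff f g).baseChange T z) := by
    intro z
    induction z using TensorProduct.induction_on with
    | zero => simp
    | tmul t b => simp [hrh, TensorProduct.tmul_sub]
    | add a b ha hb => simp only [map_add, ha, hb]; abel
  rw [key, hd, map_zero, sub_zero]

/-- The points of the equalizer over an algebra `T` for which both algebras split. -/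
theorem split_points {T : Type u} [Field T] [Algebra A T] [IsSepClosed T] :
    (∀ x : (AlgHom.equalizer f g) →ₐ[A] T, ∃ y : B →ₐ[A] T, y.comp (AlgHom.equalizer f g).val = x) ∧
    (∀ y y' : B →ₐ[A] T, y.comp (AlgHom.equalizer f g).val = y'.comp (AlgHom.equalizer f g).val →
      Relation.EqvGen (fun a b => ∃ z : C →ₐ[A] T, z.comp f = a ∧ z.comp g = b) y y') ∧
    ∃ n : ℕ, ∃ ι : (T ⊗[A] (AlgHom.equalizer f g)) →ₐ[T] (Fin n → T), Function.Injective ι := by
  classical
  obtain ⟨n, ⟨eB⟩⟩ := Algebra.IsFiniteSplit.nonempty_algEquiv_fun T (T ⊗[A] B)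
  obtain ⟨m, ⟨eC⟩⟩ := Algebra.IsFiniteSplit.nonempty_algEquiv_fun T (T ⊗[A] C)
  let fT := Algebra.TensorProduct.map (AlgHom.id T T) f
  let gT := Algebra.TensorProduct.map (AlgHom.id T T) g
  obtain ⟨φ, hφ⟩ := algHom_pi_eq_comp ((eC.toAlgHom.comp fT).comp eB.symm.toAlgHom)
  obtain ⟨ψ, hψ⟩ := algHom_pi_eq_comp ((eC.toAlgHom.comp gT).comp eB.symm.toAlgHom)
  obtain ⟨hinj, hsurj⟩ := baseChange_equalizer f g T
  let ι := eB.toAlgHom.comp (Algebra.TensorProduct.map (AlgHom.id T T) (AlgHom.equalizer f g).val)
  have hιinj : Function.Injective ι := eB.injective.comp hinj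
  -- the evaluation points
  let ptB : Fin n → (B →ₐ[A] T) := fun i =>
    (((Pi.evalAlgHom T (fun _ => T) i).comp eB.toAlgHom).restrictScalars A).comp Algebra.TensorProduct.includeRight
  let ptC : Fin m → (C →ₐ[A] T) := fun j =>
    (((Pi.evalAlgHom T (fun _ => T) j).comp eC.toAlgHom).restrictScalars A).comp Algebra.TensorProduct.includeRight
  have hf : ∀ j, (ptC j).comp f = ptB (φ j) := fun j => AlgHom.ext fun b => by
    have := congrFun (hφ (eB (1 ⊗ₜ b))) j
    simpa [ptB, ptC, fT] using this
  have hg : ∀ j, (ptC j).comp g = ptB (ψ j) := fun j => AlgHom.ext fun b => by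
    have := congrFun (hψ (eB (1 ⊗ₜ b))) j
    simpa [ptB, ptC, gT] using this
  have hptB : ∀ y : B →ₐ[A] T, ∃ i, ptB i = y := by
    intro y
    let y' : T ⊗[A] B →ₐ[T] T :=
      Algebra.TensorProduct.lift (AlgHom.id T T) y (fun _ _ => Commute.all _ _)
    obtain ⟨i, hi⟩ := algHom_pi_eq_comp (κ := Unit)
      (((AlgEquiv.funUnique T Unit T).symm.toAlgHom).comp (y'.comp eB.symm.toAlgHom))
    refine ⟨i (), AlgHom.ext fun b => ?_⟩
    have := congrFun (hi (eB (1 ⊗ₜ b))) ()
    simpa [y', ptB] using this.symm
  -- functions constant on classes are in the image of the equalizer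
  have himage : ∀ a : Fin n → T, (∀ j, a (φ j) = a (ψ j)) → ∃ y, ι y = a := by
    intro a ha
    have h1 : fT (eB.symm a) = gT (eB.symm a) := by
      apply eC.injective
      have e1 : eC (fT (eB.symm a)) = a ∘ φ := hφ a
      have e2 : eC (gT (eB.symm a)) = a ∘ ψ := hψ a
      rw [e1, e2]
      exact funext ha
    obtain ⟨y, hy⟩ := hsurj _ h1
    exact ⟨y, by simp [ι, hy]⟩
  have hconst : ∀ y j, ι y (φ j) = ι y (ψ j) := by
    intro y j
    have h1 : fT (eB.symm (ι y)) = gT (eB.symm (ι y)) := by
      simp only [ι, AlgHom.comp_apply, AlgEquiv.coe_toAlgHom, AlgEquiv.symm_apply_apply]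
      induction y using TensorProduct.induction_on with
      | zero => simp
      | tmul t x => simp [fT, gT, show f (x : B) = g x from x.2]
      | add a b ha hb => simp only [map_add, ha, hb]
    have e1 : eC (fT (eB.symm (ι y))) = ι y ∘ φ := hφ _
    have e2 : eC (gT (eB.symm (ι y))) = ι y ∘ ψ := hψ _
    rw [h1, e2] at e1
    exact congrFun e1.symm j
  refine ⟨fun x => ?_, fun y y' hyy' => ?_, n, ι, hιinj⟩
  · let x' : T ⊗[A] (AlgHom.equalizer f g) →ₐ[T] T :=
      Algebra.TensorProduct.lift (AlgHom.id T T) x (fun _ _ => Commute.all _ _)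
    -- transport the point to functions on classes
    let cls : Fin n → Quot (Rel φ ψ) := Quot.mk _
    have : Finite (Quot (Rel φ ψ)) := Finite.of_surjective cls Quot.mk_surjective
    have hex : ∀ a : Quot (Rel φ ψ) → T, ∃ y, ι y = a ∘ cls :=
      fun a => himage _ fun j => congrArg a (Quot.sound ⟨j, rfl, rfl⟩)
    choose s hs using hex
    let S : (Quot (Rel φ ψ) → T) →ₐ[T] (Unit → T) :=
      { toFun := fun a _ => x' (s a)
        map_one' := by
          funext _
          have : s 1 = 1 := hιinj (by rw [hs, map_one]; rfl)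
          simp [this]
        map_mul' := fun a b => by
          funext _
          have : s (a * b) = s a * s b := hιinj (by rw [hs, map_mul, hs, hs]; rfl)
          simp [this]
        map_zero' := by
          funext _
          have : s 0 = 0 := hιinj (by rw [hs, map_zero]; rfl)
          simp [this]
        map_add' := fun a b => by
          funext _
          have : s (a + b) = s a + s b := hιinj (by rw [hs, map_add, hs, hs]; rfl)
          simp [this]
        commutes' := fun t => by
          funext _
          have : s (algebraMap T _ t) = algebraMap T _ t := hιinj (by rw [hs, AlgHom.commutes]; rfl)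
          rw [this, AlgHom.commutes]
          rfl }
    obtain ⟨c, hc⟩ := algHom_pi_eq_comp S
    obtain ⟨i, hi⟩ := Quot.mk_surjective (r := Rel φ ψ) (c ())
    refine ⟨ptB i, AlgHom.ext fun e => ?_⟩
    let a : Quot (Rel φ ψ) → T := Quot.lift (ι (1 ⊗ₜ e))
      (fun p q ⟨j, hp, hq⟩ => by rw [← hp, ← hq]; exact hconst _ j)
    have hsa : s a = 1 ⊗ₜ e := hιinj (by rw [hs]; rfl)
    have h1 : x' (s a) = a (c ()) := congrFun (hc a) ()
    rw [hsa, ← hi] at h1
    simpa [x', ptB, ι, a] using h1.symm
  · obtain ⟨i, rfl⟩ := hptB y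
    obtain ⟨i', rfl⟩ := hptB y'
    have hrel : Relation.EqvGen (Rel φ ψ) i i' := by
      apply Quot.eqvGen_exact
      by_contra hne
      let a : Fin n → T := fun k => if Quot.mk (Rel φ ψ) k = Quot.mk _ i then 1 else 0
      obtain ⟨z, hz⟩ := himage a fun j => by simp only [a, Quot.sound (r := Rel φ ψ) ⟨j, rfl, rfl⟩]
      have key : ∀ z : T ⊗[A] (AlgHom.equalizer f g), ι z i = ι z i' := by
        intro z
        induction z using TensorProduct.induction_on with
        | zero => simp
        | tmul t e =>
          have h1 := AlgHom.congr_fun hyy' e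
          have e1 : t ⊗ₜ[A] (e : B) = t • ((1 : T) ⊗ₜ[A] (e : B)) := by simp [TensorProduct.smul_tmul']
          simp only [ι, AlgHom.comp_apply, Algebra.TensorProduct.map_tmul, AlgHom.id_apply, AlgEquiv.coe_toAlgHom,
            Subalgebra.coe_val, e1, map_smul, Pi.smul_apply]
          simp [ptB] at h1
          rw [h1]
        | add a b ha hb => simp only [map_add, Pi.add_apply, ha, hb]
      have := key z
      rw [hz] at this
      simp [a, Ne.symm hne] at this
    clear hyy'
    induction hrel with
    | rel p q h =>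
      obtain ⟨j, rfl, rfl⟩ := h
      exact .rel _ _ ⟨ptC j, hf j, hg j⟩
    | refl p => exact .refl _
    | symm p q _ ih => exact .symm _ _ ih
    | trans p q r _ _ ih ih' => exact .trans _ _ _ ih ih'

/-- The equalizer of two maps of finite étale algebras is étale. -/
theorem etale_equalizer : Algebra.Etale A (AlgHom.equalizer f g) := by
  obtain ⟨_, _⟩ := finite_projective_equalizer f g
  set E := AlgHom.equalizer f g
  have : Module.FinitePresentation A E := Module.finitePresentation_of_projective A E
  have : Algebra.FinitePresentation A E := inferInstance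
  suffices Algebra.FormallyUnramified A E from Algebra.Etale.of_formallyUnramified_of_flat
  constructor
  have : Module.Finite A Ω[E⁄A] := Module.Finite.trans E _
  rw [← Module.support_eq_empty_iff (R := A), Set.eq_empty_iff_forall_notMem]
  intro p
  rw [Module.mem_support_iff_nontrivial_residueField_tensorProduct, not_nontrivial_iff_subsingleton]
  let k := AlgebraicClosure p.asIdeal.ResidueField
  obtain ⟨-, -, n, ι, hι⟩ := split_points f g (T := k)
  have : Module.Finite k (k ⊗[A] E) := inferInstance
  have : IsArtinianRing (k ⊗[A] E) := isArtinian_of_tower k inferInstance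
  have : IsReduced (k ⊗[A] E) := isReduced_of_injective ι hι
  have hfe : Algebra.FormallyUnramified k (k ⊗[A] E) := by
    have hsep : Algebra.Etale k (k ⊗[A] E) := by
      rw [Algebra.Etale.iff_exists_algEquiv_prod]
      refine ⟨MaximalSpectrum (k ⊗[A] E), inferInstance, fun I => (k ⊗[A] E) ⧸ I.asIdeal,
        fun I => Ideal.Quotient.field I.asIdeal, fun I => inferInstance,
        { __ := IsArtinianRing.equivPi (k ⊗[A] E), commutes' := fun t => rfl }, fun I => ?_⟩
      letI := Ideal.Quotient.field I.asIdeal
      have : Algebra.IsAlgebraic k ((k ⊗[A] E) ⧸ I.asIdeal) := Algebra.IsAlgebraic.of_finite k _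
      refine ⟨inferInstance, ?_⟩
      exact Algebra.IsAlgebraic.isSeparable_of_perfectField
    infer_instance
  letI : Algebra E (k ⊗[A] E) := Algebra.TensorProduct.rightAlgebra
  have h1 : Subsingleton (k ⊗[A] Ω[E⁄A]) :=
    (KaehlerDifferential.tensorKaehlerEquivBase A k E (k ⊗[A] E)).subsingleton
  have h2 : Subsingleton (k ⊗[p.asIdeal.ResidueField] (p.asIdeal.ResidueField ⊗[A] Ω[E⁄A])) :=
    (AlgebraTensorModule.cancelBaseChange A p.asIdeal.ResidueField k k Ω[E⁄A]).subsingleton
  exact Module.FaithfullyFlat.lTensor_reflects_triviality p.asIdeal.ResidueField k _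

end finEtale

end Groth.Agent.FEtCat.Split
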