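import Groth.Agent.RelSpecLib.Basic
import Mathlib.AlgebraicGeometry.Normalization

/-!
# Morphisms into relative spectra and charts of relative spectra
-/

noncomputable section

universe u

open CategoryTheory CategoryTheory.Limits AlgebraicGeometry TopologicalSpace Opposite
open RelSpec AlgebraicGeometry.Scheme.AffineZariskiSite

namespace Groth.Agent.FEtCat.ToSpec

variable {S T : Scheme.{u}} (A : QCAlg S) (h : T ⟶ S) (ω : A.presheaf ⟶ h.base _* T.presheaf)

set_option backward.isDefEq.respectTransparency false in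
/-- The morphism into the relative spectrum given by a map of presheaves of rings. -/
def toSpec : T ⟶ A.spec :=
  Scheme.OpenCover.glueMorphismsOfLocallyDirected
    ((directedCover S).pullback₁ h)
    (fun U ↦ (pullbackRestrictIsoRestrict h _).hom ≫
      (h ⁻¹ᵁ U.1).toSpecΓ ≫ Spec.map (ω.app (op U.1)) ≫ A.ι U.1 U.2) fun {U V} i ↦ by
  have : (pullbackRestrictIsoRestrict h U.1).inv ≫
      Scheme.Cover.trans ((directedCover S).pullback₁ h) i ≫
      (pullbackRestrictIsoRestrict h V.1).hom = T.homOfLE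
        (h.preimage_mono (toOpens_mono i.1.1)) := by
    rw [← cancel_mono (Scheme.Opens.ι _)]
    simp +instances [Scheme.Cover.trans, Scheme.Cover.locallyDirectedPullbackCover]
  rw [← Iso.inv_comp_eq, reassoc_of% this, ← Scheme.Opens.toSpecΓ_SpecMap_presheaf_map_assoc,
    ← Spec.map_comp_assoc]
  have hn := ω.naturality (homOfLE (toOpens_mono i.1.1)).op
  rw [← RelSpecLib.map_res_ι A V.2 U.2 (toOpens_mono i.1.1), ← Spec.map_comp_assoc, hn]
  rfl

set_option backward.isDefEq.respectTransparency.types false in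
theorem ι_toSpec (U : S.Opens) (hU : IsAffineOpen U) :
    (h ⁻¹ᵁ U).ι ≫ toSpec A h ω = (h ⁻¹ᵁ U).toSpecΓ ≫ Spec.map (ω.app (op U)) ≫ A.ι U hU := by
  rw [← cancel_epi (pullbackRestrictIsoRestrict h U).hom, ← Category.assoc]
  trans ((directedCover S).pullback₁ h).f ⟨U, hU⟩ ≫ toSpec A h ω
  · congr 1; exact pullbackRestrictIsoRestrict_hom_ι _ _
  delta toSpec
  generalize_proofs
  exact Scheme.OpenCover.map_glueMorphismsOfLocallyDirected _ _ (by assumption) _

set_option backward.isDefEq.respectTransparency false in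
theorem toSpec_π (hω : A.str ≫ ω = h.c) : toSpec A h ω ≫ A.π = h := by
  refine Scheme.Cover.hom_ext (T.openCoverOfIsOpenCover _
    (.comap (iSup_affineOpens_eq_top S) h.base.1)) _ _ fun U ↦ ?_
  change (h ⁻¹ᵁ U.1).ι ≫ toSpec A h ω ≫ A.π = (h ⁻¹ᵁ U.1).ι ≫ h
  rw [← Category.assoc, ι_toSpec A h ω U.1 U.2, Category.assoc, Category.assoc, A.ι_π,
    ← Spec.map_comp_assoc]
  have : A.str.app (op U.1) ≫ ω.app (op U.1) = h.app U.1 := NatTrans.congr_app hω (op U.1)
  rw [this]
  simp

/-- Maps out of a scheme over the base agree if they agree over all affine opens of the base. -/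
theorem hom_ext {W : Scheme.{u}} (φ ψ : T ⟶ W)
    (e : ∀ (U : S.Opens), IsAffineOpen U → (h ⁻¹ᵁ U).ι ≫ φ = (h ⁻¹ᵁ U).ι ≫ ψ) : φ = ψ :=
  Scheme.Cover.hom_ext (T.openCoverOfIsOpenCover _
    (.comap (iSup_affineOpens_eq_top S) h.base.1)) _ _ fun U ↦ e U.1 U.2

/-- The chart is the base change of the affine open. -/
theorem isPullback_ι (U : S.Opens) (hU : IsAffineOpen U) :
    IsPullback (Spec.map (A.str.app (op U))) (A.ι U hU) hU.fromSpec A.π := by
  refine IsOpenImmersion.isPullback _ _ _ _ (A.ι_π U hU) ?_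
  rw [IsAffineOpen.opensRange_fromSpec]
  exact A.π_preimage U hU

/-- A property local on the base holds for the structure map if it holds on the charts. -/
theorem prop_π (P : MorphismProperty Scheme.{u}) [IsZariskiLocalAtTarget P]
    (H : ∀ (U : S.Opens), IsAffineOpen U → P (Spec.map (A.str.app (op U)))) : P A.π := by
  let 𝒰 : S.OpenCover := Scheme.Cover.mkOfCovers S.affineOpens (fun U => Spec Γ(S, U.1))
    (fun U => U.2.fromSpec) (fun x => by
      obtain ⟨_, ⟨U, hU, rfl⟩, hxU, -⟩ :=
        S.isBasis_affineOpens.exists_subset_of_mem_open (show x ∈ (⊤ : S.Opens) from trivial) isOpen_univ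
      have : x ∈ Set.range hU.fromSpec := by rw [hU.range_fromSpec]; exact hxU
      obtain ⟨y, hy⟩ := this
      exact ⟨⟨U, hU⟩, y, hy⟩) (fun U => U.2.isOpenImmersion_fromSpec)
  rw [IsZariskiLocalAtTarget.iff_of_openCover (P := P) 𝒰]
  intro U
  have hpb := (isPullback_ι A U.1 U.2).flip
  change P (pullback.snd A.π U.2.fromSpec)
  rw [← hpb.isoPullback_inv_snd]
  exact (P.cancel_left_of_respectsIso _ _).mpr (H U.1 U.2)

end Groth.Agent.FEtCat.ToSpec
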