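import Groth.Agent.FEtCat.Basic
import Groth.Agent.FEtCat.EqAlg
import Groth.Agent.FEtCat.ToSpec
import Groth.Agent.FEtCat.Split

/-!
# Coequalizers of finite étale covers
-/

noncomputable section

universe u

open CategoryTheory CategoryTheory.Limits AlgebraicGeometry TopologicalSpace Opposite
open RelSpec

namespace Groth.Agent.FEtCat.Coequalizer

open Groth.Agent.FEtCat.Basic

variable {X : Scheme.{u}} {Y Z : FEt.Cat X} (f g : Y ⟶ Z)

/-- The equalizer algebra of two maps of covers. -/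
def eqAlg : QCAlg X :=
  EqAlg.alg Z.hom Y.hom f.left g.left (MorphismProperty.Over.w f) (MorphismProperty.Over.w g)

/-- The inclusion of the equalizer algebra into the direct image. -/
def eqIncl : (eqAlg f g).presheaf ⟶ Z.hom.base _* Z.left.presheaf :=
  EqAlg.incl Z.hom Y.hom f.left g.left (MorphismProperty.Over.w f) (MorphismProperty.Over.w g)

theorem str_eqIncl : (eqAlg f g).str ≫ eqIncl f g = Z.hom.c := rfl

theorem eqIncl_injective (U : X.Opens) : Function.Injective ((eqIncl f g).app (op U)) :=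
  EqAlg.incl_injective _ _ _ _ _ _ _

theorem eqIncl_condition (U : X.Opens) :
    (eqIncl f g).app (op U) ≫ f.left.appLE (Z.hom ⁻¹ᵁ U) (Y.hom ⁻¹ᵁ U)
        (EqAlg.preimage_le Z.hom Y.hom (MorphismProperty.Over.w f) U) =
      (eqIncl f g).app (op U) ≫ g.left.appLE (Z.hom ⁻¹ᵁ U) (Y.hom ⁻¹ᵁ U)
        (EqAlg.preimage_le Z.hom Y.hom (MorphismProperty.Over.w g) U) :=
  CommRingCat.hom_ext (RingHom.ext fun x => x.2)

section affine

variable {U : X.Opens} (hU : IsAffineOpen U)

include hU in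
theorem finite_etale_str :
    ((eqAlg f g).str.app (op U)).hom.Finite ∧ ((eqAlg f g).str.app (op U)).hom.Etale := by
  let B : Type u := Γ(Z.left, Z.hom ⁻¹ᵁ U)
  let C : Type u := Γ(Y.left, Y.hom ⁻¹ᵁ U)
  let _ : Algebra Γ(X, U) B := (Z.hom.app U).hom.toAlgebra
  let _ : Algebra Γ(X, U) C := (Y.hom.app U).hom.toAlgebra
  have : Module.Finite Γ(X, U) B := Z.hom.finite_app U hU
  have : Module.Finite Γ(X, U) C := Y.hom.finite_app U hU
  have e : ∀ (W : FEt.Cat X), (W.hom.app U).hom.Etale := fun W => by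
    have h := W.hom.etale_appLE hU (hU.preimage W.hom) le_rfl
    rwa [← Scheme.Hom.app_eq_appLE] at h
  have : Algebra.Etale Γ(X, U) B := RingHom.etale_algebraMap.1 (e Z)
  have : Algebra.Etale Γ(X, U) C := RingHom.etale_algebraMap.1 (e Y)
  let α : B →ₐ[Γ(X, U)] C :=
    { ((EqAlg.pullHom Z.hom Y.hom (MorphismProperty.Over.w f)).app (op U)).hom with
      commutes' := fun r => ConcreteCategory.congr_hom
        (NatTrans.congr_app (EqAlg.c_pullHom Z.hom Y.hom (MorphismProperty.Over.w f)) (op U)) r }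
  let β : B →ₐ[Γ(X, U)] C :=
    { ((EqAlg.pullHom Z.hom Y.hom (MorphismProperty.Over.w g)).app (op U)).hom with
      commutes' := fun r => ConcreteCategory.congr_hom
        (NatTrans.congr_app (EqAlg.c_pullHom Z.hom Y.hom (MorphismProperty.Over.w g)) (op U)) r }
  obtain ⟨h1, -⟩ := Split.finite_projective_equalizer α β
  exact ⟨RingHom.finite_algebraMap.2 h1, RingHom.etale_algebraMap.2 (Split.etale_equalizer α β)⟩

end affine

set_option backward.isDefEq.respectTransparency.types false in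
/-- The coequalizer cover. -/
def obj : FEt.Cat X :=
  MorphismProperty.Over.mk ⊤ (eqAlg f g).π
    ⟨ToSpec.prop_π (eqAlg f g) (@IsFinite : MorphismProperty Scheme.{u}) fun _ hU => (IsFinite.SpecMap_iff _).2 (finite_etale_str f g hU).1,
     ToSpec.prop_π (eqAlg f g) (@Etale : MorphismProperty Scheme.{u}) fun _ hU =>
      (HasRingHomProperty.Spec_iff (P := @Etale)).2 (finite_etale_str f g hU).2⟩

/-- The quotient map on schemes. -/
def projLeft : Z.left ⟶ (eqAlg f g).spec := ToSpec.toSpec (eqAlg f g) Z.hom (eqIncl f g)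

theorem projLeft_π : projLeft f g ≫ (eqAlg f g).π = Z.hom :=
  ToSpec.toSpec_π _ _ _ (str_eqIncl f g)

/-- The quotient map. -/
def proj : Z ⟶ obj f g := homMk (Z := obj f g) (projLeft f g) (projLeft_π f g)

theorem fromSpec_projLeft {U : X.Opens} (hU : IsAffineOpen U) :
    (hU.preimage Z.hom).fromSpec ≫ projLeft f g =
      Spec.map ((eqIncl f g).app (op U)) ≫ (eqAlg f g).ι U hU := by
  rw [← cancel_epi (hU.preimage Z.hom).isoSpec.hom, IsAffineOpen.isoSpec_hom_fromSpec_assoc,
    IsAffineOpen.isoSpec_hom, projLeft, ToSpec.ι_toSpec]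

theorem condition_left : f.left ≫ projLeft f g = g.left ≫ projLeft f g := by
  refine ToSpec.hom_ext Y.hom _ _ fun U hU => ?_
  have hY := hU.preimage Y.hom
  rw [← cancel_epi hY.isoSpec.inv]
  simp only [IsAffineOpen.isoSpec_inv_ι_assoc]
  rw [← IsAffineOpen.SpecMap_appLE_fromSpec_assoc f.left (hU.preimage Z.hom) hY
      (EqAlg.preimage_le Z.hom Y.hom (MorphismProperty.Over.w f) U),
    ← IsAffineOpen.SpecMap_appLE_fromSpec_assoc g.left (hU.preimage Z.hom) hY
      (EqAlg.preimage_le Z.hom Y.hom (MorphismProperty.Over.w g) U),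
    fromSpec_projLeft f g hU, ← Spec.map_comp_assoc, ← Spec.map_comp_assoc, eqIncl_condition]

theorem condition : f ≫ proj f g = g ≫ proj f g := hom_ext (condition_left f g)

section desc

variable {W : FEt.Cat X} (w : Z ⟶ W) (hw : f ≫ w = g ≫ w)

/-- Pullback of sections into the equalizer. -/
def descApp (U : X.Opens) : Γ(W.left, W.hom ⁻¹ᵁ U) ⟶ (eqAlg f g).presheaf.obj (op U) :=
  CommRingCat.ofHom (((EqAlg.pullHom W.hom Z.hom (MorphismProperty.Over.w w)).app (op U)).hom.codRestrict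
    (EqAlg.eqSub Z.hom Y.hom f.left g.left (MorphismProperty.Over.w f) (MorphismProperty.Over.w g) U)
    fun x => by
      change (f.left.appLE _ _ _).hom ((w.left.appLE _ _ _).hom x) =
        (g.left.appLE _ _ _).hom ((w.left.appLE _ _ _).hom x)
      have h1 : f.left ≫ w.left = g.left ≫ w.left := congrArg (fun t : Y ⟶ W => t.left) hw
      simp only [← CommRingCat.comp_apply, Scheme.Hom.appLE_comp_appLE, h1])

theorem descApp_eqIncl (U : X.Opens) :
    descApp f g w hw U ≫ (eqIncl f g).app (op U) =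
      (EqAlg.pullHom W.hom Z.hom (MorphismProperty.Over.w w)).app (op U) := rfl

theorem descApp_map {U V : X.Opens} (i : V ≤ U) :
    descApp f g w hw U ≫ (eqAlg f g).presheaf.map (homOfLE i).op =
      W.left.presheaf.map (homOfLE (W.hom.preimage_mono i)).op ≫ descApp f g w hw V :=
  CommRingCat.hom_ext (RingHom.ext fun x => Subtype.ext
    (ConcreteCategory.congr_hom ((EqAlg.pullHom W.hom Z.hom (MorphismProperty.Over.w w)).naturality (homOfLE i).op) x).symm)

theorem existsUnique_desc : ∃! l : (eqAlg f g).spec ⟶ W.left,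
    ∀ (U : X.Opens) (hU : IsAffineOpen U) (_ : True),
      (eqAlg f g).ι U hU ≫ l = Spec.map (descApp f g w hw U) ≫ (hU.preimage W.hom).fromSpec :=
  RelSpecLib.existsUnique_glue (eqAlg f g) (fun _ => True)
    (fun x => by
      obtain ⟨_, ⟨U, hU, rfl⟩, hxU, -⟩ :=
        X.isBasis_affineOpens.exists_subset_of_mem_open (show x ∈ (⊤ : X.Opens) from trivial) isOpen_univ
      exact ⟨U, hU, hxU, trivial⟩)
    (fun _ _ _ _ _ => trivial) _
    (fun U V hU hV i _ _ => by
      rw [← Spec.map_comp_assoc, descApp_map, Spec.map_comp_assoc, IsAffineOpen.map_fromSpec])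

/-- The descended map on schemes. -/
def descLeft : (eqAlg f g).spec ⟶ W.left := (existsUnique_desc f g w hw).exists.choose

theorem ι_descLeft (U : X.Opens) (hU : IsAffineOpen U) :
    (eqAlg f g).ι U hU ≫ descLeft f g w hw = Spec.map (descApp f g w hw U) ≫ (hU.preimage W.hom).fromSpec :=
  (existsUnique_desc f g w hw).exists.choose_spec U hU trivial

theorem descLeft_hom : descLeft f g w hw ≫ W.hom = (eqAlg f g).π := by
  refine RelSpecLib.hom_ext (eqAlg f g) fun U hU => ?_
  rw [reassoc_of% (ι_descLeft f g w hw U hU), QCAlg.ι_π,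
    ← IsAffineOpen.SpecMap_appLE_fromSpec W.hom hU (hU.preimage W.hom) le_rfl, ← Spec.map_comp_assoc]
  congr 2
  refine CommRingCat.hom_ext (RingHom.ext fun x => Subtype.ext ?_)
  have := ConcreteCategory.congr_hom
    (NatTrans.congr_app (EqAlg.c_pullHom W.hom Z.hom (MorphismProperty.Over.w w)) (op U)) x
  rw [← Scheme.Hom.app_eq_appLE]
  exact this

theorem projLeft_descLeft : projLeft f g ≫ descLeft f g w hw = w.left := by
  refine ToSpec.hom_ext Z.hom _ _ fun U hU => ?_
  have hZ := hU.preimage Z.hom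
  rw [← cancel_epi hZ.isoSpec.inv]
  simp only [IsAffineOpen.isoSpec_inv_ι_assoc]
  rw [reassoc_of% (fromSpec_projLeft f g hU), ι_descLeft, ← Spec.map_comp_assoc, descApp_eqIncl]
  exact IsAffineOpen.SpecMap_appLE_fromSpec w.left (hU.preimage W.hom) hZ _

end desc

theorem left_ext_of_proj {W : FEt.Cat X} (l₁ l₂ : (eqAlg f g).spec ⟶ W.left)
    (hl₁ : l₁ ≫ W.hom = (eqAlg f g).π) (hl₂ : l₂ ≫ W.hom = (eqAlg f g).π)
    (hpm : projLeft f g ≫ l₁ = projLeft f g ≫ l₂) : l₁ = l₂ := by
  refine RelSpecLib.hom_ext (eqAlg f g) fun U hU => ?_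
  have hW := hU.preimage W.hom
  have fac : ∀ m : (eqAlg f g).spec ⟶ W.left, m ≫ W.hom = (eqAlg f g).π →
      ∃ μ : Γ(W.left, W.hom ⁻¹ᵁ U) ⟶ (eqAlg f g).presheaf.obj (op U),
      Spec.map μ ≫ hW.fromSpec = (eqAlg f g).ι U hU ≫ m := by
    intro m e
    have hr : Set.range ((eqAlg f g).ι U hU ≫ m) ⊆ Set.range hW.fromSpec := by
      rintro _ ⟨y, rfl⟩
      rw [hW.range_fromSpec]
      change W.hom (((eqAlg f g).ι U hU ≫ m) y) ∈ U
      have hy : (eqAlg f g).ι U hU y ∈ (eqAlg f g).π ⁻¹ᵁ U := by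
        rw [(eqAlg f g).π_preimage U hU]; exact ⟨y, rfl⟩
      rw [← Scheme.Hom.comp_apply, Category.assoc, e]
      exact hy
    obtain ⟨μ, hμ⟩ := Spec.map_surjective (IsOpenImmersion.lift hW.fromSpec _ hr)
    exact ⟨μ, by rw [hμ, IsOpenImmersion.lift_fac]⟩
  obtain ⟨μ₁, h₁⟩ := fac l₁ hl₁
  obtain ⟨μ₂, h₂⟩ := fac l₂ hl₂
  refine h₁.symm.trans (Eq.trans ?_ h₂)
  congr 2
  have key : Spec.map ((eqIncl f g).app (op U)) ≫ Spec.map μ₁ =
      Spec.map ((eqIncl f g).app (op U)) ≫ Spec.map μ₂ := by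
    rw [← cancel_mono hW.fromSpec, Category.assoc, Category.assoc, h₁, h₂,
      ← reassoc_of% (fromSpec_projLeft f g hU), ← reassoc_of% (fromSpec_projLeft f g hU), hpm]
  rw [← Spec.map_comp, ← Spec.map_comp] at key
  refine CommRingCat.hom_ext (RingHom.ext fun x => eqIncl_injective f g U ?_)
  exact ConcreteCategory.congr_hom (Spec.map_injective key) x

theorem hom_ext_of_proj {W : FEt.Cat X} (m₁ m₂ : obj f g ⟶ W) (h : proj f g ≫ m₁ = proj f g ≫ m₂) :
    m₁ = m₂ :=
  hom_ext (left_ext_of_proj f g m₁.left m₂.left (MorphismProperty.Over.w m₁) (MorphismProperty.Over.w m₂)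
    (congrArg (fun t : Z ⟶ W => t.left) h))

/-- The coequalizer cofork. -/
def cofork : Cofork f g := Cofork.ofπ (proj f g) (condition f g)

/-- It is a coequalizer. -/
def isColimit : IsColimit (cofork f g) :=
  Cofork.IsColimit.mk' _ fun s =>
    ⟨homMk (Y := obj f g) (descLeft f g s.π s.condition) (descLeft_hom f g s.π s.condition),
      hom_ext (projLeft_descLeft f g s.π s.condition),
      fun {m} hm => hom_ext_of_proj f g _ _ (hm.trans (hom_ext (projLeft_descLeft f g s.π s.condition)).symm)⟩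

instance hasCoequalizers : HasCoequalizers (FEt.Cat X) :=
  have : ∀ {Y Z : FEt.Cat X} {f g : Y ⟶ Z}, HasColimit (parallelPair f g) :=
    fun {_ _ f g} => ⟨⟨_, isColimit f g⟩⟩
  hasCoequalizers_of_hasColimit_parallelPair _

section fibre

variable {Ω : Type u} [Field Ω] [IsSepClosed Ω] (ξ : Spec (CommRingCat.of Ω) ⟶ X)

theorem fibre_proj : Function.Surjective ((FEt.fiber ξ).map (proj f g)) ∧
    ∀ s t : FEt.fiberObj ξ Z, (FEt.fiber ξ).map (proj f g) s = (FEt.fiber ξ).map (proj f g) t →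
      Relation.EqvGen (fun a b => ∃ z : FEt.fiberObj ξ Y,
        (FEt.fiber ξ).map f z = a ∧ (FEt.fiber ξ).map g z = b) s t := by
  obtain ⟨_, ⟨U, hU, rfl⟩, hxU, -⟩ :=
    X.isBasis_affineOpens.exists_subset_of_mem_open (show ξ default ∈ (⊤ : X.Opens) from trivial) isOpen_univ
  replace hU : IsAffineOpen U := hU
  have hξ : Set.range ξ ⊆ Set.range hU.fromSpec := by
    rintro _ ⟨a, rfl⟩
    rw [Subsingleton.elim a default, hU.range_fromSpec]
    exact hxU
  obtain ⟨a₀, ha₀⟩ := Spec.map_surjective (IsOpenImmersion.lift hU.fromSpec ξ hξ)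
  have hξ₀ : Spec.map a₀ ≫ hU.fromSpec = ξ := by rw [ha₀, IsOpenImmersion.lift_fac]
  let B : Type u := Γ(Z.left, Z.hom ⁻¹ᵁ U)
  let C : Type u := Γ(Y.left, Y.hom ⁻¹ᵁ U)
  let _ : Algebra Γ(X, U) B := (Z.hom.app U).hom.toAlgebra
  let _ : Algebra Γ(X, U) C := (Y.hom.app U).hom.toAlgebra
  let _ : Algebra Γ(X, U) Ω := a₀.hom.toAlgebra
  have : Module.Finite Γ(X, U) B := Z.hom.finite_app U hU
  have : Module.Finite Γ(X, U) C := Y.hom.finite_app U hU
  have e : ∀ (W : FEt.Cat X), (W.hom.app U).hom.Etale := fun W => by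
    have h := W.hom.etale_appLE hU (hU.preimage W.hom) le_rfl
    rwa [← Scheme.Hom.app_eq_appLE] at h
  have : Algebra.Etale Γ(X, U) B := RingHom.etale_algebraMap.1 (e Z)
  have : Algebra.Etale Γ(X, U) C := RingHom.etale_algebraMap.1 (e Y)
  let α : B →ₐ[Γ(X, U)] C :=
    { ((EqAlg.pullHom Z.hom Y.hom (MorphismProperty.Over.w f)).app (op U)).hom with
      commutes' := fun r => ConcreteCategory.congr_hom
        (NatTrans.congr_app (EqAlg.c_pullHom Z.hom Y.hom (MorphismProperty.Over.w f)) (op U)) r }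
  let β : B →ₐ[Γ(X, U)] C :=
    { ((EqAlg.pullHom Z.hom Y.hom (MorphismProperty.Over.w g)).app (op U)).hom with
      commutes' := fun r => ConcreteCategory.congr_hom
        (NatTrans.congr_app (EqAlg.c_pullHom Z.hom Y.hom (MorphismProperty.Over.w g)) (op U)) r }
  obtain ⟨hsurj, hrel, -⟩ := Split.split_points α β (T := Ω)
  let E : Type u := AlgHom.equalizer α β
  -- the point given by an algebra map
  let pZ : (B →ₐ[Γ(X, U)] Ω) → FEt.fiberObj ξ Z := fun y =>
    ⟨Spec.map (CommRingCat.ofHom y.toRingHom) ≫ (hU.preimage Z.hom).fromSpec, by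
      rw [Category.assoc, ← IsAffineOpen.SpecMap_appLE_fromSpec Z.hom hU (hU.preimage Z.hom) le_rfl,
        ← Spec.map_comp_assoc, ← Scheme.Hom.app_eq_appLE, ← hξ₀]
      congr 2
      exact CommRingCat.hom_ext (RingHom.ext y.commutes)⟩
  let pY : (C →ₐ[Γ(X, U)] Ω) → FEt.fiberObj ξ Y := fun y =>
    ⟨Spec.map (CommRingCat.ofHom y.toRingHom) ≫ (hU.preimage Y.hom).fromSpec, by
      rw [Category.assoc, ← IsAffineOpen.SpecMap_appLE_fromSpec Y.hom hU (hU.preimage Y.hom) le_rfl,
        ← Spec.map_comp_assoc, ← Scheme.Hom.app_eq_appLE, ← hξ₀]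
      congr 2
      exact CommRingCat.hom_ext (RingHom.ext y.commutes)⟩
  have hpZ : Function.Surjective pZ := by
    intro s
    have hr : Set.range s.1 ⊆ Set.range (hU.preimage Z.hom).fromSpec := by
      rintro _ ⟨a, rfl⟩
      rw [Subsingleton.elim a default, (hU.preimage Z.hom).range_fromSpec]
      change Z.hom (s.1 default) ∈ U
      rw [← Scheme.Hom.comp_apply, s.2]
      exact hxU
    obtain ⟨y, hy⟩ := Spec.map_surjective (IsOpenImmersion.lift (hU.preimage Z.hom).fromSpec s.1 hr)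
    have h1 : Spec.map y ≫ (hU.preimage Z.hom).fromSpec = s.1 := by rw [hy, IsOpenImmersion.lift_fac]
    have h2 : Z.hom.app U ≫ y = a₀ := by
      apply Spec.map_injective
      rw [← cancel_mono hU.fromSpec, Spec.map_comp, Category.assoc, Scheme.Hom.app_eq_appLE,
        IsAffineOpen.SpecMap_appLE_fromSpec Z.hom hU (hU.preimage Z.hom) le_rfl, reassoc_of% h1, hξ₀, s.2]
    exact ⟨{ y.hom with commutes' := fun r => ConcreteCategory.congr_hom h2 r }, Subtype.ext h1⟩
  have hproj : ∀ y : B →ₐ[Γ(X, U)] Ω, ((FEt.fiber ξ).map (proj f g) (pZ y)).1 =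
      Spec.map ((eqIncl f g).app (op U) ≫ CommRingCat.ofHom y.toRingHom) ≫ (eqAlg f g).ι U hU := by
    intro y
    change (Spec.map _ ≫ (hU.preimage Z.hom).fromSpec) ≫ projLeft f g = _
    rw [Category.assoc, fromSpec_projLeft, Spec.map_comp_assoc]
  constructor
  · intro s₀
    suffices H : ∀ (s : Spec (CommRingCat.of Ω) ⟶ (eqAlg f g).spec), s ≫ (eqAlg f g).π = ξ →
        ∃ y, ((FEt.fiber ξ).map (proj f g) y).1 = s by
      obtain ⟨y, hy⟩ := H s₀.1 s₀.2
      exact ⟨y, Subtype.ext hy⟩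
    intro s hs
    have hr : Set.range s ⊆ Set.range ((eqAlg f g).ι U hU) := by
      rintro _ ⟨a, rfl⟩
      refine RelSpecLib.exists_ι_apply_eq _ _ U hU ?_
      rw [Subsingleton.elim a default, ← Scheme.Hom.comp_apply]
      rw [hs]
      exact hxU
    obtain ⟨x, hx⟩ := Spec.map_surjective (IsOpenImmersion.lift ((eqAlg f g).ι U hU) s hr)
    have h1 : Spec.map x ≫ (eqAlg f g).ι U hU = s := by rw [hx, IsOpenImmersion.lift_fac]
    have h2 : (eqAlg f g).str.app (op U) ≫ x = a₀ := by
      apply Spec.map_injective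
      rw [← cancel_mono hU.fromSpec, Spec.map_comp, Category.assoc, ← QCAlg.ι_π, reassoc_of% h1, hξ₀]
      exact hs
    let x' : AlgHom.equalizer α β →ₐ[Γ(X, U)] Ω :=
      { x.hom with commutes' := fun r => ConcreteCategory.congr_hom h2 r }
    obtain ⟨y, hy⟩ := hsurj x'
    refine ⟨pZ y, (hproj y).trans (Eq.trans ?_ h1)⟩
    congr 2
    exact CommRingCat.hom_ext (RingHom.ext fun e => AlgHom.congr_fun hy e)
  · intro s t hst
    obtain ⟨y, rfl⟩ := hpZ s
    obtain ⟨y', rfl⟩ := hpZ t
    have h1 := (hproj y).symm.trans ((congrArg Subtype.val hst).trans (hproj y'))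
    have h2 : y.comp (AlgHom.equalizer α β).val = y'.comp (AlgHom.equalizer α β).val :=
      AlgHom.ext fun e => ConcreteCategory.congr_hom (Spec.map_injective ((cancel_mono _).1 h1)) e
    have key := hrel y y' h2
    clear h1 h2 hst
    induction key with
    | rel p q h =>
      obtain ⟨z, rfl, rfl⟩ := h
      refine .rel _ _ ⟨pY z, Subtype.ext ?_, Subtype.ext ?_⟩
      · change (Spec.map _ ≫ (hU.preimage Y.hom).fromSpec) ≫ f.left = _
        rw [Category.assoc, ← IsAffineOpen.SpecMap_appLE_fromSpec f.left (hU.preimage Z.hom) (hU.preimage Y.hom)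
          (EqAlg.preimage_le Z.hom Y.hom (MorphismProperty.Over.w f) U), ← Spec.map_comp_assoc]
        rfl
      · change (Spec.map _ ≫ (hU.preimage Y.hom).fromSpec) ≫ g.left = _
        rw [Category.assoc, ← IsAffineOpen.SpecMap_appLE_fromSpec g.left (hU.preimage Z.hom) (hU.preimage Y.hom)
          (EqAlg.preimage_le Z.hom Y.hom (MorphismProperty.Over.w g) U), ← Spec.map_comp_assoc]
        rfl
    | refl p => exact .refl _
    | symm p q _ ih => exact .symm _ _ ih
    | trans p q r _ _ ih ih' => exact .trans _ _ _ ih ih'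

instance preservesCoequalizers : PreservesColimit (parallelPair f g) (FEt.fiber ξ) := by
  refine preservesColimit_of_preserves_colimit_cocone (isColimit f g) ?_
  refine (isColimitMapCoconeCoforkEquiv (FEt.fiber ξ) (condition f g)).symm ?_
  obtain ⟨hs, hr⟩ := fibre_proj f g ξ
  refine Cofork.IsColimit.mk' _ fun c =>
    ⟨TypeCat.ofHom fun q => c.π (Function.surjInv hs q), ?_, fun {m} hm => ?_⟩
  · refine ConcreteCategory.hom_ext _ _ fun s => ?_
    change c.π (Function.surjInv hs ((FEt.fiber ξ).map (proj f g) s)) = c.π s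
    have H : ∀ p q : FEt.fiberObj ξ Z, Relation.EqvGen (fun a b => ∃ z : FEt.fiberObj ξ Y,
        (FEt.fiber ξ).map f z = a ∧ (FEt.fiber ξ).map g z = b) p q → c.π p = c.π q := by
      intro p q hpq
      induction hpq with
      | rel p q h =>
        obtain ⟨z, rfl, rfl⟩ := h
        exact ConcreteCategory.congr_hom c.condition z
      | refl p => rfl
      | symm p q _ ih => exact ih.symm
      | trans p q r _ _ ih ih' => exact ih.trans ih'
    exact H _ _ (hr _ s (Function.surjInv_eq hs _))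
  · refine ConcreteCategory.hom_ext _ _ fun q => ?_
    change m q = c.π (Function.surjInv hs q)
    rw [← hm]
    exact congrArg m (Function.surjInv_eq hs q).symm

end fibre

end Groth.Agent.FEtCat.Coequalizer
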