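import Groth.Prelude.Def_CohB1
import Groth.Agent.LocFlat.Basic
import Groth.Agent.EtStruct.Scheme
import Groth.Agent.UnramFib.Basic

/-!
# A finite scheme over a proper scheme over a complete ring, étale on all thickenings, is étale
-/

set_option backward.isDefEq.respectTransparency.types false
set_option autoImplicit false

universe u

open CategoryTheory CategoryTheory.Limits AlgebraicGeometry TensorProduct

noncomputable section

namespace Groth.Agent.FEtCat.CompleteEtale

/-- Flatness at a prime from flatness on all thickenings. -/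
theorem flat_atPrime {R B : Type u} [CommRing R] [CommRing B] [IsNoetherianRing R] [IsNoetherianRing B]
    [Algebra R B] (J : Ideal R) (q : Ideal B) [q.IsPrime] (hJ : J.map (algebraMap R B) ≤ q)
    (h : ∀ n : ℕ, Module.Flat (R ⧸ J ^ (n + 1)) ((R ⧸ J ^ (n + 1)) ⊗[R] B)) :
    Module.Flat R (Localization.AtPrime q) := by
  let Bq := Localization.AtPrime q
  refine LocFlat.flat_of_forall_pow (S := Bq) Bq J ?_ fun n M N _ _ _ _ a ha hN => ?_
  · refine le_trans ?_ (IsLocalRing.maximalIdeal_le_jacobson ⊥)
    rw [IsScalarTower.algebraMap_eq R B Bq, ← Ideal.map_map, ← Localization.AtPrime.map_eq_maximalIdeal]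
    exact Ideal.map_mono hJ
  have hN' : Module.IsTorsionBySet R N (J ^ (n + 1) : Ideal R) := by
    intro x r
    have : (r : R) • x ∈ J ^ n • (⊤ : Submodule R N) :=
      Submodule.smul_mem_smul (Ideal.pow_le_pow_right n.le_succ r.2) trivial
    rwa [hN, Submodule.mem_bot] at this
  have hM' : Module.IsTorsionBySet R M (J ^ (n + 1) : Ideal R) := fun x r => ha (by
    rw [map_smul, map_zero]; exact @hN' (a x) r)
  let R' := R ⧸ J ^ (n + 1)
  letI := hM'.module
  letI := hN'.module
  haveI : IsScalarTower R R' M := hM'.isScalarTower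
  haveI : IsScalarTower R R' N := hN'.isScalarTower
  let a' : M →ₗ[R'] N := LinearMap.extendScalarsOfSurjective Ideal.Quotient.mk_surjective a
  have := h n
  have h1 : Function.Injective (a'.rTensor (R' ⊗[R] B)) :=
    Module.Flat.rTensor_preserves_injective_linearMap a' ha
  let eM := AlgebraTensorModule.cancelBaseChange R R' R' M B
  let eN := AlgebraTensorModule.cancelBaseChange R R' R' N B
  have h2 : Function.Injective (a.rTensor B) := by
    have key : ∀ z, a.rTensor B (eM z) = eN (a'.rTensor (R' ⊗[R] B) z) := by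
      intro z
      induction z with
      | zero => simp
      | tmul m w =>
        induction w with
        | zero => simp
        | tmul r b =>
          simp only [eM, eN, AlgebraTensorModule.cancelBaseChange_tmul, LinearMap.rTensor_tmul]
          congr 1
          exact a'.map_smul r m
        | add w w' hw hw' => simp only [TensorProduct.tmul_add, map_add, hw, hw']
      | add z z' hz hz' => simp only [map_add, hz, hz']
    intro x y hxy
    obtain ⟨x, rfl⟩ := eM.surjective x
    obtain ⟨y, rfl⟩ := eM.surjective y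
    rw [key, key] at hxy
    rw [h1 (eN.injective hxy)]
  have h3 : Function.Injective (AlgebraTensorModule.lTensor B B a) := by
    have h4 := (LinearMap.lTensor_inj_iff_rTensor_inj B a).mpr h2
    exact h4
  have h5 : Function.Injective ((AlgebraTensorModule.lTensor B B a).lTensor Bq) :=
    Module.Flat.lTensor_preserves_injective_linearMap _ h3
  let cM := AlgebraTensorModule.cancelBaseChange R B B Bq M
  let cN := AlgebraTensorModule.cancelBaseChange R B B Bq N
  have key2 : ∀ z, a.lTensor Bq (cM z) = cN ((AlgebraTensorModule.lTensor B B a).lTensor Bq z) := by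
    intro z
    induction z with
    | zero => simp
    | tmul m w =>
      induction w with
      | zero => simp
      | tmul r b =>
        simp [cM, cN]
      | add w w' hw hw' => simp only [TensorProduct.tmul_add, map_add, hw, hw']
    | add z z' hz hz' => simp only [map_add, hz, hz']
  rw [← LinearMap.lTensor_inj_iff_rTensor_inj]
  intro x y hxy
  obtain ⟨x, rfl⟩ := cM.surjective x
  obtain ⟨y, rfl⟩ := cM.surjective y
  rw [key2, key2] at hxy
  rw [h5 (cN.injective hxy)]

variable {A : Type u} [CommRing A] [IsNoetherianRing A] (I : Ideal A) [IsAdicComplete I A]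
  {X W : Scheme.{u}} (f : X ⟶ Spec (CommRingCat.of A)) [IsProper f] (i : W ⟶ X) [IsFinite i]
  {Y : ℕ → Scheme.{u}} (y : (n : ℕ) → (Y n ⟶ CohB1.thick f I n)) (w : (n : ℕ) → (Y n ⟶ W))

theorem specQuot_range (n : ℕ) (z : ↥(Spec (CommRingCat.of (A ⧸ I ^ (n + 1))))) :
    I ≤ (CohB1.specQuot I n z).asIdeal := by
  intro a ha
  have h1 : a ^ (n + 1) ∈ (CohB1.specQuot I n z).asIdeal := by
    show Ideal.Quotient.mk (I ^ (n + 1)) (a ^ (n + 1)) ∈ z.asIdeal
    rw [Ideal.Quotient.eq_zero_iff_mem.mpr (Ideal.pow_mem_pow ha _)]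
    exact zero_mem _
  exact (CohB1.specQuot I n z).2.mem_of_pow_mem _ h1

theorem mem_range_thickι (x : X) (hx : I ≤ (f x).asIdeal) : x ∈ Set.range (CohB1.thickι f I 0) := by
  have key := Scheme.Pullback.range_fst (f := f) (g := CohB1.specQuot I 0)
  refine key.ge ?_
  show f x ∈ Set.range (PrimeSpectrum.comap (Ideal.Quotient.mk (I ^ (0 + 1))))
  rw [range_comap_of_surjective _ _ Ideal.Quotient.mk_surjective, Ideal.mk_ker]
  exact (Ideal.pow_le_self (Nat.succ_ne_zero 0)).trans hx

theorem stalk_unramified (hy : ∀ n, Etale (y n))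
    (hw : ∀ n, IsPullback (w n) (y n) i (CohB1.thickι f I n)) (x : W) (hx : I ≤ (f (i x)).asIdeal) :
    (i.stalkMap x).hom.FormallyUnramified := by
  refine UnramFib.stalkMap_formallyUnramified_of_fiber i x ?_
  obtain ⟨y', hy'⟩ := mem_range_thickι I f (i x) hx
  have : IsClosedImmersion (CohB1.specQuot I 0) :=
    IsClosedImmersion.spec_of_surjective _ Ideal.Quotient.mk_surjective
  have hc : IsClosedImmersion (CohB1.thickι f I 0) :=
    inferInstanceAs (IsClosedImmersion (pullback.fst f (CohB1.specQuot I 0)))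
  let a := pullback.snd (CohB1.thickι f I 0) (X.fromSpecResidueField (i x))
  have : Surjective a := ⟨fun t => by
    have : t ∈ Set.range a := by
      rw [Scheme.Pullback.range_snd]
      refine ⟨y', ?_⟩
      have : X.fromSpecResidueField (i x) t ∈ Set.range (X.fromSpecResidueField (i x)) := ⟨t, rfl⟩
      rw [Scheme.range_fromSpecResidueField] at this
      exact hy'.trans this.symm
    exact this⟩
  have : IsIso a := isIso_of_isClosedImmersion_of_surjective a
  let g : Spec (X.residueField (i x)) ⟶ CohB1.thick f I 0 := inv a ≫ pullback.fst _ _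
  have hg : g ≫ CohB1.thickι f I 0 = X.fromSpecResidueField (i x) := by
    simp only [g, Category.assoc, pullback.condition]
    simp [a]
  have := hy 0
  have hp : IsPullback (pullback.fst (y 0) g ≫ w 0) (pullback.snd (y 0) g) i (X.fromSpecResidueField (i x)) :=
    hg ▸ (IsPullback.of_hasPullback (y 0) g).paste_horiz (hw 0)
  exact (MorphismProperty.cancel_left_of_respectsIso @FormallyUnramified hp.isoPullback.hom _).mp (by
    rw [show i.fiberToSpecResidueField (i x) = pullback.snd i _ from rfl, hp.isoPullback_hom_snd]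
    infer_instance)

theorem stalk_flat (hy : ∀ n, Etale (y n))
    (hw : ∀ n, IsPullback (w n) (y n) i (CohB1.thickι f I n)) (x : W) (hx : I ≤ (f (i x)).asIdeal) :
    (i.stalkMap x).hom.Flat := by
  have : IsLocallyNoetherian X := LocallyOfFiniteType.isLocallyNoetherian f
  have : IsLocallyNoetherian W := LocallyOfFiniteType.isLocallyNoetherian i
  obtain ⟨_, ⟨U, hU, rfl⟩, hxU, -⟩ :=
    X.isBasis_affineOpens.exists_subset_of_mem_open (Set.mem_univ (i x)) isOpen_univ
  have hV : IsAffineOpen (i ⁻¹ᵁ U) := hU.preimage i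
  rw [EtStruct.flat_stalkMap_iff i hU hV le_rfl hxU]
  let φ := i.appLE U (i ⁻¹ᵁ U) le_rfl
  let := φ.hom.toAlgebra
  have : IsNoetherianRing Γ(X, U) := IsLocallyNoetherian.component_noetherian ⟨U, hU⟩
  have : IsNoetherianRing Γ(W, i ⁻¹ᵁ U) := IsLocallyNoetherian.component_noetherian ⟨_, hV⟩
  let ψ := Spec.preimage (hU.fromSpec ≫ f)
  have hψ : Spec.map ψ = hU.fromSpec ≫ f := Spec.map_preimage _
  let J : Ideal Γ(X, U) := I.map ψ.hom
  refine flat_atPrime J _ ?_ fun n => ?_
  · rw [Ideal.map_le_iff_le_comap, Ideal.map_le_iff_le_comap]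
    intro a ha
    have h1 : (hU.primeIdealOf ⟨i x, hxU⟩).asIdeal =
        (hV.primeIdealOf ⟨x, hxU⟩).asIdeal.comap (algebraMap _ _) :=
      congr($(IsAffineOpen.comap_primeIdealOf_appLE U hU (i ⁻¹ᵁ U) hV le_rfl hxU).1).symm
    have h2 : Spec.map ψ (hU.primeIdealOf ⟨i x, hxU⟩) = f (i x) := by
      rw [hψ, Scheme.Hom.comp_apply, hU.fromSpec_primeIdealOf]
    rw [← h2] at hx
    have h3 : ψ.hom a ∈ (hU.primeIdealOf ⟨i x, hxU⟩).asIdeal := hx ha
    rw [h1] at h3
    exact h3
  · let R := Γ(X, U)
    let R' := R ⧸ J ^ (n + 1)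
    let m : CommRingCat.of R ⟶ CommRingCat.of R' := CommRingCat.ofHom (Ideal.Quotient.mk (J ^ (n + 1)))
    let q : CommRingCat.of (A ⧸ I ^ (n + 1)) ⟶ CommRingCat.of R' :=
      CommRingCat.ofHom (Ideal.quotientMap (J ^ (n + 1)) ψ.hom
        (by rw [← Ideal.map_le_iff_le_comap, Ideal.map_pow]))
    let g : Spec (CommRingCat.of R') ⟶ CohB1.thick f I n :=
      pullback.lift (Spec.map m ≫ hU.fromSpec) (Spec.map q) (by
        rw [Category.assoc, ← hψ, CohB1.specQuot, ← Spec.map_comp, ← Spec.map_comp]
        rfl)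
    have hg : g ≫ CohB1.thickι f I n = Spec.map m ≫ hU.fromSpec := pullback.lift_fst _ _ _
    have hsq : IsPullback hV.fromSpec (Spec.map φ) i hU.fromSpec := by
      have h1 := (isPullback_morphismRestrict i U).flip
      exact IsPullback.of_iso h1 hV.isoSpec (Iso.refl _) hU.isoSpec (Iso.refl _)
        (by simp [IsAffineOpen.isoSpec_hom, hV.toSpecΓ_fromSpec])
        (by rw [IsAffineOpen.isoSpec_hom, IsAffineOpen.isoSpec_hom, ← Scheme.Hom.resLE_eq_morphismRestrict,
          Scheme.Opens.toSpecΓ_SpecMap_appLE])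
        (by simp) (by simp [IsAffineOpen.isoSpec_hom])
    have hbig := (IsPullback.of_hasPullback (Spec.map φ) (Spec.map m)).paste_horiz hsq
    have := hy n
    have hflat : Flat (pullback.snd (y n) g) := inferInstance
    have hy2 := (IsPullback.of_hasPullback (y n) g).paste_horiz (hw n)
    rw [hg] at hy2
    have hflat2 : Flat (pullback.snd (Spec.map φ) (Spec.map m)) :=
      (MorphismProperty.cancel_left_of_respectsIso @Flat (hy2.isoIsPullback _ _ hbig).hom _).mp (by
        rw [IsPullback.isoIsPullback_hom_snd]; exact hflat)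
    have e := pullbackSpecIso R R' Γ(W, i ⁻¹ᵁ U)
    have hflat3 : Flat (Spec.map (CommRingCat.ofHom
        (Algebra.TensorProduct.includeLeftRingHom : R' →+* R' ⊗[R] Γ(W, i ⁻¹ᵁ U)))) := by
      rw [← pullbackSpecIso_inv_fst]
      have : Flat (pullback.fst (Spec.map m) (Spec.map φ)) := by
        rw [← pullbackSymmetry_hom_comp_snd]; infer_instance
      exact MorphismProperty.comp_mem @Flat _ _ inferInstance this
    rw [HasRingHomProperty.Spec_iff (P := @Flat)] at hflat3
    exact RingHom.flat_algebraMap_iff.mp hflat3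

theorem etale (hy : ∀ n, Etale (y n))
    (hw : ∀ n, IsPullback (w n) (y n) i (CohB1.thickι f I n)) : Etale i := by
  have : IsLocallyNoetherian X := LocallyOfFiniteType.isLocallyNoetherian f
  have : LocallyOfFinitePresentation i := inferInstance
  have : CompactSpace W := QuasiCompact.compactSpace_of_compactSpace (i ≫ f)
  have key : ∀ x : W, ∃ V : W.Opens, x ∈ V ∧ Etale (V.ι ≫ i) := by
    intro x
    obtain ⟨z, hzx, hz⟩ : ∃ z : W, x ⤳ z ∧ IsClosed ({z} : Set W) := by
      obtain ⟨z, hz1, hz2⟩ := IsClosed.exists_closed_singleton (S := closure ({x} : Set W))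
        isClosed_closure ⟨x, subset_closure rfl⟩
      exact ⟨z, specializes_iff_mem_closure.mpr hz1, hz2⟩
    have hcl : IsClosed ({f (i z)} : Set _) := by
      have := (i ≫ f).isClosedMap _ hz
      rwa [Set.image_singleton] at this
    have hmax : (f (i z)).asIdeal.IsMaximal :=
      (PrimeSpectrum.isClosed_singleton_iff_isMaximal _).mp hcl
    have hI : I ≤ (f (i z)).asIdeal := fun a ha =>
      (Ideal.mem_sInf.mp (IsAdicComplete.le_jacobson_bot I ha)) ⟨bot_le, hmax⟩
    obtain ⟨V, hzV, hV⟩ := (EtStruct.etale_nhd_iff i z).mpr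
      ⟨stalk_unramified I f i y w hy hw z hI, stalk_flat I f i y w hy hw z hI⟩
    exact ⟨V, hzx.mem_open V.2 hzV, hV⟩
  choose V hxV hV using key
  exact IsZariskiLocalAtSource.of_iSup_eq_top (P := @Etale) V
    (top_le_iff.mp fun x _ => TopologicalSpace.Opens.mem_iSup.mpr ⟨x, hxV x⟩) hV

end Groth.Agent.FEtCat.CompleteEtale
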