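import Groth.Agent.FEtCat.Normal
import Groth.Agent.Nagata.NormalizationFinite
import Groth.Agent.Nagata.CompleteLocal
import Groth.Agent.Nagata.FiniteType
import Groth.Agent.CAlgLib.N2Completion
import Mathlib.AlgebraicGeometry.ZariskisMainTheorem

/-!
# Connected covers of an open subscheme of the spectrum of a complete local domain

`exists_finite_domain`: a connected finite étale cover of a nonempty open subscheme `U` of `Spec A`,
`A` a normal complete Noetherian local domain, is the inverse image of `U` in the spectrum of a finite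
domain extension of `A`.
-/

set_option autoImplicit false
set_option backward.isDefEq.respectTransparency.types false

universe u

open CategoryTheory CategoryTheory.Limits AlgebraicGeometry

noncomputable section

namespace Groth.Agent.FEtCat.CompleteExtend

/-- The normalisation of the spectrum of a Nagata ring in an integral scheme of finite type over it
is finite. -/
theorem isFinite_fromNormalization {R : Type u} [CommRing R] [IsNoetherianRing R] (hR : CAlg.IsNagata R)
    {Z : Scheme.{u}} [IsIntegral Z] (g : Z ⟶ Spec (CommRingCat.of R))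
    [LocallyOfFiniteType g] [QuasiCompact g] [QuasiSeparated g] : IsFinite g.fromNormalization := by
  have hS : CAlg.IsNagata Γ(Spec (CommRingCat.of R), ⊤) :=
    Nagata.FiniteType.isNagata_of_surjective (Scheme.ΓSpecIso (CommRingCat.of R)).inv.hom
      (ConcreteCategory.bijective_of_isIso (Scheme.ΓSpecIso (CommRingCat.of R)).inv).2 hR
  have : IsAffine g.normalization := isAffine_of_isAffineHom g.fromNormalization
  rw [HasAffineProperty.iff_of_isAffine (P := @IsFinite)]
  refine ⟨inferInstance, ?_⟩
  obtain ⟨W, hW, hzW, -⟩ := exists_isAffineOpen_mem_and_subset (x := genericPoint Z) (U := ⊤) trivial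
  have : Nonempty W := ⟨⟨_, hzW⟩⟩
  let F := FractionRing Γ(Z, W)
  let a1 := (g.appLE ⊤ W le_top).hom.toAlgebra
  let a0 := (g.app ⊤).hom.toAlgebra
  have hft : Algebra.FiniteType Γ(Spec (CommRingCat.of R), ⊤) Γ(Z, W) :=
    g.finiteType_appLE (isAffineOpen_top _) hW le_top
  have : Algebra.EssFiniteType Γ(Spec (CommRingCat.of R), ⊤) F :=
    Algebra.EssFiniteType.comp _ Γ(Z, W) F
  have := Nagata.NormalizationFinite.finite_integralClosure_field (F := F) hS
  have : IsNoetherianRing Γ(Spec (CommRingCat.of R), ⊤) := hS.1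
  let e : Γ(Z, g ⁻¹ᵁ ⊤) →ₐ[Γ(Spec (CommRingCat.of R), ⊤)] F :=
    { ((algebraMap Γ(Z, W) F).comp (Z.presheaf.map (homOfLE (le_top : W ≤ g ⁻¹ᵁ ⊤)).op).hom) with
      commutes' := fun r => rfl }
  have he : Function.Injective e :=
    (IsFractionRing.injective Γ(Z, W) F).comp (map_injective_of_isIntegral Z _)
  let l : integralClosure Γ(Spec (CommRingCat.of R), ⊤) Γ(Z, g ⁻¹ᵁ ⊤) →ₗ[Γ(Spec (CommRingCat.of R), ⊤)]
      integralClosure Γ(Spec (CommRingCat.of R), ⊤) F :=
    { toFun := fun b => ⟨e b.1, b.2.map e⟩
      map_add' := fun b c => Subtype.ext (map_add e b.1 c.1)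
      map_smul' := fun r b => Subtype.ext (map_smul e r b.1) }
  have hfin : Module.Finite Γ(Spec (CommRingCat.of R), ⊤) (integralClosure Γ(Spec (CommRingCat.of R), ⊤) Γ(Z, g ⁻¹ᵁ ⊤)) :=
    Module.Finite.of_injective l fun b c h => Subtype.ext (he (congrArg Subtype.val h))
  show (g.fromNormalization.app ⊤).hom.Finite
  rw [Scheme.Hom.fromNormalization_app g (isAffineOpen_top _), CommRingCat.hom_comp, CommRingCat.hom_ofHom]
  exact RingHom.Finite.comp (RingHom.Finite.of_surjective _
    (g.normalizationObjIso (isAffineOpen_top _)).commRingCatIsoToRingEquiv.symm.surjective)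
    (RingHom.finite_algebraMap.mpr hfin)

/-- A connected finite étale cover of a nonempty open subscheme `U` of the spectrum of a normal complete
Noetherian local domain is the inverse image of `U` in the spectrum of a finite domain extension. -/
theorem exists_finite_domain (A : Type u) [CommRing A] [IsDomain A] [IsNoetherianRing A] [IsLocalRing A]
    [IsAdicComplete (IsLocalRing.maximalIdeal A) A]
    (U : (Spec (CommRingCat.of A)).Opens) [IsIntegral (U : Scheme.{u})]
    (hU : Pi1.IsNormalScheme (U : Scheme.{u})) (Z : FEt.Cat (U : Scheme.{u})) [ConnectedSpace Z.left] :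
    ∃ (B : Type u) (_ : CommRing B) (_ : IsDomain B) (_ : IsLocalRing B) (_ : IsNoetherianRing B)
      (_ : IsAdicComplete (IsLocalRing.maximalIdeal B) B) (φ : A →+* B) (j : Z.left ⟶ Spec (CommRingCat.of B)),
      φ.Finite ∧ Function.Injective φ ∧ IsOpenImmersion j ∧
      j ≫ Spec.map (CommRingCat.ofHom φ) = Z.hom ≫ U.ι ∧
      Set.range j = Spec.map (CommRingCat.ofHom φ) ⁻¹' (U : Set (Spec (CommRingCat.of A))) := by
  have : IsFinite Z.hom := Z.prop.1
  have : Etale Z.hom := Z.prop.2
  have : IsIntegral Z.left := Normal.isIntegral hU Z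
  have : IsNoetherian (Spec (CommRingCat.of A)) := inferInstance
  let g : Z.left ⟶ Spec (CommRingCat.of A) := Z.hom ≫ U.ι
  have : LocallyQuasiFinite g := inferInstance
  have hfin := isFinite_fromNormalization (Nagata.CompleteLocal.isNagata A) g
  have : IsAffine g.normalization := isAffine_of_isAffineHom g.fromNormalization
  let B := Γ(g.normalization, ⊤)
  let φ : A →+* B := (Spec.preimage (g.normalization.isoSpec.inv ≫ g.fromNormalization)).hom
  let j : Z.left ⟶ Spec (CommRingCat.of B) := g.toNormalization ≫ g.normalization.isoSpec.hom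
  have hφ : Spec.map (CommRingCat.ofHom φ) = g.normalization.isoSpec.inv ≫ g.fromNormalization :=
    Spec.map_preimage _
  have hj : j ≫ Spec.map (CommRingCat.ofHom φ) = g := by
    rw [hφ, Category.assoc, Iso.hom_inv_id_assoc, Scheme.Hom.toNormalization_fromNormalization]
  have hjfin : IsFinite (Spec.map (CommRingCat.ofHom φ)) := by rw [hφ]; infer_instance
  have hφfin : φ.Finite := (IsFinite.SpecMap_iff _).mp hjfin
  have : IsDominant j := inferInstance
  have hinj : Function.Injective φ := by
    have hd : IsDominant (Spec.map (CommRingCat.ofHom φ)) := by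
      have : IsDominant U.ι := ⟨by
        rw [DenseRange, Scheme.Opens.range_ι]
        exact U.2.dense ⟨_, (genericPoint (U : Scheme.{u})).2⟩⟩
      have : Surjective Z.hom := ⟨fun (y : (U : Scheme.{u})) => by
        have : PreconnectedSpace (U : Scheme.{u}) := inferInstance
        have hc : IsClopen (X := (U : Scheme.{u})) (Set.range Z.hom) :=
          ⟨Z.hom.isClosedMap.isClosed_range, Z.hom.isOpenMap.isOpen_range⟩
        exact (hc.eq_univ ⟨_, genericPoint Z.left, rfl⟩).ge (Set.mem_univ y)⟩
      have : IsDominant (j ≫ Spec.map (CommRingCat.ofHom φ)) := by rw [hj]; infer_instance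
      exact IsDominant.of_comp j _
    have hker : RingHom.ker φ = ⊥ := by
      have h1 := (PrimeSpectrum.denseRange_comap_iff_ker_le_nilRadical φ).mp hd.denseRange
      rwa [nilradical_eq_zero, Submodule.zero_eq_bot, le_bot_iff] at h1
    exact (RingHom.injective_iff_ker_eq_bot φ).mpr hker
  letI := φ.toAlgebra
  have : Module.Finite A B := hφfin
  have : FaithfulSMul A B := (faithfulSMul_iff_algebraMap_injective A B).mpr hinj
  obtain ⟨hloc, hcomp⟩ := CAlgLib.N2Completion.complete_of_finite (A := A) B
  refine ⟨B, inferInstance, inferInstance, hloc, IsNoetherianRing.of_finite A B, hcomp, φ, j, hφfin,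
    hinj, inferInstance, hj, ?_⟩
  have hsub : Set.range j ⊆ Spec.map (CommRingCat.ofHom φ) ⁻¹' (U : Set (Spec (CommRingCat.of A))) := by
    rintro _ ⟨z, rfl⟩
    show (Spec.map (CommRingCat.ofHom φ)) (j z) ∈ U
    rw [← Scheme.Hom.comp_apply, hj]
    exact (Z.hom z).2
  let V : (Spec (CommRingCat.of B)).Opens := Spec.map (CommRingCat.ofHom φ) ⁻¹ᵁ U
  have hsub' : Set.range j ⊆ Set.range V.ι := by rw [Scheme.Opens.range_ι]; exact hsub
  let j' := IsOpenImmersion.lift V.ι j hsub'
  have hj' : j' ≫ V.ι = j := IsOpenImmersion.lift_fac _ _ _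
  have hproper : IsProper (j' ≫ (Spec.map (CommRingCat.ofHom φ) ∣_ U)) := by
    have : j' ≫ (Spec.map (CommRingCat.ofHom φ) ∣_ U) = Z.hom := by
      rw [← cancel_mono U.ι, Category.assoc, morphismRestrict_ι, ← Category.assoc, hj', hj]
    rw [this]; infer_instance
  have : IsProper j' := IsProper.of_comp j' (Spec.map (CommRingCat.ofHom φ) ∣_ U)
  have hcl : IsClosed (Set.range j') := j'.isClosedMap.isClosed_range
  refine hsub.antisymm fun p hp => ?_
  have hd : Dense (Set.range j') := by
    have h1 : Dense (V.ι ⁻¹' Set.range j) := j.denseRange.preimage V.ι.isOpenEmbedding.isOpenMap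
    refine h1.mono ?_
    rintro q ⟨z, hz⟩
    refine ⟨z, V.ι.isOpenEmbedding.injective ?_⟩
    rw [← Scheme.Hom.comp_apply, hj', hz]
  have huniv : Set.range j' = Set.univ := by rw [← hcl.closure_eq, hd.closure_eq]
  obtain ⟨z, hz⟩ := huniv.ge (Set.mem_univ (⟨p, hp⟩ : V))
  exact ⟨z, by rw [← hj', Scheme.Hom.comp_apply, hz]; rfl⟩

end Groth.Agent.FEtCat.CompleteExtend
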