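import Groth.Agent.FEtCat.Basic
import Groth.Agent.S0283
import Groth.Prelude.Def_EtBase
import Groth.Agent.EtStruct.Instances
import Mathlib.AlgebraicGeometry.ZariskisMainTheorem

/-!
# Finite étale covers and topological invariance of the étale site
-/

set_option backward.isDefEq.respectTransparency.types false

noncomputable section

universe u

open CategoryTheory CategoryTheory.Limits AlgebraicGeometry

namespace Groth.Agent.FEtCat.TopInv

/-- An étale scheme which becomes finite after an integral surjective base change is finite. -/
theorem isFinite_of_isFinite_snd {X Y V : Scheme.{u}} (f : X ⟶ Y) [IsIntegralHom f] [Surjective f]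
    (g : V ⟶ Y) [Etale g] [IsFinite (pullback.snd g f)] : IsFinite g := by
  let p := pullback.fst g f
  have : UniversallyClosed (pullback.fst g f ≫ g) := by rw [pullback.condition]; infer_instance
  have : UniversallyClosed g := UniversallyClosed.of_comp_surjective (pullback.fst g f) g
  have h1 : IsSeparated (pullback.fst (p ≫ g) g) := by
    suffices ∀ m, m = pullback.snd g f ≫ f → IsSeparated (pullback.fst m g) from this _ pullback.condition
    rintro _ rfl
    have : IsSeparated (pullback.fst f g) := by
      rw [← pullbackSymmetry_hom_comp_snd]; infer_instance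
    rw [← pullbackRightPullbackFstIso_inv_fst f g (pullback.snd g f)]
    infer_instance
  let γ : pullback g f ⟶ pullback (p ≫ g) g := pullback.lift (𝟙 _) p (Category.id_comp _)
  have : IsClosedImmersion (γ ≫ pullback.fst (p ≫ g) g) := by
    rw [pullback.lift_fst]; infer_instance
  have : IsClosedImmersion γ := IsClosedImmersion.of_comp γ (pullback.fst (p ≫ g) g)
  let q : pullback (p ≫ g) g ⟶ pullback g g :=
    (pullbackRightPullbackFstIso g g p).inv ≫ pullback.snd p (pullback.fst g g)
  have hq : γ ≫ q = p ≫ pullback.diagonal g := by
    apply pullback.hom_ext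
    · simp only [q, γ, Category.assoc]
      rw [← pullback.condition, pullbackRightPullbackFstIso_inv_fst_assoc, pullback.lift_fst_assoc,
        pullback.diagonal_fst]
      simp
    · simp only [q, γ, Category.assoc]
      rw [pullbackRightPullbackFstIso_inv_snd_snd, pullback.lift_snd, pullback.diagonal_snd, Category.comp_id]
  have hr : Set.range (pullback.diagonal g) = q '' Set.range γ := by
    rw [← Set.range_comp]
    ext z
    constructor
    · rintro ⟨v, rfl⟩
      obtain ⟨w, rfl⟩ := p.surjective v
      exact ⟨w, by rw [Function.comp_apply, ← Scheme.Hom.comp_apply, hq, Scheme.Hom.comp_apply]⟩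
    · rintro ⟨w, rfl⟩
      exact ⟨p w, by rw [Function.comp_apply, ← Scheme.Hom.comp_apply γ q, hq, Scheme.Hom.comp_apply]⟩
  have : IsClosedImmersion (pullback.diagonal g) := by
    refine IsClosedImmersion.of_isPreimmersion _ ?_
    rw [hr]
    exact q.isClosedMap _ γ.isClosedMap.isClosed_range
  have : IsSeparated g := ⟨inferInstance⟩
  have : IsProper g := { }
  have := EtStruct.locallyQuasiFinite_of_formallyUnramified g
  exact IsFinite.of_isProper_of_locallyQuasiFinite g

/-- Lifting finite étale covers as étale schemes gives an equivalence of finite étale covers. -/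
theorem isEquivalence_restrict_of_mem {X Y : Scheme.{u}} (f : X ⟶ Y) [IsIntegralHom f] [UniversallyInjective f]
    [Surjective f] (h : ∀ U : FEt.Cat X, (EtCoh.bc f).essImage (Scheme.Etale.mk U.hom)) :
    (FEt.restrict f).IsEquivalence where
  full := (Groth.Agent.S0283.result f).1
  faithful := (Groth.Agent.S0283.result f).2
  essSurj := ⟨fun U => by
    obtain ⟨V, ⟨e⟩⟩ := h U
    let φ : pullback V.hom f ⟶ U.left := e.hom.left
    have : IsIso φ := inferInstanceAs (IsIso ((Scheme.Etale.forget X ⋙ Over.forget X).map e.hom))
    have hφ : φ ≫ U.hom = pullback.snd V.hom f := MorphismProperty.Over.w e.hom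
    have : IsFinite (pullback.snd V.hom f) := by rw [← hφ]; infer_instance
    have : Etale V.hom := V.prop
    have := isFinite_of_isFinite_snd f V.hom
    let ψ : (FEt.restrict f).obj (Basic.mk V.hom) ⟶ U := Basic.homMk φ hφ
    have : IsIso ψ.left := ‹IsIso φ›
    have := Basic.isIso_of_left ψ
    exact ⟨Basic.mk V.hom, ⟨asIso ψ⟩⟩⟩

/-- An equivalence of étale sites gives an equivalence of finite étale covers. -/
theorem isEquivalence_restrict {X Y : Scheme.{u}} (f : X ⟶ Y) [IsIntegralHom f] [UniversallyInjective f]
    [Surjective f] (h : (EtCoh.bc f).IsEquivalence) : (FEt.restrict f).IsEquivalence :=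
  isEquivalence_restrict_of_mem f fun U => h.essSurj.mem_essImage (Scheme.Etale.mk U.hom)

end Groth.Agent.FEtCat.TopInv
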