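import Groth.Agent.FEtCat.ProperHenselian
import Groth.Agent.FEtCat.CompleteEtale
import Groth.Agent.S0238
import Groth.Agent.S0041

/-!
# Finite étale covers lift from the special fibre of a proper scheme over a complete ring
-/

set_option backward.isDefEq.respectTransparency.types false
set_option autoImplicit false

universe u

open CategoryTheory CategoryTheory.Limits AlgebraicGeometry

noncomputable section

namespace Groth.Agent.FEtCat.CompleteProper

variable {A : Type u} [CommRing A] [IsNoetherianRing A] (I : Ideal A) [IsAdicComplete I A]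
  {X : Scheme.{u}} (f : X ⟶ Spec (CommRingCat.of A)) [IsProper f]

instance specQuotTrans_closed (n : ℕ) : IsClosedImmersion (CohB1.specQuotTrans I n) :=
  IsClosedImmersion.spec_of_surjective _ (Ideal.Quotient.factor_surjective (Ideal.pow_le_pow_right (Nat.le_succ (n + 1))))

theorem thickTrans_thickι (n : ℕ) :
    CohB1.thickTrans f I n ≫ CohB1.thickι f I (n + 1) = CohB1.thickι f I n := by
  exact (pullback.lift_fst _ _ _).trans (Category.comp_id _)

theorem surjective_specQuotTrans (n : ℕ) : Surjective (CohB1.specQuotTrans I n) := by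
  refine ⟨fun z => ?_⟩
  have h : z ∈ Set.range (PrimeSpectrum.comap
      (Ideal.Quotient.factor (Ideal.pow_le_pow_right (Nat.le_succ (n + 1)) : I ^ (n + 2) ≤ I ^ (n + 1)))) := by
    rw [range_comap_of_surjective _ _ (Ideal.Quotient.factor_surjective _)]
    intro a ha
    obtain ⟨a, rfl⟩ := Ideal.Quotient.mk_surjective a
    have ha' : a ∈ I ^ (n + 1) := by
      rwa [SetLike.mem_coe, RingHom.mem_ker, Ideal.Quotient.factor_mk, Ideal.Quotient.eq_zero_iff_mem] at ha
    have h2 : Ideal.Quotient.mk (I ^ (n + 2)) a ^ (n + 2) ∈ z.asIdeal := by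
      rw [← map_pow, Ideal.Quotient.eq_zero_iff_mem.mpr (Ideal.pow_mem_pow (Ideal.pow_le_self n.succ_ne_zero ha') _)]
      exact zero_mem _
    exact z.2.mem_of_pow_mem _ h2
  exact h

theorem isPullback_thickTrans (n : ℕ) :
    IsPullback (CohB1.thickTrans f I n) (CohB1.thickToBase f I n) (CohB1.thickToBase f I (n + 1))
      (CohB1.specQuotTrans I n) := by
  refine IsPullback.of_right (h₁₂ := CohB1.thickι f I (n + 1)) (v₁₃ := f) (h₂₂ := CohB1.specQuot I (n + 1)) ?_
    (pullback.lift_snd _ _ _) (IsPullback.of_hasPullback _ _)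
  rw [thickTrans_thickι, CohB1.specQuotTrans_specQuot]
  exact IsPullback.of_hasPullback _ _

theorem isEquivalence_thickTrans (n : ℕ) : (FEt.restrict (CohB1.thickTrans f I n)).IsEquivalence := by
  have := surjective_specQuotTrans I n
  have : IsClosedImmersion (CohB1.thickTrans f I n) :=
    MorphismProperty.of_isPullback (isPullback_thickTrans I f n).flip inferInstance
  have : Surjective (CohB1.thickTrans f I n) :=
    MorphismProperty.of_isPullback (isPullback_thickTrans I f n).flip inferInstance
  exact Groth.Agent.S0238.result _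

/-- The tower of lifts. -/
def tower (Z₀ : FEt.Cat (CohB1.thick f I 0)) : (n : ℕ) → FEt.Cat (CohB1.thick f I n)
  | 0 => Z₀
  | n + 1 =>
    have := isEquivalence_thickTrans I f n
    (FEt.restrict (CohB1.thickTrans f I n)).objPreimage (tower Z₀ n)

theorem exists_extension_thick (Z₀ : FEt.Cat (CohB1.thick f I 0)) :
    ∃ Y : FEt.Cat X, Nonempty ((FEt.restrict (CohB1.thickι f I 0)).obj Y ≅ Z₀) := by
  let Z := tower I f Z₀
  have hZ : ∀ n, Nonempty ((FEt.restrict (CohB1.thickTrans f I n)).obj (Z (n + 1)) ≅ Z n) := fun n =>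
    have := isEquivalence_thickTrans I f n
    ⟨(FEt.restrict (CohB1.thickTrans f I n)).objObjPreimageIso (Z n)⟩
  let e := fun n => (hZ n).some
  let t : (n : ℕ) → ((Z n).left ⟶ (Z (n + 1)).left) := fun n =>
    (e n).inv.left ≫ pullback.fst (Z (n + 1)).hom (CohB1.thickTrans f I n)
  have ht : ∀ n, IsPullback (t n) (Z n).hom (Z (n + 1)).hom (CohB1.thickTrans f I n) := fun n =>
    IsPullback.of_iso (IsPullback.of_hasPullback (Z (n + 1)).hom (CohB1.thickTrans f I n))
      ((MorphismProperty.Over.forget _ _ _ ⋙ Over.forget _).mapIso (e n)) (Iso.refl _) (Iso.refl _) (Iso.refl _)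
      (by
        have h1 : (e n).hom.left ≫ (e n).inv.left = 𝟙 _ := congrArg (fun q => q.left) (e n).hom_inv_id
        simp [t]
        exact ((Category.id_comp _).symm.trans (congrArg (· ≫ _) h1.symm)).trans (Category.assoc _ _ _))
      (by simp; exact (MorphismProperty.Over.w (e n).hom).symm) (by simp) (by simp)
  have hy : ∀ n, IsFinite (Z n).hom := fun n => (Z n).prop.1
  have : IsFinite (Z 0).hom := hy 0
  have hp : IsProper ((Z 0).hom ≫ CohB1.thickToBase f I 0) := by
    have : IsProper (CohB1.thickToBase f I 0) :=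
      MorphismProperty.pullback_snd f (CohB1.specQuot I 0) inferInstance
    infer_instance
  obtain ⟨W, i, w, hi, -, -, hw⟩ :=
    Groth.Agent.S0041.result A I f (fun n => (Z n).left) (fun n => (Z n).hom) t hy ht hp
  have het : Etale i := CompleteEtale.etale I f i (fun n => (Z n).hom) w (fun n => (Z n).prop.2) hw
  let Y : FEt.Cat X := MorphismProperty.Over.mk ⊤ i ⟨hi, het⟩
  exact ⟨Y, ⟨MorphismProperty.Over.isoMk (hw 0).isoPullback.symm ((hw 0).isoPullback_inv_snd)⟩⟩

/-- Every finite étale cover of the special fibre extends. -/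
theorem exists_extension
    (Z₀ : FEt.Cat (pullback f (Spec.map (CommRingCat.ofHom (Ideal.Quotient.mk I))))) :
    ∃ Y : FEt.Cat X, Nonempty ((FEt.restrict (ProperHenselian.incl I f)).obj Y ≅ Z₀) := by
  let e : A ⧸ I ^ (0 + 1) ≃+* A ⧸ I := Ideal.quotEquivOfEq (by rw [zero_add, pow_one])
  let s : Spec (CommRingCat.of (A ⧸ I)) ⟶ Spec (CommRingCat.of (A ⧸ I ^ (0 + 1))) :=
    Spec.map (CommRingCat.ofHom e.toRingHom)
  have : IsIso s := inferInstanceAs (IsIso (Spec.map e.toCommRingCatIso.hom))
  have hs : s ≫ CohB1.specQuot I 0 = Spec.map (CommRingCat.ofHom (Ideal.Quotient.mk I)) := by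
    rw [CohB1.specQuot, ← Spec.map_comp]
    rfl
  let g : pullback f (Spec.map (CommRingCat.ofHom (Ideal.Quotient.mk I))) ⟶ CohB1.thick f I 0 :=
    pullback.map f _ f (CohB1.specQuot I 0) (𝟙 X) s (𝟙 _) (by simp) (by simp [hs])
  have : IsIso g := pullback.map_isIso ..
  have hg : g ≫ CohB1.thickι f I 0 = ProperHenselian.incl I f := (pullback.lift_fst _ _ _).trans (Category.comp_id _)
  have : Surjective g := inferInstance
  have := Groth.Agent.S0238.result g
  obtain ⟨Y, ⟨iso⟩⟩ := exists_extension_thick I f ((FEt.restrict g).objPreimage Z₀)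
  exact ⟨Y, ⟨(MorphismProperty.Over.pullbackCongr hg.symm).app Y ≪≫
    (MorphismProperty.Over.pullbackComp g (CohB1.thickι f I 0) _ rfl).app Y ≪≫
    (FEt.restrict g).mapIso iso ≪≫ (FEt.restrict g).objObjPreimageIso Z₀⟩⟩

end Groth.Agent.FEtCat.CompleteProper
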