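import Groth.Agent.FEtCat.Full
import Groth.Agent.EtNormal.Basic
import Groth.Agent.Hensel.EtLikeLocal
import Groth.Agent.S5153
import Mathlib.AlgebraicGeometry.Noetherian

/-!
# Restriction of finite étale covers to an open with complement of depth `≥ 2`
-/

set_option backward.isDefEq.respectTransparency.types false

noncomputable section

universe u

open CategoryTheory CategoryTheory.Limits AlgebraicGeometry Topology

namespace Groth.Agent.FEtCat.DepthTwo

theorem depth_stalk {Y X : Scheme.{u}} (f : Y ⟶ X) [Etale f] [IsLocallyNoetherian X] (y : Y) :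
    LocCoh.depth (Y.presheaf.stalk y) (Y.presheaf.stalk y) =
      LocCoh.depth (X.presheaf.stalk (f y)) (X.presheaf.stalk (f y)) :=
  let _ := (f.stalkMap y).hom.toAlgebra
  (EtNormal.isEtLike_stalk f y).depth_eq

theorem full_faithful {X : Scheme.{u}} [IsLocallyNoetherian X] (U : X.Opens)
    (hU : ∀ x : X, x ∉ U → (2 : ℕ∞) ≤ LocCoh.depth (X.presheaf.stalk x) (X.presheaf.stalk x)) :
    (FEt.restrict U.ι).Full ∧ (FEt.restrict U.ι).Faithful := by
  classical
  have hN : ∀ Y : FEt.Cat X, IsLocallyNoetherian Y.left := fun Y => LocallyOfFiniteType.isLocallyNoetherian (Y := X) Y.hom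
  let V : ∀ Y : FEt.Cat X, Y.left.Opens := fun Y => Y.hom ⁻¹ᵁ U
  have hdepth : ∀ (Y : FEt.Cat X) (y : Y.left), y ∉ (V Y : Set Y.left) →
      (2 : ℕ∞) ≤ LocCoh.depth (Y.left.presheaf.stalk y) (Y.left.presheaf.stalk y) := fun Y y hy => by
    have := hN Y
    exact (hU (Y.hom y) hy).trans (depth_stalk (X := X) Y.hom y).ge
  have hbij : ∀ Y : FEt.Cat X, Function.Bijective
      (Continuous.connectedComponentsMap (continuous_subtype_val : Continuous (fun y : V Y => (y : Y.left)))) :=
    fun Y => have := hN Y; Groth.Agent.S5153.result Y.left (V Y) (hdepth Y)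
  have hr : ∀ Y : FEt.Cat X, Set.range (pullback.fst Y.hom U.ι) = (V Y : Set Y.left) := fun Y => by
    rw [Scheme.Pullback.range_fst, Scheme.Opens.range_ι]; rfl
  refine Full.full_faithful U.ι (fun Y W hW he => ?_) fun Y W' hW' => ?_
  · refine Set.eq_empty_of_forall_notMem fun w hw => ?_
    obtain ⟨c, hc⟩ := (hbij Y).2 (ConnectedComponents.mk w)
    obtain ⟨v, rfl⟩ := ConnectedComponents.surjective_coe c
    have hv : (v : Y.left) ∈ W := hW.connectedComponent_subset hw (ConnectedComponents.coe_eq_coe'.1 hc)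
    obtain ⟨z, hz⟩ := (hr Y).ge v.2
    exact Set.notMem_empty z (he ▸ (show pullback.fst Y.hom U.ι z ∈ W from hz ▸ hv))
  · have := hN Y
    have : LocallyConnectedSpace Y.left :=
      SchPoints.locallyConnectedSpace (Groth.Agent.S5153.noetherian_nhd Y.left)
    have hmem : ∀ z, pullback.fst Y.hom U.ι z ∈ V Y := fun z => (hr Y).le ⟨z, rfl⟩
    let g : ↥(pullback Y.hom U.ι : Scheme.{u}) → ↥(V Y : Set Y.left) := fun z => ⟨pullback.fst Y.hom U.ι z, hmem z⟩
    have hemb := (pullback.fst Y.hom U.ι).isOpenEmbedding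
    have hgo : IsOpenEmbedding g := IsOpenEmbedding.of_comp _ (V Y).2.isOpenEmbedding_subtypeVal hemb
    have hgs : Function.Surjective g := fun v => by
      obtain ⟨z, hz⟩ := (hr Y).ge v.2
      exact ⟨z, Subtype.ext hz⟩
    have hW₁ : IsClopen (g '' W') := by
      refine ⟨?_, hgo.isOpenMap _ hW'.2⟩
      rw [← isOpen_compl_iff, ← Set.image_compl_eq ⟨hgo.injective, hgs⟩]
      exact hgo.isOpenMap _ hW'.1.isOpen_compl
    let T : Set Y.left := {y | ∃ v ∈ g '' W', ConnectedComponents.mk (v : Y.left) = ConnectedComponents.mk y}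
    have hTc : ∀ y, y ∈ T → connectedComponent y ⊆ T := fun y ⟨v, hv, e⟩ y' hy' =>
      ⟨v, hv, e.trans (ConnectedComponents.coe_eq_coe.2 (connectedComponent_eq hy'))⟩
    have hop : ∀ S : Set Y.left, (∀ y ∈ S, connectedComponent y ⊆ S) → IsOpen S := fun S hS =>
      isOpen_iff_forall_mem_open.2 fun y hy => ⟨_, hS y hy, isOpen_connectedComponent, mem_connectedComponent⟩
    refine ⟨T, ⟨⟨hop _ fun y hy y' hy' hyT => hy (hTc y' hyT ((connectedComponent_eq hy') ▸ mem_connectedComponent))⟩,
      hop T hTc⟩, ?_⟩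
    ext z
    constructor
    · rintro ⟨v, hv, e⟩
      have h1 : ConnectedComponents.mk v = ConnectedComponents.mk (g z) := (hbij Y).1 e
      obtain ⟨z', hz', e'⟩ := hW₁.connectedComponent_subset hv (ConnectedComponents.coe_eq_coe'.1 h1.symm)
      exact hgo.injective e' ▸ hz'
    · intro hz
      exact ⟨g z, ⟨z, hz, rfl⟩, rfl⟩

end Groth.Agent.FEtCat.DepthTwo
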