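import Groth.Agent.FEtCat.Glue
import Groth.Agent.FEtCat.Basic
import Groth.Agent.S12073
import Groth.Agent.LimLib.Model
import Groth.Agent.LimLib.StalkSystem

/-!
# Extending a finite étale cover over one more point
-/

set_option autoImplicit false
set_option backward.isDefEq.respectTransparency false
set_option backward.isDefEq.respectTransparency.types false
set_option backward.defeqAttrib.useBackward true
set_option linter.style.haveILetI false
set_option maxHeartbeats 1600000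

noncomputable section

universe u

open CategoryTheory CategoryTheory.Limits AlgebraicGeometry TopologicalSpace Opposite

namespace Groth.Agent.FEtCat.Extend

/-- A cover of `W` whose pullback to the punctured local scheme at `x ∉ W` extends over the local
scheme extends to a neighbourhood of `x`. -/
theorem exists_extend {X : Scheme.{u}} [IsNoetherian X] (W : X.Opens) (V : FEt.Cat (W : Scheme.{u})) (x : X)
    (P : (Spec (X.presheaf.stalk x)).Opens) (hP : X.fromSpecStalk x ⁻¹ᵁ W = P)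
    (q : (P : Scheme.{u}) ⟶ W) (hq : q ≫ W.ι = P.ι ≫ X.fromSpecStalk x)
    (E : FEt.Cat (Spec (X.presheaf.stalk x))) (eE : (FEt.restrict P.ι).obj E ≅ (FEt.restrict q).obj V) :
    ∃ (W' : X.Opens) (h : W ≤ W'), x ∈ W' ∧
      ∃ Y : FEt.Cat (W' : Scheme.{u}), Nonempty ((FEt.restrict (X.homOfLE h)).obj Y ≅ V) := by
  obtain ⟨σ⟩ := LimLib.nonempty_stalkSystem X x
  obtain ⟨hc⟩ := σ.isLimit
  let c : Cone σ.D := Cone.mk _ σ.π
  haveI : ∀ (i j : σ.Jᵒᵖ) (t : i ⟶ j), IsAffineHom (σ.D.map t) := fun i j t => inferInstance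
  obtain ⟨i, Ei, ⟨eEi⟩⟩ := (Groth.Agent.S12073.result σ.D c hc).1 E
  let S := Spec (X.presheaf.stalk x)
  let j₀ : σ.D.obj i ⟶ X := σ.ι.app i
  -- the open of the stage over `W`
  let O : (σ.D.obj i).Opens := j₀ ⁻¹ᵁ W
  let g₀ : (O : Scheme.{u}) ⟶ σ.D.obj i := O.ι
  haveI : IsNoetherian (σ.D.obj i) :=
    have := LocallyOfFiniteType.isLocallyNoetherian (X := σ.D.obj i) j₀
    { }
  haveI : CompactSpace O := isCompact_iff_compactSpace.mp (NoetherianSpace.isCompact _)
  haveI : QuasiSeparatedSpace O := quasiSeparatedSpace_of_quasiSeparated g₀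
  let m : (O : Scheme.{u}) ⟶ W := IsOpenImmersion.lift W.ι (g₀ ≫ j₀) (by
    rw [Scheme.Opens.range_ι]
    rintro _ ⟨y, rfl⟩
    rw [Scheme.Hom.comp_apply]
    exact y.2)
  have hm : m ≫ W.ι = g₀ ≫ j₀ := IsOpenImmersion.lift_fac _ _ _
  haveI : IsOpenImmersion m :=
    have : IsOpenImmersion (m ≫ W.ι) := hm ▸ inferInstance
    IsOpenImmersion.of_comp m W.ι
  have hπ : σ.π.app i ⁻¹ᵁ O = P := by
    rw [← hP, ← σ.fac i]
    rfl
  let qY : (P : Scheme.{u}) ⟶ O := IsOpenImmersion.lift g₀ (P.ι ≫ σ.π.app i) (by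
    rw [Scheme.Opens.range_ι]
    rintro _ ⟨y, rfl⟩
    rw [Scheme.Hom.comp_apply]
    exact hπ.ge y.2)
  have hqY : qY ≫ g₀ = P.ι ≫ σ.π.app i := IsOpenImmersion.lift_fac _ _ _
  have sq : IsPullback qY P.ι g₀ (c.π.app i) :=
    IsOpenImmersion.isPullback qY P.ι g₀ (σ.π.app i) hqY.symm (by simp [g₀, hπ])
  have hqm : qY ≫ m = q := by
    rw [← cancel_mono W.ι, Category.assoc, hm, reassoc_of% hqY, σ.fac, hq]
  -- the two models over the stage
  let XS : Scheme.{u} := pullback E.hom P.ι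
  let fXS : XS ⟶ S := pullback.snd E.hom P.ι ≫ P.ι
  let qE : E.left ⟶ Ei.left := eEi.inv.left ≫ pullback.fst Ei.hom (σ.π.app i)
  haveI : IsIso eEi.inv.left := FEtCat.Basic.isIso_left eEi.inv
  have hE : IsPullback qE E.hom Ei.hom (σ.π.app i) :=
    IsPullback.of_iso_pullback ⟨by
      simp only [qE, Category.assoc, pullback.condition]
      rw [← Category.assoc]
      exact congrArg (· ≫ σ.π.app i) (MorphismProperty.Over.w eEi.inv)⟩ (asIso eEi.inv.left)
      (by simp [qE, c]) (MorphismProperty.Over.w eEi.inv)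
  have hXE : IsPullback (pullback.fst E.hom P.ι ≫ qE) (pullback.snd E.hom P.ι) Ei.hom (qY ≫ g₀) := by
    rw [hqY]
    exact (IsPullback.of_hasPullback E.hom P.ι).paste_horiz hE
  let f₁ : pullback Ei.hom g₀ ⟶ σ.D.obj i := pullback.snd Ei.hom g₀ ≫ g₀
  let f₂ : pullback V.hom m ⟶ σ.D.obj i := pullback.snd V.hom m ≫ g₀
  have h₁ := (IsPullback.of_right' hXE (IsPullback.of_hasPullback Ei.hom g₀)).paste_vert sq
  let qV : XS ⟶ V.left := eE.hom.left ≫ pullback.fst V.hom q
  haveI : IsIso eE.hom.left := FEtCat.Basic.isIso_left eE.hom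
  have hV : IsPullback qV (pullback.snd E.hom P.ι) V.hom q :=
    IsPullback.of_iso_pullback ⟨by
      simp only [qV, Category.assoc, pullback.condition]
      rw [← Category.assoc]
      exact congrArg (· ≫ q) (MorphismProperty.Over.w eE.hom)⟩ (asIso eE.hom.left)
      (by simp [qV]) (MorphismProperty.Over.w eE.hom)
  have hV' : IsPullback qV (pullback.snd E.hom P.ι) V.hom (qY ≫ m) := hqm.symm ▸ hV
  have h₂ := (IsPullback.of_right' hV' (IsPullback.of_hasPullback V.hom m)).paste_vert sq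
  haveI : Etale Ei.hom := Ei.prop.2
  haveI : Etale V.hom := V.prop.2
  haveI : IsFinite Ei.hom := Ei.prop.1
  haveI : IsFinite V.hom := V.prop.1
  haveI : CompactSpace ↑(pullback Ei.hom g₀) := QuasiCompact.compactSpace_of_compactSpace (pullback.snd Ei.hom g₀)
  haveI : QuasiSeparatedSpace ↑(pullback Ei.hom g₀) := quasiSeparatedSpace_of_quasiSeparated (pullback.snd Ei.hom g₀)
  haveI : CompactSpace ↑(pullback V.hom m) := QuasiCompact.compactSpace_of_compactSpace (pullback.snd V.hom m)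
  haveI : QuasiSeparatedSpace ↑(pullback V.hom m) := quasiSeparatedSpace_of_quasiSeparated (pullback.snd V.hom m)
  haveI : LocallyOfFinitePresentation f₁ := inferInstance
  haveI : LocallyOfFinitePresentation f₂ := inferInstance
  obtain ⟨k, φ, e, he, -⟩ := LimLib.exists_iso_stage hc f₁ f₂ h₁ h₂
  -- glue
  let jk : σ.D.obj k ⟶ X := σ.ι.app k
  have hjk : σ.D.map φ ≫ j₀ = jk := by
    have := σ.ι.naturality φ
    simp [j₀, jk]
  haveI : IsOpenImmersion (σ.D.map φ) :=
    have : IsOpenImmersion (σ.D.map φ ≫ j₀) := hjk ▸ inferInstance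
    IsOpenImmersion.of_comp _ j₀
  let W' : X.Opens := W ⊔ jk.opensRange
  let a : (W : Scheme.{u}) ⟶ W' := X.homOfLE le_sup_left
  let b : σ.D.obj k ⟶ W' := IsOpenImmersion.lift W'.ι jk (by
    rw [Scheme.Opens.range_ι]
    exact fun y hy => Opens.mem_sup.mpr (.inr hy))
  have ha : a ≫ W'.ι = W.ι := X.homOfLE_ι _
  have hb : b ≫ W'.ι = jk := IsOpenImmersion.lift_fac _ _ _
  haveI : IsOpenImmersion b :=
    have : IsOpenImmersion (b ≫ W'.ι) := hb ▸ inferInstance
    IsOpenImmersion.of_comp b W'.ι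
  have hab : a.opensRange ⊔ b.opensRange = ⊤ := by
    refine top_le_iff.mp fun y _ => ?_
    rcases Opens.mem_sup.mp y.2 with hy | hy
    · exact Opens.mem_sup.mpr (.inl ⟨⟨_, hy⟩, W'.ι.isOpenEmbedding.injective (by
        rw [← Scheme.Hom.comp_apply, ha]; rfl)⟩)
    · obtain ⟨d, hd⟩ := hy
      exact Opens.mem_sup.mpr (.inr ⟨d, W'.ι.isOpenEmbedding.injective (by
        rw [← Scheme.Hom.comp_apply, hb, hd]; rfl)⟩)
  let Q : FEt.Cat (σ.D.obj k) := (FEt.restrict (σ.D.map φ)).obj Ei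
  let R := pullback f₁ (σ.D.map φ)
  let g : R ⟶ Q.left := pullback.lift (pullback.fst f₁ _ ≫ pullback.fst Ei.hom g₀) (pullback.snd f₁ _) (by
    rw [Category.assoc, pullback.condition, ← pullback.condition (f := f₁)])
  let f : R ⟶ V.left := e.inv ≫ pullback.fst f₂ _ ≫ pullback.fst V.hom m
  have hgsq : IsPullback (pullback.fst f₁ (σ.D.map φ)) g (pullback.fst Ei.hom g₀) (pullback.fst Ei.hom (σ.D.map φ)) := by
    refine IsPullback.of_bot (v₂₁ := pullback.snd Ei.hom (σ.D.map φ)) (v₂₂ := Ei.hom) (h₃₁ := σ.D.map φ) ?_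
      (by simp [g]) (IsPullback.of_hasPullback _ _)
    simpa [g, f₁, pullback.condition] using IsPullback.of_hasPullback f₁ (σ.D.map φ)
  haveI : IsOpenImmersion g := MorphismProperty.of_isPullback (P := @IsOpenImmersion) hgsq inferInstance
  haveI : IsOpenImmersion f := inferInstance
  have hrW : ∀ d : σ.D.obj k, jk d ∈ W ↔ σ.D.map φ d ∈ O := fun d => by
    rw [← hjk, Scheme.Hom.comp_apply]
    rfl
  refine (FEtCat.Glue.exists_glue a b hab V Q f g ?_ ?_ ?_).elim
    fun Y hY => ⟨W', le_sup_left, Opens.mem_sup.mpr (.inr (σ.mem k)), Y, hY.1⟩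
  · rw [← cancel_mono W'.ι]
    simp only [Category.assoc, ha, hb]
    have e1 : e.inv ≫ pullback.snd f₂ (σ.D.map φ) = pullback.snd f₁ (σ.D.map φ) := by
      rw [← he, Iso.inv_hom_id_assoc]
    calc f ≫ V.hom ≫ W.ι = e.inv ≫ pullback.fst f₂ _ ≫ f₂ ≫ j₀ := by
          simp only [f, f₂, Category.assoc, ← hm, pullback.condition_assoc]
      _ = (e.inv ≫ pullback.snd f₂ _) ≫ σ.D.map φ ≫ j₀ := by
          rw [pullback.condition_assoc, Category.assoc]
      _ = g ≫ Q.hom ≫ jk := by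
          rw [e1, hjk]
          change _ = g ≫ pullback.snd Ei.hom (σ.D.map φ) ≫ jk
          simp [g]
  · intro v hv
    obtain ⟨d, hd⟩ := hv
    have hd' : jk d = W.ι (V.hom v) := by
      rw [← hb, Scheme.Hom.comp_apply, hd, ← Scheme.Hom.comp_apply, ha]
    have hdO : σ.D.map φ d ∈ O := (hrW d).mp (hd' ▸ (V.hom v).2)
    obtain ⟨y, hy⟩ : ∃ y, g₀ y = σ.D.map φ d := ⟨⟨_, hdO⟩, rfl⟩
    have hmy : m y = V.hom v := W.ι.isOpenEmbedding.injective (by
      rw [← Scheme.Hom.comp_apply, hm, Scheme.Hom.comp_apply, hy, ← Scheme.Hom.comp_apply, hjk, hd'])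
    obtain ⟨z, hz₁, hz₂⟩ := Scheme.Pullback.exists_preimage_pullback (f := V.hom) (g := m) v y hmy.symm
    obtain ⟨w, hw₁, -⟩ := Scheme.Pullback.exists_preimage_pullback (f := f₂) (g := σ.D.map φ) z d (by
      simp only [f₂, Scheme.Hom.comp_apply, hz₂, hy])
    refine ⟨e.hom w, ?_⟩
    refine (Scheme.Hom.comp_apply e.hom f w).symm.trans ?_
    simp only [f, Iso.hom_inv_id_assoc, Scheme.Hom.comp_apply, hw₁]
    exact hz₁
  · intro q' hq'
    obtain ⟨w', hw'⟩ := hq'
    have hd' : jk (Q.hom q') = W.ι w' := by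
      rw [← hb, Scheme.Hom.comp_apply, ← hw', ← Scheme.Hom.comp_apply, ha]
    obtain ⟨y, hy⟩ : ∃ y, g₀ y = Ei.hom (pullback.fst Ei.hom (σ.D.map φ) q') := by
      refine ⟨⟨_, ?_⟩, rfl⟩
      have e2 : Ei.hom (pullback.fst Ei.hom (σ.D.map φ) q') = σ.D.map φ (Q.hom q') :=
        congrArg (fun t => t q') (pullback.condition (f := Ei.hom) (g := σ.D.map φ))
      exact (congrArg (· ∈ O) e2).mpr ((hrW _).mp (hd' ▸ w'.2))
    obtain ⟨z, hz₁, hz₂⟩ := Scheme.Pullback.exists_preimage_pullback (f := Ei.hom) (g := g₀) _ y hy.symm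
    obtain ⟨w, hw₁, hw₂⟩ := Scheme.Pullback.exists_preimage_pullback (f := pullback.fst Ei.hom g₀)
      (g := pullback.fst Ei.hom (σ.D.map φ)) z q' hz₁
    refine ⟨hgsq.isoPullback.inv w, ?_⟩
    exact ((Scheme.Hom.comp_apply _ _ w).symm.trans (congrArg (fun t => t w) hgsq.isoPullback_inv_snd)).trans hw₂

end Groth.Agent.FEtCat.Extend
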