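import Mathlib.RingTheory.Smooth.StandardSmoothCotangent
import Mathlib.RingTheory.Extension.Presentation.Submersive
import Mathlib.RingTheory.Unramified.Basic
import Mathlib.Algebra.Algebra.Epi
import Mathlib.Algebra.CharP.Basic
import Mathlib.Algebra.CharP.Lemmas
import Mathlib.RingTheory.TensorProduct.Basic
import Mathlib.RingTheory.Noetherian.Nilpotent

/-!
# Finite étale algebras of characteristic `p` lift along surjections, up to an open and closed piece

A finite étale algebra over `A` is generated as a module by the `p`-th powers of generators, hence is a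
quotient of an algebra `x_i ^ p = ∑ M_ij x_j` with `M` invertible and defined over any ring surjecting to `A`.
-/

set_option autoImplicit false

universe u

open TensorProduct MvPolynomial

noncomputable section

namespace Groth.Agent.FEtCat.FrobeniusLift

variable {A B : Type u} [CommRing A] [CommRing B] [Algebra A B] (p : ℕ) [hp : Fact p.Prime]

/-- The `p`-th powers of module generators of a finite étale algebra are module generators. -/
theorem span_pow_eq_top [CharP A p] [Algebra.FormallyUnramified A B] {ι : Type} [Finite ι] (e : ι → B)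
    (he : Submodule.span A (Set.range e) = ⊤) :
    Submodule.span A (Set.range fun i => e i ^ p) = ⊤ := by
  rcases subsingleton_or_nontrivial B with hB | hB
  · exact eq_top_iff.mpr fun x _ => Subsingleton.elim (0 : B) x ▸ Submodule.zero_mem _
  have hpB : (p : B) = 0 := by rw [← map_natCast (algebraMap A B), CharP.cast_eq_zero, map_zero]
  have : CharP B p := (CharP.charP_iff_prime_eq_zero hp.out).mpr hpB
  let N := Submodule.span A (Set.range fun i => e i ^ p)
  have hpow : ∀ b : B, b ^ p ∈ N := fun b => by
    induction (he ▸ Submodule.mem_top : b ∈ Submodule.span A (Set.range e)) using Submodule.span_induction with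
    | mem x hx => obtain ⟨i, rfl⟩ := hx; exact Submodule.subset_span ⟨i, rfl⟩
    | zero => rw [zero_pow hp.out.ne_zero]; exact N.zero_mem
    | add x y _ _ hx hy => rw [add_pow_char]; exact N.add_mem hx hy
    | smul a x _ hx => rw [smul_pow]; exact N.smul_mem _ hx
  have h1 : (1 : B) ∈ N := one_pow (M := B) p ▸ hpow 1
  have hmul : ∀ x y, x ∈ N → y ∈ N → x * y ∈ N := fun x y hx hy => by
    induction hx using Submodule.span_induction with
    | mem x hx =>
      obtain ⟨i, rfl⟩ := hx
      induction hy using Submodule.span_induction with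
      | mem y hy => obtain ⟨j, rfl⟩ := hy; exact mul_pow (e i) (e j) p ▸ hpow _
      | zero => rw [mul_zero]; exact N.zero_mem
      | add a b _ _ ha hb => rw [mul_add]; exact N.add_mem ha hb
      | smul r a _ ha => rw [mul_smul_comm]; exact N.smul_mem _ ha
    | zero => rw [zero_mul]; exact N.zero_mem
    | add a b _ _ ha hb => rw [add_mul]; exact N.add_mem ha hb
    | smul r a _ ha => rw [smul_mul_assoc]; exact N.smul_mem _ ha
  let S : Subalgebra A B := N.toSubalgebra h1 hmul
  have : Module.Finite A B := ⟨he ▸ Submodule.fg_span (Set.finite_range e)⟩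
  have : Module.Finite S B := Module.Finite.of_restrictScalars_finite A S B
  have hsurj : Function.Surjective (algebraMap S B) := by
    refine Algebra.isEpi_iff_surjective_algebraMap_of_finite.mp ((Algebra.isEpi_iff_forall_one_tmul_eq S B).mpr ?_)
    let g₁ : B →ₐ[A] B ⊗[S] B := (Algebra.TensorProduct.includeLeft : B →ₐ[A] B ⊗[S] B)
    let g₂ : B →ₐ[A] B ⊗[S] B := (Algebra.TensorProduct.includeRight : B →ₐ[S] B ⊗[S] B).restrictScalars A
    have : CharP (B ⊗[S] B) p ∨ Subsingleton (B ⊗[S] B) := by
      rcases subsingleton_or_nontrivial (B ⊗[S] B) with h | h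
      · exact Or.inr h
      · exact Or.inl ((CharP.charP_iff_prime_eq_zero hp.out).mpr (by
          rw [← map_natCast (algebraMap A (B ⊗[S] B)), CharP.cast_eq_zero, map_zero]))
    rcases this with hch | hsub
    swap
    · exact fun b => Subsingleton.elim _ _
    let I : Ideal (B ⊗[S] B) := Ideal.span (Set.range fun i => g₁ (e i) - g₂ (e i))
    have hI : IsNilpotent I := (Ideal.FG.isNilpotent_iff_le_nilradical
      (Submodule.fg_span (Set.finite_range _))).mpr (Ideal.span_le.mpr (by
        rintro _ ⟨i, rfl⟩
        refine mem_nilradical.mpr ⟨p, ?_⟩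
        rw [sub_pow_char, sub_eq_zero]
        change (e i ⊗ₜ[S] (1 : B)) ^ p = ((1 : B) ⊗ₜ[S] e i) ^ p
        rw [Algebra.TensorProduct.tmul_pow, Algebra.TensorProduct.tmul_pow, one_pow]
        have hs : algebraMap S B ⟨e i ^ p, hpow _⟩ = e i ^ p := rfl
        rw [← hs, Algebra.algebraMap_eq_smul_one, smul_tmul]))
    have hg : g₁ = g₂ := Algebra.FormallyUnramified.lift_unique I hI g₁ g₂ (AlgHom.toLinearMap_injective
      (LinearMap.ext_on_range he fun i => Ideal.Quotient.eq.mpr (Ideal.subset_span ⟨i, rfl⟩)))
    exact fun b => (AlgHom.congr_fun hg b).symm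
  exact eq_top_iff.mpr fun b _ => by obtain ⟨s, rfl⟩ := hsurj b; exact s.2

variable {R : Type u} [CommRing R] {σ : Type} [Fintype σ] [DecidableEq σ] (M : Matrix σ σ R)

/-- The equations `x_i ^ p = ∑ M_ij x_j`. -/
def rel (i : σ) : MvPolynomial σ R := X i ^ p - ∑ j, C (M i j) * X j

/-- The algebra `R[x] / (x_i ^ p - ∑ M_ij x_j)`. -/
abbrev Alg : Type u := MvPolynomial σ R ⧸ Ideal.span (Set.range (rel p M))

theorem finite_alg : Module.Finite R (Alg p M) := by
  let d := Fintype.card σ * (p - 1)
  let q : MvPolynomial σ R →ₐ[R] Alg p M := Ideal.Quotient.mkₐ R _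
  let W : Submodule R (Alg p M) := Submodule.span R
    ((fun s : σ →₀ ℕ => q (monomial s 1)) '' {s | s.degree ≤ d})
  have hfin : {s : σ →₀ ℕ | s.degree ≤ d}.Finite := Finsupp.finite_of_degree_le d
  have key : ∀ n, ∀ s : σ →₀ ℕ, s.degree ≤ n → q (monomial s 1) ∈ W := by
    intro n
    induction n with
    | zero => intro s hs; exact Submodule.subset_span ⟨s, hs.trans (Nat.zero_le _), rfl⟩
    | succ n ih =>
      intro s hs
      by_cases hd : s.degree ≤ d
      · exact Submodule.subset_span ⟨s, hd, rfl⟩
      obtain ⟨i, hi⟩ : ∃ i, p ≤ s i := by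
        by_contra h
        push Not at h
        refine hd ?_
        rw [Finsupp.degree_eq_sum]
        calc ∑ i, s i ≤ ∑ _i : σ, (p - 1) := Finset.sum_le_sum fun i _ => by have := h i; omega
          _ = d := by simp [d]
      obtain ⟨t, rfl⟩ : ∃ t, s = Finsupp.single i p + t :=
        ⟨s - Finsupp.single i p, (add_tsub_cancel_of_le (by simpa using hi)).symm⟩
      have hq : q (X i ^ p) = ∑ j, M i j • q (X j) := by
        have : q (rel p M i) = 0 := Ideal.Quotient.eq_zero_iff_mem.mpr (Ideal.subset_span ⟨i, rfl⟩)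
        rw [rel, map_sub, sub_eq_zero, map_sum] at this
        rw [this]
        exact Finset.sum_congr rfl fun j _ => by rw [C_mul', map_smul]
      have hmon : monomial (Finsupp.single i p + t) (1 : R) = X i ^ p * monomial t 1 := by
        rw [X_pow_eq_monomial, monomial_mul, one_mul]
      rw [hmon, map_mul, hq, Finset.sum_mul]
      refine Submodule.sum_mem _ fun j _ => ?_
      rw [smul_mul_assoc, ← map_mul]
      refine W.smul_mem _ ?_
      have : X j * monomial t (1 : R) = monomial (Finsupp.single j 1 + t) 1 := by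
        rw [← pow_one (X j), X_pow_eq_monomial, monomial_mul, one_mul]
      rw [this]
      refine ih _ ?_
      rw [map_add, Finsupp.degree_single] at hs ⊢
      have := hp.out.two_le
      omega
  refine ⟨⟨(hfin.image fun s => q (monomial s 1)).toFinset, ?_⟩⟩
  rw [Set.Finite.coe_toFinset, eq_top_iff]
  intro x _
  obtain ⟨P, rfl⟩ := Ideal.Quotient.mk_surjective x
  change q P ∈ W
  rw [P.as_sum, map_sum]
  refine Submodule.sum_mem _ fun s _ => ?_
  rw [show monomial s (P.coeff s) = P.coeff s • monomial s (1 : R) by rw [smul_monomial, smul_eq_mul, mul_one],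
    map_smul]
  exact W.smul_mem _ (key _ s le_rfl)

theorem etale_alg [CharP R p] (hM : IsUnit M.det) : Algebra.Etale R (Alg p M) := by
  let P := Algebra.PreSubmersivePresentation.naive (R := R) (v := rel p M) id Function.injective_id
  have hJ : P.jacobiMatrix = (-M.map (C : R → MvPolynomial σ R)).transpose ∨
      P.jacobiMatrix = -M.map (C : R → MvPolynomial σ R) := by
    have hd : ∀ i j, pderiv i (rel p M j) = -C (M j i) := fun i j => by
      rw [rel, map_sub, pderiv_pow, CharP.cast_eq_zero (MvPolynomial σ R) p, zero_mul, zero_mul, zero_sub,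
        map_sum, Finset.sum_eq_single i (fun b _ hb => by rw [pderiv_mul, pderiv_C, pderiv_X_of_ne hb]; ring)
        (by simp)]
      rw [pderiv_mul, pderiv_C, pderiv_X_self]; ring
    left; ext i j; simp [P, hd]
  have hdet : IsUnit P.jacobian := by
    rw [P.jacobian_eq_jacobiMatrix_det]
    refine IsUnit.map _ ?_
    have hneg : IsUnit (-M.map (C : R → MvPolynomial σ R)).det := by
      rw [Matrix.det_neg]
      refine ((isUnit_one.neg).pow _).mul ?_
      have := hM.map (C : R →+* MvPolynomial σ R)
      rwa [RingHom.map_det] at this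
    rcases hJ with h | h <;> rw [h]
    · rwa [Matrix.det_transpose]
    · exact hneg
  let P' : Algebra.SubmersivePresentation R (Alg p M) σ σ := ⟨P, hdet⟩
  have := P'.isStandardSmoothOfRelativeDimension (n := 0) (by simp [Algebra.Presentation.dimension])
  infer_instance

/-- A finite étale algebra over a quotient of a ring of characteristic `p` is a quotient of the base
change of a finite étale algebra. -/
theorem exists_lift [CharP R p] [Algebra R A] (hRA : Function.Surjective (algebraMap R A))
    [Module.Finite A B] [Algebra.FormallyUnramified A B] :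
    ∃ (C : Type u) (_ : CommRing C) (_ : Algebra R C), Module.Finite R C ∧ Algebra.Etale R C ∧
      ∃ ψ : A ⊗[R] C →ₐ[A] B, Function.Surjective ψ := by
  classical
  rcases subsingleton_or_nontrivial B with hB | hB
  · refine ⟨R, inferInstance, Algebra.id R, inferInstance, inferInstance, ?_⟩
    let ψ : A ⊗[R] R →ₐ[A] B := (Algebra.ofId A B).comp (Algebra.TensorProduct.rid R A A).toAlgHom
    exact ⟨ψ, fun b => ⟨0, Subsingleton.elim _ _⟩⟩
  have : Nontrivial A := (algebraMap A B).domain_nontrivial
  have : CharP A p := (CharP.charP_iff_prime_eq_zero hp.out).mpr (by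
    rw [← map_natCast (algebraMap R A), CharP.cast_eq_zero, map_zero])
  obtain ⟨n, e, he⟩ := Module.Finite.exists_fin (R := A) (M := B)
  let : Algebra R B := ((algebraMap A B).comp (algebraMap R A)).toAlgebra
  have : IsScalarTower R A B := .of_algebraMap_eq' rfl
  have htop : Submodule.span A (Set.range fun i => e i ^ p) = ⊤ := span_pow_eq_top p e he
  have hQ : ∀ i, ∃ c : Fin n → R, ∑ j, c j • e j = e i ^ p := fun i => by
    obtain ⟨c, hc⟩ := (Submodule.mem_span_range_iff_exists_fun A).mp (he ▸ Submodule.mem_top : e i ^ p ∈ _)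
    choose c' hc' using fun j => hRA (c j)
    exact ⟨c', by simpa [← hc', algebraMap_smul] using hc⟩
  have hP : ∀ i, ∃ c : Fin n → R, ∑ j, c j • e j ^ p = e i := fun i => by
    obtain ⟨c, hc⟩ := (Submodule.mem_span_range_iff_exists_fun A).mp (htop ▸ Submodule.mem_top : e i ∈ _)
    choose c' hc' using fun j => hRA (c j)
    exact ⟨c', by simpa [← hc', algebraMap_smul] using hc⟩
  choose Q hQ using hQ
  choose P hP using hP
  let P' : Matrix (Fin n) (Fin n) R := Matrix.of P
  let Q' : Matrix (Fin n) (Fin n) R := Matrix.of Q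
  -- sends `(e, 0)` to `(e ^ p, 0)`
  let E₁ : Matrix (Fin n ⊕ Fin n) (Fin n ⊕ Fin n) R := Matrix.fromBlocks 1 0 Q' 1
  let E₂ : Matrix (Fin n ⊕ Fin n) (Fin n ⊕ Fin n) R := Matrix.fromBlocks 1 (-P') 0 1
  let M : Matrix (Fin n ⊕ Fin n) (Fin n ⊕ Fin n) R := (E₂ * E₁).submatrix Sum.swap id
  have hM : IsUnit M.det := by
    have : M = ((E₂ * E₁).submatrix (Equiv.sumComm _ _) id) := rfl
    rw [this, Matrix.det_permute, Matrix.det_mul, Matrix.det_fromBlocks_zero₁₂, Matrix.det_fromBlocks_zero₂₁]
    simp only [Matrix.det_one, mul_one]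
    exact (Int.castRingHom R).isUnit_map (Units.isUnit _)
  let x : Fin n ⊕ Fin n → B := Sum.elim e fun _ => (0 : B)
  have hx : ∀ i, x i ^ p = ∑ j, M i j • x j := by
    have hE : ∀ i, ∑ j, (E₂ * E₁) i j • x j = Sum.elim (fun _ => (0 : B)) (fun l => e l ^ p) i := by
      intro i
      have h1 : ∀ l, ∑ j, E₁ l j • x j = Sum.elim e (fun l => e l ^ p) l := by
        intro l
        rcases l with l | l <;>
          simp [E₁, x, Fintype.sum_sum_type, Matrix.one_apply, Q', hQ]
      calc ∑ j, (E₂ * E₁) i j • x j = ∑ l, E₂ i l • ∑ j, E₁ l j • x j := by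
            simp only [Matrix.mul_apply, Finset.sum_smul, Finset.smul_sum, mul_smul]
            rw [Finset.sum_comm]
        _ = _ := by
            simp only [h1]
            rcases i with i | i <;>
              simp [E₂, Fintype.sum_sum_type, Matrix.one_apply, P', hP]
    intro i
    change _ = ∑ j, (E₂ * E₁) (Sum.swap i) j • x j
    rw [hE]
    rcases i with i | i
    · rfl
    · exact zero_pow hp.out.ne_zero
  let φ : Alg p M →ₐ[R] B := Ideal.Quotient.liftₐ _ (MvPolynomial.aeval x) fun a ha => by
    refine (Ideal.span_le.mpr ?_ : _ ≤ RingHom.ker (MvPolynomial.aeval x : _ →ₐ[R] B)) ha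
    rintro _ ⟨i, rfl⟩
    simp [rel, hx, Algebra.smul_def]
  let ψ : A ⊗[R] Alg p M →ₐ[A] B :=
    Algebra.TensorProduct.lift (Algebra.ofId A B) φ fun _ _ => Commute.all _ _
  refine ⟨Alg p M, inferInstance, inferInstance, finite_alg p M, etale_alg p M hM, ψ, fun b => ?_⟩
  refine (?_ : b ∈ LinearMap.range ψ.toLinearMap)
  refine (Submodule.span_le.mpr ?_ : Submodule.span A (Set.range e) ≤ _) (he ▸ Submodule.mem_top)
  rintro _ ⟨i, rfl⟩
  refine ⟨1 ⊗ₜ Ideal.Quotient.mk _ (X (Sum.inl i)), ?_⟩
  rw [AlgHom.toLinearMap_apply, Algebra.TensorProduct.lift_tmul, map_one, one_mul]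
  change MvPolynomial.aeval x (X (Sum.inl i)) = _
  simp [x]

end Groth.Agent.FEtCat.FrobeniusLift
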