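import Groth.Agent.FEtCat.Coequalizer
import Mathlib.CategoryTheory.Limits.FintypeCat
import Mathlib.CategoryTheory.Galois.Basic
import Mathlib.CategoryTheory.Limits.Shapes.SingleObj

/-!
# Finite étale covers of a connected scheme form a Galois category
-/

noncomputable section

universe u

open CategoryTheory CategoryTheory.Limits AlgebraicGeometry

namespace Groth.Agent.FEtCat.Galois

open Groth.Agent.FEtCat.Basic

variable {X : Scheme.{u}}

instance hasFiniteColimits : HasFiniteColimits (FEt.Cat X) :=
  hasFiniteColimits_of_hasCoequalizers_and_finite_coproducts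

section fibre

variable {Ω : Type u} [Field Ω] (ξ : Spec (CommRingCat.of Ω) ⟶ X)

instance : PreservesColimitsOfShape (Discrete.{0} PEmpty) (FEt.fiber ξ) := by
  have h : IsEmpty (FEt.fiberObj ξ (Basic.empty X)) := ⟨fun s =>
    IsEmpty.false (α := (∅ : Scheme.{u})) (s.1 default)⟩
  have : PreservesColimit (Functor.empty.{0} (FEt.Cat X)) (FEt.fiber ξ) :=
    preservesColimit_of_preserves_colimit_cocone isInitialEmpty
      ((isColimitMapCoconeEmptyCoconeEquiv (FEt.fiber ξ) _).symm
        ((Types.initial_iff_empty (FEt.fiberObj ξ (Basic.empty X))).mpr h).some)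
  exact preservesColimitsOfShape_pempty_of_preservesInitial _

instance preservesPair (Y Z : FEt.Cat X) : PreservesColimit (pair Y Z) (FEt.fiber ξ) := by
  refine preservesColimit_of_preserves_colimit_cocone (coprodIsColimit Y Z) ?_
  refine (isColimitMapCoconeBinaryCofanEquiv (FEt.fiber ξ) _ _).symm ?_
  have : IsOpenImmersion (coprodCofan Y Z).inl.left :=
    inferInstanceAs (IsOpenImmersion (coprod.inl : Y.left ⟶ Y.left ⨿ Z.left))
  have : IsOpenImmersion (coprodCofan Y Z).inr.left :=
    inferInstanceAs (IsOpenImmersion (coprod.inr : Z.left ⟶ Y.left ⨿ Z.left))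
  have hb := fiber_coprod_bijective ξ (coprodCofan Y Z).inl (coprodCofan Y Z).inr
    (isCompl_range_inl_inr Y.left Z.left)
  let e := Equiv.ofBijective _ hb
  refine BinaryCofan.IsColimit.mk _ (fun {T} a b => TypeCat.ofHom fun w => Sum.elim a b (e.symm w))
    (fun {T} a b => ?_) (fun {T} a b => ?_) (fun {T} a b m ha hb => ?_)
  · refine ConcreteCategory.hom_ext _ _ fun y => ?_
    change Sum.elim a b (e.symm (e (.inl y))) = a y
    rw [Equiv.symm_apply_apply]
    rfl
  · refine ConcreteCategory.hom_ext _ _ fun y => ?_
    change Sum.elim a b (e.symm (e (.inr y))) = b y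
    rw [Equiv.symm_apply_apply]
    rfl
  · refine ConcreteCategory.hom_ext _ _ fun w => ?_
    obtain ⟨(y | y), rfl⟩ := e.surjective w
    · change m (e (.inl y)) = Sum.elim a b (e.symm (e (.inl y)))
      rw [Equiv.symm_apply_apply]
      exact ConcreteCategory.congr_hom ha y
    · change m (e (.inr y)) = Sum.elim a b (e.symm (e (.inr y)))
      rw [Equiv.symm_apply_apply]
      exact ConcreteCategory.congr_hom hb y

instance fiber_preservesFiniteColimits [IsSepClosed Ω] : PreservesFiniteColimits (FEt.fiber ξ) := by
  have : PreservesColimitsOfShape (Discrete WalkingPair) (FEt.fiber ξ) :=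
    ⟨fun {K} => preservesColimit_of_iso_diagram _ (diagramIsoPair K).symm⟩
  have : PreservesFiniteCoproducts (FEt.fiber ξ) :=
    ⟨fun _ => PreservesFiniteCoproducts.of_preserves_binary_and_initial _ _⟩
  have : PreservesColimitsOfShape WalkingParallelPair (FEt.fiber ξ) :=
    ⟨fun {K} => preservesColimit_of_iso_diagram _ (diagramIsoParallelPair K).symm⟩
  exact preservesFiniteColimits_of_preservesCoequalizers_and_finiteCoproducts _

instance fibre_preservesFiniteColimits [IsSepClosed Ω] : PreservesFiniteColimits (fibre ξ) := by
  have : PreservesFiniteColimits (fibre ξ ⋙ FintypeCat.incl) :=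
    preservesFiniteColimits_of_natIso (fibreIncl ξ).symm
  exact ⟨fun J _ _ => preservesColimitsOfShape_of_reflects_of_preserves _ FintypeCat.incl⟩

end fibre

/-- Base change of covers preserves finite colimits. -/
instance restrict_preservesFiniteColimits {X' : Scheme.{u}} (f : X' ⟶ X) :
    PreservesFiniteColimits (FEt.restrict f) where
  preservesFiniteColimits J _ _ := ⟨fun {K} => by
    refine preservesColimit_of_preserves_colimit_cocone (colimit.isColimit K) ?_
    let t := (FEt.restrict f).mapCocone (colimit.cocone K)
    let c := colimit.isColimit (K ⋙ FEt.restrict f)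
    have : IsIso (c.desc t) := by
      refine isIso_of_forall_bijective _ fun Ω _ _ ξ => ?_
      let F := FEt.fiber ξ
      let h₁ : IsColimit (F.mapCocone (colimit.cocone (K ⋙ FEt.restrict f))) := isColimitOfPreserves F c
      have : PreservesFiniteColimits (FEt.restrict f ⋙ F) :=
        preservesFiniteColimits_of_natIso (restrictFiberIso f ξ).symm
      let h₂ : IsColimit (F.mapCocone t) :=
        (isColimitOfPreserves (FEt.restrict f ⋙ F) (colimit.isColimit K))
      have key : F.map (c.desc t) = (h₁.coconePointUniqueUpToIso h₂).hom := by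
        refine h₁.hom_ext fun j => ?_
        rw [IsColimit.comp_coconePointUniqueUpToIso_hom]
        exact (F.map_comp _ _).symm.trans (congrArg F.map (c.fac t j))
      rw [key]
      exact (isIso_iff_bijective _).mp inferInstance
    exact IsColimit.ofPointIso (r := colimit.cocone (K ⋙ FEt.restrict f)) c⟩

section connected

variable [ConnectedSpace X] {Ω : Type u} [Field Ω] [IsAlgClosed Ω] (ξ : Spec (CommRingCat.of Ω) ⟶ X)

instance preGalois : PreGaloisCategory (FEt.Cat X) where
  hasQuotientsByFiniteGroups G _ _ := by
    obtain ⟨G', hg, hf, ⟨e⟩⟩ := Finite.exists_type_univ_nonempty_mulEquiv.{u, 0} G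
    exact Limits.hasColimitsOfShape_of_equivalence e.toSingleObjEquiv.symm
  monoInducesIsoOnDirectSummand i := exists_summand i

instance fibre_reflectsIso : (fibre ξ).ReflectsIsomorphisms where
  reflects {Y Z} φ _ := by
    refine isIso_of_bijective ξ φ ?_
    exact (isIso_iff_bijective _).mp (Functor.map_isIso FintypeCat.incl ((fibre ξ).map φ))

instance fiberFunctor : PreGaloisCategory.FiberFunctor (fibre ξ) where
  preservesQuotientsByFiniteGroups G _ _ := by
    choose G' hg hf he using Finite.exists_type_univ_nonempty_mulEquiv.{u, 0} G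
    exact Limits.preservesColimitsOfShape_of_equiv he.some.toSingleObjEquiv.symm _

theorem galoisCategory : GaloisCategory (FEt.Cat X) := by
  obtain ⟨x⟩ := (inferInstance : Nonempty X)
  exact { hasFiberFunctor := ⟨fibre (Spec.map (CommRingCat.ofHom
    (algebraMap (X.residueField x) (AlgebraicClosure (X.residueField x)))) ≫ X.fromSpecResidueField x), ⟨fiberFunctor _⟩⟩ }

end connected

end Groth.Agent.FEtCat.Galois
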