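import Groth.Prelude.Def_FEt
import Groth.Agent.LimLib.Glue
import Mathlib.AlgebraicGeometry.Morphisms.Basic

/-!
# Gluing two finite étale covers along an open
-/

set_option autoImplicit false
set_option backward.isDefEq.respectTransparency.types false
set_option linter.style.haveILetI false
set_option maxHeartbeats 800000

noncomputable section

universe u

open CategoryTheory CategoryTheory.Limits AlgebraicGeometry TopologicalSpace

namespace Groth.Agent.FEtCat.Glue

variable {X A B : Scheme.{u}}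

/-- Covers over two opens with identified restrictions glue. -/
theorem exists_glue (a : A ⟶ X) (b : B ⟶ X) [IsOpenImmersion a] [IsOpenImmersion b]
    (hcov : a.opensRange ⊔ b.opensRange = ⊤) (P : FEt.Cat A) (Q : FEt.Cat B)
    {R : Scheme.{u}} (f : R ⟶ P.left) (g : R ⟶ Q.left) [IsOpenImmersion f] [IsOpenImmersion g]
    (w : f ≫ P.hom ≫ a = g ≫ Q.hom ≫ b)
    (hf : ∀ p : P.left, a (P.hom p) ∈ Set.range b → p ∈ Set.range f)
    (hg : ∀ q : Q.left, b (Q.hom q) ∈ Set.range a → q ∈ Set.range g) :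
    ∃ Y : FEt.Cat X, Nonempty ((FEt.restrict a).obj Y ≅ P) ∧ Nonempty ((FEt.restrict b).obj Y ≅ Q) := by
  let Z := pushout f g
  let p : Z ⟶ X := pushout.desc (P.hom ≫ a) (Q.hom ≫ b) w
  have hinl : pushout.inl f g ≫ p = P.hom ≫ a := pushout.inl_desc _ _ _
  have hinr : pushout.inr f g ≫ p = Q.hom ≫ b := pushout.inr_desc _ _ _
  have hcovZ : ∀ z : Z, (∃ y, pushout.inl f g y = z) ∨ ∃ y, pushout.inr f g y = z := fun z =>
    Opens.mem_sup.mp ((LimLib.pushout_opensRange_sup f g).ge (trivial : z ∈ (⊤ : Z.Opens)))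
  have hP : IsPullback P.hom (pushout.inl f g) a p := by
    refine IsOpenImmersion.isPullback _ _ _ _ hinl (le_antisymm (fun z hz => ?_) ?_)
    · obtain ⟨y, rfl⟩ | ⟨y, rfl⟩ := hcovZ z
      · exact ⟨y, rfl⟩
      · have hy : b (Q.hom y) ∈ Set.range a := by
          have : p (pushout.inr f g y) ∈ Set.range a := hz
          rwa [← Scheme.Hom.comp_apply, hinr, Scheme.Hom.comp_apply] at this
        obtain ⟨r, rfl⟩ := hg y hy
        exact ⟨f r, by rw [← Scheme.Hom.comp_apply, pushout.condition, Scheme.Hom.comp_apply]⟩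
    · rintro _ ⟨y, rfl⟩
      exact ⟨P.hom y, by rw [← Scheme.Hom.comp_apply, ← Scheme.Hom.comp_apply, hinl]⟩
  have hQ : IsPullback Q.hom (pushout.inr f g) b p := by
    refine IsOpenImmersion.isPullback _ _ _ _ hinr (le_antisymm (fun z hz => ?_) ?_)
    · obtain ⟨y, rfl⟩ | ⟨y, rfl⟩ := hcovZ z
      · have hy : a (P.hom y) ∈ Set.range b := by
          have : p (pushout.inl f g y) ∈ Set.range b := hz
          rwa [← Scheme.Hom.comp_apply, hinl, Scheme.Hom.comp_apply] at this
        obtain ⟨r, rfl⟩ := hf y hy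
        exact ⟨g r, by rw [← Scheme.Hom.comp_apply, ← pushout.condition, Scheme.Hom.comp_apply]⟩
      · exact ⟨y, rfl⟩
    · rintro _ ⟨y, rfl⟩
      exact ⟨Q.hom y, by rw [← Scheme.Hom.comp_apply, ← Scheme.Hom.comp_apply, hinr]⟩
  let 𝒰 : X.OpenCover := X.openCoverOfIsOpenCover (fun t : Bool => bif t then a.opensRange else b.opensRange)
    (top_le_iff.mp (hcov.ge.trans (sup_le (le_iSup_of_le true le_rfl) (le_iSup_of_le false le_rfl))))
  have hres : ∀ (T : MorphismProperty Scheme.{u}) [T.RespectsIso], T P.hom → T Q.hom →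
      ∀ t, T (pullback.snd p (𝒰.f t)) := by
    intro T _ hTP hTQ t
    cases t
    · have h := hQ.flip.of_iso (Iso.refl _) (Iso.refl _) b.isoOpensRange (Iso.refl _)
        (fst' := pushout.inr f g) (snd' := Q.hom ≫ b.isoOpensRange.hom) (f' := p) (g' := b.opensRange.ι)
        (by simp) (by simp) (by simp) (by simp)
      change T (pullback.snd p b.opensRange.ι)
      rw [← T.cancel_left_of_respectsIso h.isoPullback.hom, h.isoPullback_hom_snd]
      exact (T.cancel_right_of_respectsIso _ _).mpr hTQ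
    · have h := hP.flip.of_iso (Iso.refl _) (Iso.refl _) a.isoOpensRange (Iso.refl _)
        (fst' := pushout.inl f g) (snd' := P.hom ≫ a.isoOpensRange.hom) (f' := p) (g' := a.opensRange.ι)
        (by simp) (by simp) (by simp) (by simp)
      change T (pullback.snd p a.opensRange.ι)
      rw [← T.cancel_left_of_respectsIso h.isoPullback.hom, h.isoPullback_hom_snd]
      exact (T.cancel_right_of_respectsIso _ _).mpr hTP
  haveI : IsFinite p := IsZariskiLocalAtTarget.of_openCover 𝒰 (hres @IsFinite P.prop.1 Q.prop.1)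
  haveI : Etale p := IsZariskiLocalAtTarget.of_openCover 𝒰 (hres @Etale P.prop.2 Q.prop.2)
  refine ⟨MorphismProperty.Over.mk ⊤ p ⟨‹_›, ‹_›⟩, ⟨?_⟩, ⟨?_⟩⟩
  · exact MorphismProperty.Over.isoMk hP.flip.isoPullback.symm hP.flip.isoPullback_inv_snd
  · exact MorphismProperty.Over.isoMk hQ.flip.isoPullback.symm hQ.flip.isoPullback_inv_snd

end Groth.Agent.FEtCat.Glue
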