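import Groth.Agent.FEtCat.Ordered
import Groth.Agent.HomSch.Glue
import Groth.Agent.FpqcDesc.Props
import Mathlib.AlgebraicGeometry.Morphisms.LocalFlatDescent

/-!
# The scheme of morphisms between two finite étale covers is finite étale
-/

set_option backward.isDefEq.respectTransparency.types false
set_option autoImplicit false

universe u

open CategoryTheory CategoryTheory.Limits AlgebraicGeometry MonoidalCategory CartesianMonoidalCategory

noncomputable section

namespace Groth.Agent.FEtCat.InternalHom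

open Groth.Agent.FEtCat.Basic

variable {X : Scheme.{u}}

/-- Finite powers of a finite étale scheme over `X`. -/
theorem exists_power (V : Over X) (hV : FEt.prop V.hom) (n : ℕ) :
    ∃ (P : Over X) (π : Fin n → (P ⟶ V)), FEt.prop P.hom ∧
      ∀ (T : Over X) (φ : Fin n → (T ⟶ V)), ∃! v : T ⟶ P, ∀ i, v ≫ π i = φ i := by
  induction n with
  | zero =>
    refine ⟨𝟙_ (Over X), fun i => i.elim0, FEt.prop.id_mem X, fun T φ =>
      ⟨toUnit T, fun i => i.elim0, fun v _ => toUnit_unique _ _⟩⟩
  | succ n ih =>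
    obtain ⟨P, π, hP, huniv⟩ := ih
    refine ⟨P ⊗ V, Fin.lastCases (snd P V) fun i => fst P V ≫ π i,
      FEt.prop.comp_mem _ _ (MorphismProperty.pullback_fst _ _ hV) hP, fun T φ => ?_⟩
    obtain ⟨v, hv, hvu⟩ := huniv T fun i => φ i.castSucc
    refine ⟨lift v (φ (Fin.last n)), fun i => ?_, fun w hw => CartesianMonoidalCategory.hom_ext _ _ ?_ ?_⟩
    · induction i using Fin.lastCases with
      | last => simp
      | cast i => simp [hv i]
    · rw [lift_fst]
      exact hvu _ fun i => by simpa using hw i.castSucc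
    · rw [lift_snd]
      simpa using hw (Fin.last n)

variable {U V M C : Over X} (ev : U ⊗ M ⟶ V) {n : ℕ} (c : Fin n → (C ⟶ U))

/-- `n` sections which are bijective on geometric fibres turn morphisms out of `U` into tuples. -/
theorem bijective_sections [IsFinite U.hom] [Etale U.hom] {T : Over X} (σ : Fin n → (T ⟶ U))
    (hσ : ∀ (Ω : Type u) (_ : Field Ω) (_ : IsAlgClosed Ω) (η : Spec (CommRingCat.of Ω) ⟶ T.left),
      Function.Bijective fun i : Fin n =>
        (⟨η ≫ (σ i).left, by rw [Category.assoc, Over.w]⟩ : Count.Sec U.hom (η ≫ T.hom)))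
    (Z : Over X) :
    Function.Bijective fun (φ : U ⊗ T ⟶ Z) (i : Fin n) => lift (σ i) (𝟙 T) ≫ φ := by
  let τ : ULift.{u} (Fin n) → (T.left ⟶ pullback U.hom T.hom) := fun i =>
    (lift (σ i.down) (𝟙 T)).left
  have hτ : ∀ i, τ i ≫ pullback.snd U.hom T.hom = 𝟙 _ := fun i =>
    congr($(lift_snd (σ i.down) (𝟙 T)).left)
  have hτ' : ∀ i, τ i ≫ pullback.fst U.hom T.hom = (σ i.down).left := fun i =>
    congr($(lift_fst (σ i.down) (𝟙 T)).left)
  have : IsIso (Limits.Sigma.desc τ) := by
    refine (Sigma.isIso_desc_iff _ τ hτ).mpr fun Ω hf ha η => ?_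
    let e : Count.Sec (pullback.snd U.hom T.hom) η ≃ Count.Sec U.hom (η ≫ T.hom) :=
      { toFun := fun s => ⟨s.1 ≫ pullback.fst _ _, by rw [Category.assoc, pullback.condition, reassoc_of% s.2]⟩
        invFun := fun s => ⟨pullback.lift s.1 η s.2, pullback.lift_snd _ _ _⟩
        left_inv := fun s => Subtype.ext (pullback.hom_ext (pullback.lift_fst _ _ _)
          ((pullback.lift_snd _ _ _).trans s.2.symm))
        right_inv := fun s => Subtype.ext (pullback.lift_fst _ _ _) }
    refine (e.bijective.of_comp_iff' _).mp ?_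
    have : (e ∘ fun i : ULift.{u} (Fin n) =>
        (⟨η ≫ τ i, by rw [Category.assoc, hτ, Category.comp_id]⟩ : Count.Sec (pullback.snd U.hom T.hom) η)) =
        (fun i : Fin n => (⟨η ≫ (σ i).left, by rw [Category.assoc, Over.w]⟩ :
          Count.Sec U.hom (η ≫ T.hom))) ∘ Equiv.ulift := by
      funext i
      exact Subtype.ext ((Category.assoc _ _ _).trans (congrArg (η ≫ ·) (hτ' i)))
    exact this ▸ (hσ Ω hf ha η).comp Equiv.ulift.bijective
  constructor
  · intro φ ψ h
    ext : 1
    exact (cancel_epi (Limits.Sigma.desc τ)).mp (Limits.Sigma.hom_ext _ _ fun i => by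
      rw [Limits.Sigma.ι_desc_assoc, Limits.Sigma.ι_desc_assoc]
      exact congr($(congr_fun h i.down).left))
  · intro z
    let d : pullback U.hom T.hom ⟶ Z.left :=
      inv (Limits.Sigma.desc τ) ≫ Limits.Sigma.desc fun i => (z i.down).left
    have hd : ∀ i, τ i ≫ d = (z i.down).left := fun i => by
      change τ i ≫ inv (Limits.Sigma.desc τ) ≫ _ = _
      rw [show τ i = Limits.Sigma.ι _ i ≫ Limits.Sigma.desc τ from (Limits.Sigma.ι_desc _ _).symm,
        Category.assoc, IsIso.hom_inv_id_assoc, Limits.Sigma.ι_desc]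
    refine ⟨Over.homMk d ((cancel_epi (Limits.Sigma.desc τ)).mp (Limits.Sigma.hom_ext _ _ fun i => ?_)),
      funext fun i => Over.OverMorphism.ext (hd ⟨i⟩)⟩
    rw [Limits.Sigma.ι_desc_assoc, Limits.Sigma.ι_desc_assoc, reassoc_of% hd, Over.w]
    exact (Over.w (lift (σ i.down) (𝟙 T))).symm

/-- After a base change splitting `U`, the scheme of morphisms from `U` to `V` is finite étale. -/
theorem prop_pullback [IsFinite U.hom] [Etale U.hom] (hV : FEt.prop V.hom)
    (huniv : ∀ (T : Over X) (φ : U ⊗ T ⟶ V), ∃! v : T ⟶ M, (U ◁ v) ≫ ev = φ)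
    (hc : ∀ (Ω : Type u) (_ : Field Ω) (_ : IsAlgClosed Ω) (η : Spec (CommRingCat.of Ω) ⟶ C.left),
      Function.Bijective fun i : Fin n =>
        (⟨η ≫ (c i).left, by rw [Category.assoc, Over.w]⟩ : Count.Sec U.hom (η ≫ C.hom))) :
    FEt.prop (pullback.fst C.hom M.hom) := by
  obtain ⟨P, π, hP, hPuniv⟩ := exists_power V hV n
  obtain ⟨w, hw, -⟩ := hPuniv (C ⊗ M) fun i => lift (fst C M ≫ c i) (snd C M) ≫ ev
  let f : C ⊗ M ⟶ C ⊗ P := lift (fst C M) w
  have hbij : ∀ T : Over X, Function.Bijective fun r : T ⟶ C ⊗ M => r ≫ f := by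
    intro T
    have key : ∀ (r : T ⟶ C ⊗ M) (i : Fin n), r ≫ w ≫ π i =
        lift ((r ≫ fst C M) ≫ c i) (𝟙 T) ≫ (U ◁ (r ≫ snd C M)) ≫ ev := fun r i => by
      rw [hw, comp_lift_assoc, lift_whiskerLeft_assoc, Category.id_comp, Category.assoc]
    have hb : ∀ q : T ⟶ C, Function.Bijective fun (φ : U ⊗ T ⟶ V) (i : Fin n) =>
        lift (q ≫ c i) (𝟙 T) ≫ φ := fun q => bijective_sections _ (fun Ω hf ha η => by
      have hq : (η ≫ q.left) ≫ C.hom = η ≫ T.hom := by rw [Category.assoc, Over.w]
      let e : Count.Sec U.hom ((η ≫ q.left) ≫ C.hom) ≃ Count.Sec U.hom (η ≫ T.hom) :=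
        Equiv.subtypeEquivRight fun s => hq ▸ Iff.rfl
      exact (show (fun i => (⟨η ≫ (q ≫ c i).left, by rw [Category.assoc, Over.w]⟩ :
          Count.Sec U.hom (η ≫ T.hom))) = e ∘ fun i =>
          (⟨(η ≫ q.left) ≫ (c i).left, by rw [Category.assoc, Over.w]⟩ :
            Count.Sec U.hom ((η ≫ q.left) ≫ C.hom)) from
        funext fun i => Subtype.ext (Category.assoc _ _ _).symm) ▸
        e.bijective.comp (hc Ω hf ha (η ≫ q.left))) V
    constructor
    · intro r r' h
      have h1 : r ≫ fst C M = r' ≫ fst C M := by simpa [f] using congrArg (· ≫ fst C P) h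
      have h2 : r ≫ w = r' ≫ w := by simpa [f] using congrArg (· ≫ snd C P) h
      refine CartesianMonoidalCategory.hom_ext _ _ h1 ((huniv T _).unique rfl ((hb (r ≫ fst C M)).1 ?_))
      funext i
      have h3 := key r' i
      rw [← reassoc_of% h2, key r i, ← h1] at h3
      exact h3.symm
    · intro p
      obtain ⟨φ, hφ⟩ := (hb (p ≫ fst C P)).2 fun i => p ≫ snd C P ≫ π i
      obtain ⟨v, hv, -⟩ := huniv T φ
      refine ⟨lift (p ≫ fst C P) v, CartesianMonoidalCategory.hom_ext _ _ (by simp [f]) ?_⟩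
      refine (hPuniv T fun i => p ≫ snd C P ≫ π i).unique (fun i => ?_) fun i => Category.assoc _ _ _
      refine Eq.trans ?_ (congr_fun hφ i)
      simp only [f, Category.assoc, lift_snd_assoc]
      rw [key]
      simp [hv]
  obtain ⟨g, hg'⟩ := (hbij (C ⊗ P)).2 (𝟙 _)
  have hg : g ≫ f = 𝟙 _ := hg'
  have : IsIso f := ⟨g, (hbij (C ⊗ M)).1 (show (f ≫ g) ≫ f = 𝟙 _ ≫ f by
    rw [Category.assoc, hg, Category.comp_id, Category.id_comp]), hg⟩
  have : IsIso f.left := inferInstanceAs (IsIso ((Over.forget X).map f))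
  rw [show pullback.fst C.hom M.hom = f.left ≫ pullback.fst C.hom P.hom from
    (congr($(lift_fst (fst C M) w).left)).symm]
  exact (MorphismProperty.cancel_left_of_respectsIso _ _ _).mpr (MorphismProperty.pullback_fst _ _ hP)

/-- The scheme of morphisms from a finite étale cover to another is finite étale. -/
theorem exists_homCover (A B : FEt.Cat X) :
    ∃ (M : Over X) (ev : Over.mk A.hom ⊗ M ⟶ Over.mk B.hom), FEt.prop M.hom ∧
      ∀ (T : Over X) (φ : Over.mk A.hom ⊗ T ⟶ Over.mk B.hom),
        ∃! v : T ⟶ M, (Over.mk A.hom ◁ v) ≫ ev = φ := by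
  let U := Over.mk A.hom
  have : IsFinite U.hom := Basic.isFinite_hom A
  have : Etale U.hom := Basic.etale_hom A
  have : IsAffineHom (Over.mk B.hom).hom := inferInstanceAs (IsAffineHom B.hom)
  obtain ⟨M, ev, -, -, -, huniv⟩ := HomSch.exists_homScheme U (Over.mk B.hom)
  refine ⟨M, ev, ?_, huniv⟩
  let R : ℕ → X.Opens := fun n =>
    ⟨{x | Scheme.Hom.finrank A.hom x = n}, ((Scheme.Hom.isLocallyConstant_finrank A.hom).isClopen_fiber n).2⟩
  have hR : TopologicalSpace.IsOpenCover R :=
    .mk (eq_top_iff.mpr fun x _ => TopologicalSpace.Opens.mem_iSup.mpr ⟨_, rfl⟩)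
  rw [IsZariskiLocalAtTarget.iff_of_openCover (P := FEt.prop) (X.openCoverOfIsOpenCover R hR)]
  change ∀ n : ℕ, FEt.prop (pullback.snd M.hom (R n).ι)
  intro n
  let A' := (FEt.restrict (R n).ι).obj A
  have hn : ∀ x, Scheme.Hom.finrank A'.hom x = n := fun x => by
    change Scheme.Hom.finrank (pullback.snd A.hom (R n).ι) x = n
    rw [Scheme.Hom.finrank_pullback_snd]
    exact x.2
  let cov := Ordered.cover A' n
  let C : Over X := Over.mk (cov.hom ≫ (R n).ι)
  let c : Fin n → (C ⟶ U) := fun i => Over.homMk ((Ordered.coord A' n i).left ≫ pullback.fst A.hom (R n).ι)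
    ((Category.assoc _ _ _).trans ((congrArg ((Ordered.coord A' n i).left ≫ ·) pullback.condition).trans
      ((Category.assoc _ _ _).symm.trans (congrArg (· ≫ (R n).ι)
        (MorphismProperty.Over.w (Ordered.coord A' n i))))))
  have hP := prop_pullback ev c (show FEt.prop (Over.mk B.hom).hom from B.prop) huniv fun Ω hf ha η => by
    let ξ := η ≫ cov.hom
    let t : FEt.fiberObj ξ cov := ⟨η, rfl⟩
    have := Count.finite_sec U.hom (η ≫ C.hom)
    refine (Nat.bijective_iff_injective_and_card _).mpr ⟨fun i j hij => ?_, ?_⟩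
    · refine Ordered.tuple_injective A' n ξ t (Subtype.ext (pullback.hom_ext ?_ ?_))
      · exact (Category.assoc _ _ _).trans ((congrArg Subtype.val hij).trans (Category.assoc _ _ _).symm)
      · exact (Ordered.tuple A' n ξ t i).2.trans (Ordered.tuple A' n ξ t j).2.symm
    · rw [Nat.card_fin, Count.natCard_sec]
      exact ((η ≫ cov.hom) default).2.symm
  have : Surjective cov.hom := Ordered.surjective_cover A' n hn
  have hQ : (@Surjective ⊓ @Flat ⊓ @QuasiCompact : MorphismProperty Scheme.{u}) cov.hom :=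
    ⟨⟨this, inferInstance⟩, inferInstance⟩
  have hpaste := ((IsPullback.of_hasPullback cov.hom (pullback.snd M.hom (R n).ι)).flip.paste_horiz
    (IsPullback.of_hasPullback M.hom (R n).ι)).flip
  have hP' : FEt.prop (pullback.fst cov.hom (pullback.snd M.hom (R n).ι)) := by
    rw [← hpaste.isoPullback_hom_fst]
    exact (MorphismProperty.cancel_left_of_respectsIso _ _ _).mpr hP
  have := FpqcDesc.descendsAlong_isFinite.{u}
  have hsq := IsPullback.of_hasPullback cov.hom (pullback.snd M.hom (R n).ι)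
  exact ⟨MorphismProperty.of_isPullback_of_descendsAlong (Q := FpqcDesc.FPQC) hsq hQ hP'.1,
    MorphismProperty.of_isPullback_of_descendsAlong (Q := FpqcDesc.FPQC) hsq hQ hP'.2⟩

/-- Morphisms between base changes are morphisms over `X` out of the product. -/
def homEquiv (A B : FEt.Cat X) (T : Scheme.{u}) (g : T ⟶ X) :
    (Over.mk A.hom ⊗ Over.mk g ⟶ Over.mk B.hom) ≃ ((FEt.restrict g).obj A ⟶ (FEt.restrict g).obj B) where
  toFun φ := Basic.homMk (Y := (FEt.restrict g).obj A) (Z := (FEt.restrict g).obj B)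
    (pullback.lift φ.left (pullback.snd A.hom g) ((Over.w φ).trans pullback.condition))
    (pullback.lift_snd _ _ _)
  invFun ψ := Over.homMk (ψ.left ≫ pullback.fst B.hom g) ((Category.assoc _ _ _).trans
    ((congrArg (ψ.left ≫ ·) pullback.condition).trans ((Category.assoc _ _ _).symm.trans
      ((congrArg (· ≫ g) (MorphismProperty.Over.w ψ)).trans pullback.condition.symm))))
  left_inv φ := Over.OverMorphism.ext (pullback.lift_fst _ _ _)
  right_inv ψ := Basic.hom_ext (pullback.hom_ext (pullback.lift_fst _ _ _)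
    ((pullback.lift_snd _ _ _).trans (MorphismProperty.Over.w ψ).symm))

end Groth.Agent.FEtCat.InternalHom
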