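import Mathlib.RingTheory.LaurentSeries
import Mathlib.RingTheory.Henselian
import Mathlib.RingTheory.Noetherian.Nilpotent
import Mathlib.RingTheory.RootsOfUnity.AlgebraicallyClosed
import Mathlib.RingTheory.RootsOfUnity.PrimitiveRoots
import Mathlib.FieldTheory.IsSepClosed

/-! Laurent series over a strictly henselian local ring: idempotents and the Kummer substitutions. -/

set_option autoImplicit false

universe u v

open HahnSeries Polynomial

noncomputable section

namespace Groth.Agent.FEtCat.LaurentRoot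

variable {R : Type u} [CommRing R] {S : Type v} [CommRing S]

/-- Coefficientwise map of Laurent series. -/
def mapR (f : R →+* S) : LaurentSeries R →+* LaurentSeries S where
  toFun x := x.map f
  map_one' := by
    ext m
    rw [map_coeff, HahnSeries.coeff_one, HahnSeries.coeff_one]
    split <;> simp
  map_mul' x y := HahnSeries.map_mul f.toNonUnitalRingHom
  map_zero' := by ext; simp
  map_add' x y := by ext; simp

@[simp] theorem mapR_coeff (f : R →+* S) (x : LaurentSeries R) (m : ℤ) :
    (mapR f x).coeff m = f (x.coeff m) := rfl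

theorem eq_mapR (f : R →+* S) (ρ : LaurentSeries R →+* LaurentSeries S)
    (hρ : ρ.comp (ofPowerSeries ℤ R) = (ofPowerSeries ℤ S).comp (PowerSeries.map f)) : ρ = mapR f := by
  refine IsLocalization.ringHom_ext (Submonoid.powers (PowerSeries.X : PowerSeries R)) (RingHom.ext fun p => ?_)
  simp only [RingHom.comp_apply, LaurentSeries.coe_algebraMap]
  rw [show ρ (ofPowerSeries ℤ R p) = ofPowerSeries ℤ S (PowerSeries.map f p) from RingHom.congr_fun hρ p]
  ext m
  rw [mapR_coeff]
  rcases m with n | n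
  · simp [LaurentSeries.coeff_coe_powerSeries]
  · simp only [ofPowerSeries_apply]
    rw [embDomain_of_notMem_range (by simp), embDomain_of_notMem_range (by simp), map_zero]

/-- The substitution `t ↦ ζ t`. -/
def twist (ζ : Rˣ) : LaurentSeries R →+* LaurentSeries R where
  toFun x := ⟨fun m => ((ζ ^ m : Rˣ) : R) * x.coeff m,
    x.isPWO_support.mono fun m hm h => hm (by simp [h])⟩
  map_one' := by
    ext m
    change ((ζ ^ m : Rˣ) : R) * (1 : LaurentSeries R).coeff m = _
    rw [HahnSeries.coeff_one]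
    split
    · rename_i h; simp [h]
    · simp
  map_mul' x y := by
    ext m
    change ((ζ ^ m : Rˣ) : R) * (x * y).coeff m = _
    rw [HahnSeries.coeff_mul, HahnSeries.coeff_mul, Finset.mul_sum]
    refine Finset.sum_congr (Finset.ext fun ij => ?_) fun ij hij => ?_
    · simp only [Finset.mem_antidiagonal, HahnSeries.mem_support, Units.mul_right_eq_zero, ne_eq]
    · simp only [Finset.mem_antidiagonal] at hij
      change _ = ((ζ ^ ij.1 : Rˣ) : R) * x.coeff ij.1 * (((ζ ^ ij.2 : Rˣ) : R) * y.coeff ij.2)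
      rw [← hij.2.2, zpow_add, Units.val_mul]
      ring
  map_zero' := by ext; simp
  map_add' x y := by ext; simp [mul_add]

@[simp] theorem twist_coeff (ζ : Rˣ) (x : LaurentSeries R) (m : ℤ) :
    (twist ζ x).coeff m = ((ζ ^ m : Rˣ) : R) * x.coeff m := rfl

theorem mapR_twist (f : R →+* S) (ζ : Rˣ) :
    (mapR f).comp (twist ζ) = (twist (Units.map f.toMonoidHom ζ)).comp (mapR f) := by
  refine RingHom.ext fun x => HahnSeries.ext (funext fun m => ?_)
  simp [← map_zpow]

section
variable (d : ℕ) (hinj : Function.Injective (AddMonoidHom.mulLeft (d : ℤ)))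
  (hmono : ∀ g g' : ℤ, AddMonoidHom.mulLeft (d : ℤ) g ≤ AddMonoidHom.mulLeft (d : ℤ) g' ↔ g ≤ g')

theorem coeff_sub_mul (x : LaurentSeries R) (g : ℤ) :
    (embDomainRingHom (AddMonoidHom.mulLeft (d : ℤ)) hinj hmono x).coeff ((d : ℤ) * g) = x.coeff g :=
  embDomain_coeff

theorem coeff_sub_of_not_dvd (x : LaurentSeries R) {m : ℤ} (h : ¬ (d : ℤ) ∣ m) :
    (embDomainRingHom (AddMonoidHom.mulLeft (d : ℤ)) hinj hmono x).coeff m = 0 :=
  embDomain_of_notMem_range fun ⟨g, hg⟩ => h ⟨g, hg.symm⟩

theorem sub_injective :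
    Function.Injective (embDomainRingHom (R := R) (AddMonoidHom.mulLeft (d : ℤ)) hinj hmono) := fun x y h =>
  HahnSeries.ext (funext fun g => by rw [← coeff_sub_mul d hinj hmono x g, h, coeff_sub_mul])

theorem mapR_comp_sub (f : R →+* S) :
    (mapR f).comp (embDomainRingHom (AddMonoidHom.mulLeft (d : ℤ)) hinj hmono) =
      (embDomainRingHom (AddMonoidHom.mulLeft (d : ℤ)) hinj hmono).comp (mapR f) := by
  refine RingHom.ext fun x => HahnSeries.ext (funext fun m => ?_)
  rw [RingHom.comp_apply, RingHom.comp_apply, mapR_coeff]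
  by_cases h : (d : ℤ) ∣ m
  · obtain ⟨g, rfl⟩ := h
    rw [coeff_sub_mul, coeff_sub_mul, mapR_coeff]
  · rw [coeff_sub_of_not_dvd d hinj hmono x h, coeff_sub_of_not_dvd d hinj hmono _ h, map_zero]

theorem twist_comp_sub {ζ : Rˣ} (hζ : ζ ^ d = 1) :
    (twist ζ).comp (embDomainRingHom (AddMonoidHom.mulLeft (d : ℤ)) hinj hmono) =
      embDomainRingHom (AddMonoidHom.mulLeft (d : ℤ)) hinj hmono := by
  refine RingHom.ext fun x => HahnSeries.ext (funext fun m => ?_)
  rw [RingHom.comp_apply, twist_coeff]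
  by_cases h : (d : ℤ) ∣ m
  · obtain ⟨g, rfl⟩ := h
    rw [zpow_mul, zpow_natCast, hζ, one_zpow, Units.val_one, one_mul]
  · rw [coeff_sub_of_not_dvd d hinj hmono x h, mul_zero]

theorem mem_range_sub (hd : 0 < d) {ζ : Rˣ}
    (hζ : ∀ m : ℤ, ¬ (d : ℤ) ∣ m → IsUnit (((ζ ^ m : Rˣ) : R) - 1))
    {y : LaurentSeries R} (hy : twist ζ y = y) :
    ∃ x, embDomainRingHom (AddMonoidHom.mulLeft (d : ℤ)) hinj hmono x = y := by
  let x : LaurentSeries R := ⟨fun g => y.coeff ((d : ℤ) * g), Set.IsWF.isPWO (by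
    rw [Set.isWF_iff_no_descending_seq]
    intro f hf hfS
    exact (Set.isWF_iff_no_descending_seq.mp y.isPWO_support.isWF) (fun n => (d : ℤ) * f n)
      (fun a b hab => (Int.mul_lt_mul_left (by exact_mod_cast hd)).mpr (hf hab)) hfS)⟩
  refine ⟨x, HahnSeries.ext (funext fun m => ?_)⟩
  by_cases h : (d : ℤ) ∣ m
  · obtain ⟨g, rfl⟩ := h
    rw [coeff_sub_mul]
  · rw [coeff_sub_of_not_dvd d hinj hmono x h]
    refine ((hζ m h).mul_right_eq_zero.1 ?_).symm
    rw [sub_mul, one_mul, ← twist_coeff, hy, sub_self]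

end

/-- The Laurent series with coefficients in an ideal. -/
def coeffIn (J : Ideal R) (x : LaurentSeries R) : Prop := ∀ m, x.coeff m ∈ J

theorem coeffIn.mul {J K : Ideal R} {x y : LaurentSeries R} (hx : coeffIn J x) (hy : coeffIn K y) :
    coeffIn (J * K) (x * y) := fun m => by
  rw [HahnSeries.coeff_mul]
  exact Ideal.sum_mem _ fun ij _ => Ideal.mul_mem_mul (hx _) (hy _)

theorem eq_zero_of_idempotent [IsLocalRing R] {e : LaurentSeries R} (he : IsIdempotentElem e)
    (h0 : mapR (IsLocalRing.residue R) e = 0) : e = 0 := by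
  have hm : e.coeff 0 ∈ IsLocalRing.maximalIdeal R := by
    rw [← IsLocalRing.residue_eq_zero_iff]
    exact (mapR_coeff _ e 0).symm.trans (by rw [h0]; simp)
  have hnil : ∀ m, IsNilpotent (e.coeff m) := fun m => by
    rw [nilpotent_iff_mem_prime]
    intro p hp
    rw [← Ideal.Quotient.eq_zero_iff_mem]
    rcases IsIdempotentElem.iff_eq_zero_or_one.mp (he.map (mapR (Ideal.Quotient.mk p))) with h | h
    · exact (mapR_coeff _ e m).symm.trans (by rw [h]; simp)
    · exfalso
      have h1 := congrArg (fun x : LaurentSeries (R ⧸ p) => x.coeff 0) h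
      simp only [mapR_coeff, HahnSeries.coeff_one, if_true] at h1
      rw [← map_one (Ideal.Quotient.mk p), Ideal.Quotient.eq] at h1
      have h2 := (IsLocalRing.maximalIdeal R).sub_mem hm (IsLocalRing.le_maximalIdeal hp.ne_top h1)
      rw [sub_sub_cancel] at h2
      exact (IsLocalRing.maximalIdeal.isMaximal R).ne_top ((Ideal.eq_top_iff_one _).mpr h2)
  classical
  let N : Ideal R := Ideal.span (((Finset.Icc e.order 0).image e.coeff : Finset R) : Set R)
  have hN : IsNilpotent N := by
    refine (Ideal.FG.isNilpotent_iff_le_nilradical (Submodule.fg_span (Finset.finite_toSet _))).mpr ?_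
    rw [Ideal.span_le]
    rintro _ hc
    obtain ⟨m, -, rfl⟩ := Finset.mem_image.mp hc
    exact hnil m
  obtain ⟨k, hk⟩ := hN
  have hpow : ∀ n, mapR (Ideal.Quotient.mk N) e = mapR (Ideal.Quotient.mk N) e ^ (n + 1) := fun n =>
    ((he.map _).pow_succ_eq n).symm
  set q := mapR (Ideal.Quotient.mk N) e
  have hpos : ∀ m : ℤ, m ≤ 0 → q.coeff m = 0 := fun m hm' => by
    rw [mapR_coeff, Ideal.Quotient.eq_zero_iff_mem]
    rcases lt_or_ge m e.order with h | h
    · rw [HahnSeries.coeff_eq_zero_of_lt_order h]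
      exact zero_mem _
    · exact Ideal.subset_span (Finset.mem_image_of_mem _ (Finset.mem_Icc.mpr ⟨h, hm'⟩))
  have hord : ∀ (n : ℕ) (m : ℤ), m ≤ n → (q ^ (n + 1)).coeff m = 0 := by
    intro n
    induction n with
    | zero => intro m hm'; rw [zero_add, pow_one]; exact hpos m hm'
    | succ n ih =>
      intro m hm'
      rw [pow_succ, HahnSeries.coeff_mul]
      refine Finset.sum_eq_zero fun ij hij => ?_
      rw [Finset.mem_antidiagonal] at hij
      obtain ⟨h1, h2, h3⟩ := hij
      have a1 : (n : ℤ) < ij.1 := not_le.mp fun h => h1 (ih _ h)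
      have a2 : 0 < ij.2 := not_le.mp fun h => h2 (hpos _ h)
      omega
  have heN : coeffIn N e := fun m => by
    rw [← Ideal.Quotient.eq_zero_iff_mem, ← mapR_coeff]
    change q.coeff m = 0
    rw [hpow m.toNat]
    exact hord _ _ (Int.self_le_toNat m)
  have hall : ∀ n : ℕ, coeffIn (N ^ (n + 1)) e := fun n => by
    induction n with
    | zero => rwa [zero_add, pow_one]
    | succ n ih => rw [pow_succ]; simpa only [he.eq] using ih.mul heN
  refine HahnSeries.ext (funext fun m => ?_)
  have hm' := Ideal.pow_le_pow_right (Nat.le_succ k) (hall k m)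
  rwa [hk] at hm'

theorem idempotent_iff [IsLocalRing R] {e : LaurentSeries R} (he : IsIdempotentElem e) : e = 0 ∨ e = 1 := by
  rcases IsIdempotentElem.iff_eq_zero_or_one.mp (he.map (mapR (IsLocalRing.residue R))) with h | h
  · exact .inl (eq_zero_of_idempotent he h)
  · exact .inr (sub_eq_zero.mp (eq_zero_of_idempotent he.one_sub (by rw [map_sub, map_one, h, sub_self]))).symm

theorem exists_root_of_unity [HenselianLocalRing R] [IsSepClosed (IsLocalRing.ResidueField R)]
    (d : ℕ) (hd : 0 < d) (hdu : IsUnit (d : R)) :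
    ∃ ζ : Rˣ, ζ ^ d = 1 ∧ ∀ m : ℤ, ¬ (d : ℤ) ∣ m → IsUnit (((ζ ^ m : Rˣ) : R) - 1) := by
  let k := IsLocalRing.ResidueField R
  have : NeZero (d : k) := ⟨by
    rw [← map_natCast (IsLocalRing.residue R)]
    exact (hdu.map _).ne_zero⟩
  have : NeZero d := ⟨hd.ne'⟩
  obtain ⟨z, hz⟩ := HasEnoughRootsOfUnity.exists_primitiveRoot k d
  obtain ⟨z₀, hz₀⟩ := IsLocalRing.residue_surjective z
  obtain ⟨a, ha, haz⟩ := HenselianLocalRing.is_henselian (X ^ d - 1 : R[X])
    (monic_X_pow_sub_C 1 hd.ne') z₀ (by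
      rw [← IsLocalRing.residue_eq_zero_iff]
      simp [hz₀, hz.pow_eq_one]) (by
      rw [derivative_sub, derivative_one, sub_zero, derivative_X_pow, eval_mul, eval_C, eval_pow, eval_X]
      refine hdu.mul (IsUnit.pow _ (IsLocalRing.notMem_maximalIdeal.mp fun h => hz.ne_zero hd.ne' ?_))
      rw [← hz₀, IsLocalRing.residue_eq_zero_iff]
      exact h)
  have had : a ^ d = 1 := by simpa [IsRoot, sub_eq_zero] using ha
  have hra : IsLocalRing.residue R a = z := by
    rw [← IsLocalRing.residue_eq_zero_iff, map_sub, sub_eq_zero] at haz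
    exact haz.trans hz₀
  let ζ : Rˣ := Units.ofPowEqOne a d had hd.ne'
  refine ⟨ζ, Units.ext (by simp [ζ, had]), fun m hm => ?_⟩
  rw [← IsLocalRing.notMem_maximalIdeal, ← IsLocalRing.residue_eq_zero_iff, map_sub, map_one, sub_eq_zero]
  intro h
  apply hm
  have h1 : (Units.map (IsLocalRing.residue R).toMonoidHom ζ) ^ m = 1 := by
    rw [← map_zpow]
    exact Units.ext h
  have hz' : IsPrimitiveRoot (Units.map (IsLocalRing.residue R).toMonoidHom ζ) d := by
    rw [← IsPrimitiveRoot.coe_units_iff]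
    simpa [ζ, hra] using hz
  exact (hz'.zpow_eq_one_iff_dvd m).mp h1

end Groth.Agent.FEtCat.LaurentRoot
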