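import Groth.Agent.FEtCat.Full
import Groth.Agent.EtNormal.Basic
import Groth.Agent.EtStruct.Instances
import Mathlib.AlgebraicGeometry.Morphisms.UniversallyOpen
import Mathlib.AlgebraicGeometry.FunctionField

/-!
# Finite étale covers of integral normal schemes
-/

set_option backward.isDefEq.respectTransparency.types false

noncomputable section

universe u

open CategoryTheory CategoryTheory.Limits AlgebraicGeometry Topology

namespace Groth.Agent.FEtCat.Normal

variable {X : Scheme.{u}} [IsIntegral X] (hX : Pi1.IsNormalScheme X) (Y : FEt.Cat X)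

/-- The points over the generic point. -/
def gen : Set Y.left := Y.hom ⁻¹' {genericPoint X}

theorem finite_gen : (gen Y).Finite := Y.hom.finite_preimage_singleton _

theorem exists_gen (y : Y.left) : ∃ g ∈ gen Y, g ⤳ y := by
  obtain ⟨g, hg, hgy⟩ := Flat.generalizingMap Y.hom (genericPoint_specializes (α := X) (Y.hom y))
  exact ⟨g, hgy, hg⟩

theorem eq_of_mem_gen {g g' : Y.left} (hg : g ∈ gen Y) (hg' : g' ∈ gen Y) (h : g ⤳ g') : g = g' := by
  have := EtStruct.locallyQuasiFinite_of_formallyUnramified Y.hom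
  have : DiscreteTopology ↥(gen Y) :=
    isDiscrete_iff_discreteTopology.mp (Y.hom.isDiscrete_preimage_singleton (genericPoint X))
  exact congrArg Subtype.val ((subtype_specializes_iff (x := (⟨g, hg⟩ : ↥(gen Y))) (y := ⟨g', hg'⟩)).mpr h).eq

include hX in
theorem eq_of_specializes {g g' y : Y.left} (hg : g ∈ gen Y) (hg' : g' ∈ gen Y) (h : g ⤳ y) (h' : g' ⤳ y) :
    g = g' := by
  have : IsDomain (Y.left.presheaf.stalk y) := (EtNormal.isNormalScheme_of_etale Y.hom hX y).1
  obtain ⟨q, rfl⟩ : g ∈ Set.range (Y.left.fromSpecStalk y) := by rw [Scheme.range_fromSpecStalk]; exact h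
  obtain ⟨q', rfl⟩ : g' ∈ Set.range (Y.left.fromSpecStalk y) := by rw [Scheme.range_fromSpecStalk]; exact h'
  let b : PrimeSpectrum (Y.left.presheaf.stalk y) := ⟨⊥, Ideal.isPrime_bot⟩
  let g₀ := Y.left.fromSpecStalk y b
  have hb : ∀ p, g₀ ⤳ Y.left.fromSpecStalk y p := fun p =>
    ((PrimeSpectrum.le_iff_specializes b p).mp (show b.asIdeal ≤ p.asIdeal from bot_le)).map (Y.left.fromSpecStalk y).continuous
  have h₀ : g₀ ∈ gen Y := by
    refine ((genericPoint_specializes (α := X) (Y.hom g₀)).antisymm ?_).symm.eq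
    exact hg ▸ (hb q).map Y.hom.continuous
  rw [← eq_of_mem_gen Y h₀ hg (hb q), ← eq_of_mem_gen Y h₀ hg' (hb q')]

include hX in
theorem isClopen_biUnion {T : Set Y.left} (hT : T ⊆ gen Y) : IsClopen (⋃ g ∈ T, closure {g}) := by
  have h : ∀ S ⊆ gen Y, IsClosed (⋃ g ∈ S, closure {g}) := fun S hS =>
    ((finite_gen Y).subset hS).isClosed_biUnion fun _ _ => isClosed_closure
  refine ⟨h T hT, ?_⟩
  have : (⋃ g ∈ T, closure {g}) = (⋃ g ∈ gen Y \ T, closure {g})ᶜ := by
    ext y
    obtain ⟨g, hg, hgy⟩ := exists_gen Y y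
    simp only [Set.mem_compl_iff, Set.mem_iUnion, exists_prop, ← specializes_iff_mem_closure, not_exists, not_and]
    exact ⟨fun ⟨a, ha, hay⟩ b hb hby => hb.2 (eq_of_specializes hX Y (hT ha) hb.1 hay hby ▸ ha),
      fun H => ⟨g, by_contra fun hgT => H g ⟨hg, hgT⟩ hgy, hgy⟩⟩
  rw [this]
  exact (h _ Set.sdiff_subset).isOpen_compl

include hX in
theorem isIntegral [ConnectedSpace Y.left] : IsIntegral Y.left := by
  obtain ⟨y₀⟩ := ConnectedSpace.toNonempty (α := Y.left)
  obtain ⟨g, hg, -⟩ := exists_gen Y y₀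
  have hc : closure {g} = (Set.univ : Set Y.left) := by
    have h := (isClopen_biUnion hX Y (T := {g}) (Set.singleton_subset_iff.mpr hg)).eq_univ
    simp only [Set.biUnion_singleton] at h
    exact h ⟨g, subset_closure rfl⟩
  have : IrreducibleSpace Y.left :=
    { toPreirreducibleSpace := ⟨hc ▸ isIrreducible_singleton.closure.isPreirreducible⟩
      toNonempty := ⟨g⟩ }
  have : ∀ y, _root_.IsReduced (Y.left.presheaf.stalk y) := fun y => by
    have : IsDomain (Y.left.presheaf.stalk y) := (EtNormal.isNormalScheme_of_etale Y.hom hX y).1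
    infer_instance
  have : IsReduced Y.left := isReduced_of_isReduced_stalk _
  exact isIntegral_of_irreducibleSpace_of_isReduced _

include hX in
/-- Restriction to anything containing the generic point is fully faithful. -/
theorem full_faithful {X' : Scheme.{u}} (f : X' ⟶ X) [IsPreimmersion f] (hη : genericPoint X ∈ Set.range f) :
    (FEt.restrict f).Full ∧ (FEt.restrict f).Faithful := by
  have hsub : ∀ Y : FEt.Cat X, gen Y ⊆ Set.range (pullback.fst Y.hom f) := fun Y g hg => by
    rw [Scheme.Pullback.range_fst]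
    change Y.hom g ∈ Set.range f
    rw [show Y.hom g = genericPoint X from hg]
    exact hη
  refine Full.full_faithful f (fun Y W hW he => ?_) fun Y W' hW' => ?_
  · refine Set.eq_empty_of_forall_notMem fun w hw => ?_
    obtain ⟨g, hg, hgw⟩ := exists_gen Y w
    obtain ⟨v, rfl⟩ := hsub Y hg
    exact Set.notMem_empty v (he ▸ hgw.mem_open hW.2 hw)
  · refine ⟨_, isClopen_biUnion hX Y (T := gen Y ∩ pullback.fst Y.hom f '' W') Set.inter_subset_left, ?_⟩
    have hi : IsInducing (pullback.fst Y.hom f) := (pullback.fst Y.hom f).isEmbedding.isInducing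
    ext z
    simp only [Set.mem_preimage, Set.mem_iUnion, exists_prop, ← specializes_iff_mem_closure]
    constructor
    · rintro ⟨_, ⟨hg, v, hv, rfl⟩, hvz⟩
      exact (hi.specializes_iff.1 hvz).mem_closed hW'.1 hv
    · intro hz
      obtain ⟨g, hg, hgz⟩ := exists_gen Y (pullback.fst Y.hom f z)
      obtain ⟨v, rfl⟩ := hsub Y hg
      exact ⟨_, ⟨hg, v, (hi.specializes_iff.1 hgz).mem_open hW'.2 hz, rfl⟩, hgz⟩

end Groth.Agent.FEtCat.Normal
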