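import Groth.Agent.FEtCat.NormalizationGeneric
import Mathlib.RingTheory.Algebraic.Integral

/-!
# `Spec L` maps onto the generic point of the normalization by a preimmersion
-/

set_option backward.isDefEq.respectTransparency.types false
set_option autoImplicit false

universe u

open CategoryTheory CategoryTheory.Limits AlgebraicGeometry

noncomputable section

namespace Groth.Agent.FEtCat.NormalizationGeneric

variable {X : Scheme.{u}} [IsIntegral X] (L : Type u) [Field L] [Algebra X.functionField L]
  [FiniteDimensional X.functionField L]

local notation "F" => Spec.map (CommRingCat.ofHom (algebraMap X.functionField L)) ≫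
  X.fromSpecStalk (genericPoint X)

omit [FiniteDimensional X.functionField L] in
theorem apply_default : (F) default = genericPoint X := by
  have : Subsingleton (Spec (CommRingCat.of X.functionField)) := inferInstanceAs (Subsingleton (PrimeSpectrum X.functionField))
  refine (Scheme.Hom.comp_apply _ _ _).trans ((congrArg (fun z => X.fromSpecStalk (genericPoint X) z) (Subsingleton.elim ((Spec.map (CommRingCat.ofHom (algebraMap X.functionField L))) default)
    (IsLocalRing.closedPoint X.functionField : Spec (CommRingCat.of X.functionField)))).trans ?_)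
  exact Scheme.fromSpecStalk_closedPoint

theorem toNormalization_default [QuasiCompact F] [QuasiSeparated F] :
    (F).toNormalization default = genericPoint (F).normalization := by
  have h := (F).toNormalization.denseRange
  have hr : Set.range (F).toNormalization = {(F).toNormalization default} := Set.eq_singleton_iff_unique_mem.mpr
    ⟨⟨default, rfl⟩, fun _ ⟨a, ha⟩ => ha ▸ congrArg _ ((inferInstanceAs (Subsingleton (PrimeSpectrum L)) : Subsingleton (Spec (CommRingCat.of L))).elim a default)⟩
  rw [DenseRange, hr, dense_iff_closure_eq] at h
  exact ((isGenericPoint_def.mpr h).eq (genericPoint_spec _))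

theorem app_eq (V : X.Opens) (hη : genericPoint X ∈ V) (r : Γ(X, V)) :
    (Spec (CommRingCat.of L)).presheaf.germ ((F) ⁻¹ᵁ V) default
      (show (F) default ∈ V from (apply_default (X := X) L).symm ▸ hη) ((F).app V r) =
    (Spec (CommRingCat.of L)).presheaf.germ ⊤ default trivial
      ((Scheme.ΓSpecIso (CommRingCat.of L)).inv (algebraMap X.functionField L (X.presheaf.germ V _ hη r))) := by
  let j := X.fromSpecStalk (genericPoint X)
  let m := Spec.map (CommRingCat.ofHom (algebraMap X.functionField L))
  have hm : m default ∈ j ⁻¹ᵁ V := show (F) default ∈ V from (apply_default (X := X) L).symm ▸ hη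
  change (Spec (CommRingCat.of L)).presheaf.germ (m ⁻¹ᵁ (j ⁻¹ᵁ V)) default hm (m.app (j ⁻¹ᵁ V) (j.app V r)) = _
  rw [← Scheme.Hom.germ_stalkMap_apply m (j ⁻¹ᵁ V) default hm,
    show j.app V r = _ from congr($(Scheme.fromSpecStalk_app hη) r)]
  refine (congrArg (m.stalkMap default) (TopCat.Presheaf.germ_res_apply _ _ _ _ _)).trans ?_
  refine (Scheme.Hom.germ_stalkMap_apply m ⊤ default trivial _).trans (congrArg _ ?_)
  exact (congr($(Scheme.ΓSpecIso_inv_naturality (CommRingCat.ofHom (algebraMap X.functionField L)))
    (X.presheaf.germ V _ hη r))).symm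

theorem isPreimmersion_toNormalization [QuasiCompact F] [QuasiSeparated F] :
    IsPreimmersion (F).toNormalization := by
  have hemb : Topology.IsEmbedding (F).toNormalization := by
    have : Subsingleton (Spec (CommRingCat.of L)) := inferInstanceAs (Subsingleton (PrimeSpectrum L))
    have : Nonempty (Spec (CommRingCat.of L)) := ⟨default⟩
    exact ⟨⟨Subsingleton.elim _ _⟩, Function.injective_of_subsingleton _⟩
  have hsurj : Function.Surjective ((F).toNormalization.stalkMap default).hom := by
    intro s
    have hgb : Function.Bijective ((Spec (CommRingCat.of L)).presheaf.germ ⊤ default trivial) := by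
      refine ⟨germ_injective_of_isIntegral _ _ _, fun t => ?_⟩
      obtain ⟨U, hU, r, rfl⟩ := TopCat.Presheaf.exists_germ_eq _ t
      have hU' : U = ⊤ := by
        ext x
        obtain rfl : x = default := (inferInstanceAs (Subsingleton (PrimeSpectrum L)) : Subsingleton (Spec (CommRingCat.of L))).elim x default
        exact iff_of_true hU trivial
      subst hU'
      exact ⟨r, rfl⟩
    obtain ⟨b, rfl⟩ := hgb.2 s
    let a : L := (Scheme.ΓSpecIso (CommRingCat.of L)).hom b
    obtain ⟨V, hV, hηV, -⟩ := TopologicalSpace.Opens.isBasis_iff_nbhd.mp X.isBasis_affineOpens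
      (U := ⊤) (x := genericPoint X) trivial
    have : Nonempty (V : Scheme.{u}) := ⟨⟨_, hηV⟩⟩
    have := functionField_isFractionRing_of_isAffineOpen X V hV
    let : Algebra Γ(X, V) L := ((algebraMap X.functionField L).comp (algebraMap Γ(X, V) X.functionField)).toAlgebra
    have : IsScalarTower Γ(X, V) X.functionField L := .of_algebraMap_eq' rfl
    have halg : IsAlgebraic Γ(X, V) a :=
      (IsFractionRing.isAlgebraic_iff Γ(X, V) X.functionField L).mpr (Algebra.IsAlgebraic.isAlgebraic a)
    obtain ⟨c, hc, hint⟩ := IsAlgebraic.exists_integral_multiple halg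
    let ε : L →+* (Spec (CommRingCat.of L)).presheaf.stalk default :=
      ((Spec (CommRingCat.of L)).presheaf.germ ⊤ default trivial).hom.comp
        (Scheme.ΓSpecIso (CommRingCat.of L)).inv.hom
    let W := (F).fromNormalization ⁻¹ᵁ V
    have hn : (F).toNormalization default ∈ W := by
      change (F).fromNormalization ((F).toNormalization default) ∈ V
      rw [← Scheme.Hom.comp_apply, Scheme.Hom.toNormalization_fromNormalization, apply_default (X := X) L]
      exact hηV
    have hd : (default : Spec (CommRingCat.of L)) ∈ (F) ⁻¹ᵁ V :=
      show (F) default ∈ V from (apply_default (X := X) L).symm ▸ hηV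
    let σ := ((F).toNormalization.stalkMap default).hom
    let gW := (F).normalization.presheaf.germ W ((F).toNormalization default) hn
    have key : ∀ y : L, IsIntegral Γ(X, V) y → ∃ x, σ (gW x) = ε y := by
      intro y hy
      let := ((F).app V).hom.toAlgebra
      let g₁ := (Spec (CommRingCat.of L)).presheaf.germ ((F) ⁻¹ᵁ V) default hd
      have hg₁ : Function.Injective g₁ := germ_injective_of_isIntegral _ _ _
      let res := (Spec (CommRingCat.of L)).presheaf.map (homOfLE (le_top : (F) ⁻¹ᵁ V ≤ ⊤)).op
      let y' := res ((Scheme.ΓSpecIso (CommRingCat.of L)).inv y)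
      have hy'g : g₁ y' = ε y := TopCat.Presheaf.germ_res_apply _ _ _ _ _
      have hy' : IsIntegral Γ(X, V) y' := by
        obtain ⟨p, hp, hpy⟩ := hy
        refine ⟨p, hp, hg₁ ?_⟩
        rw [map_zero]
        refine Eq.trans ?_ ((congrArg ε hpy).trans (map_zero ε))
        rw [Polynomial.hom_eval₂, Polynomial.hom_eval₂]
        erw [hy'g]
        congr 1
        exact RingHom.ext fun r => app_eq (X := X) L V hηV r
      refine ⟨((F).normalizationObjIso hV).inv ⟨y', hy'⟩, ?_⟩
      refine (Scheme.Hom.germ_stalkMap_apply _ _ _ _ _).trans ?_
      have h1 := congr($((F).normalizationObjIso_hom_val hV) (((F).normalizationObjIso hV).inv ⟨y', hy'⟩))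
      rw [CommRingCat.comp_apply, Iso.inv_hom_id_apply] at h1
      refine Eq.trans ?_ hy'g
      refine Eq.trans ?_ (congrArg g₁ h1.symm)
      rw [Scheme.Hom.appLE, CommRingCat.comp_apply, TopCat.Presheaf.germ_res_apply]
    obtain ⟨x, hx⟩ := key _ hint
    obtain ⟨z, hz⟩ := key _ (isIntegral_algebraMap (x := c))
    have hz0 : gW z ≠ 0 := fun h0 => by
      rw [h0, map_zero] at hz
      have hinj : Function.Injective (algebraMap Γ(X, V) L) :=
        (algebraMap X.functionField L).injective.comp (IsFractionRing.injective _ _)
      have hεinj : Function.Injective ε :=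
        hgb.1.comp ((ConcreteCategory.isIso_iff_bijective _).mp inferInstance).1
      exact hc (hinj ((hεinj (hz.symm.trans (map_zero ε).symm)).trans (map_zero _).symm))
    have hfield : IsField ((F).normalization.presheaf.stalk ((F).toNormalization default)) := by
      rw [toNormalization_default]
      exact (inferInstance : Field (F).normalization.functionField).toSemifield.toIsField _
    obtain ⟨w, hw⟩ := hfield.mul_inv_cancel hz0
    refine ⟨gW x * w, ?_⟩
    have hb : b = (Scheme.ΓSpecIso (CommRingCat.of L)).inv a := (Iso.hom_inv_id_apply _ _).symm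
    change σ (gW x * w) = _
    rw [hb, map_mul, hx, Algebra.smul_def, map_mul, ← hz, mul_comm (σ (gW z)), mul_assoc, ← map_mul, hw, map_one, mul_one]
    rfl
  have hx : ∀ x, Function.Surjective ((F).toNormalization.stalkMap x).hom := fun x => by
    obtain rfl : x = default := (inferInstanceAs (Subsingleton (PrimeSpectrum L)) : Subsingleton (Spec (CommRingCat.of L))).elim x default
    exact hsurj
  exact { isEmbedding := hemb, stalkMap_surjective := hx }

end Groth.Agent.FEtCat.NormalizationGeneric
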