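import Groth.Agent.FEtCat.Full
import Groth.Agent.S0268
import Groth.Agent.S0239
import Groth.Agent.S17961
import Mathlib.RingTheory.Henselian
import Mathlib.RingTheory.AdicCompletion.Basic

/-!
# Proper schemes over complete local rings and their closed fibres
-/

set_option backward.isDefEq.respectTransparency.types false
set_option autoImplicit false

universe u

open CategoryTheory CategoryTheory.Limits AlgebraicGeometry

noncomputable section

namespace Groth.Agent.FEtCat.ProperHenselian

variable {A : Type u} [CommRing A] [IsNoetherianRing A] (I : Ideal A) [HenselianRing A I]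
  {X : Scheme.{u}} (f : X ⟶ Spec (CommRingCat.of A)) [IsProper f]

/-- The inclusion of the special fibre. -/
abbrev incl : pullback f (Spec.map (CommRingCat.ofHom (Ideal.Quotient.mk I))) ⟶ X :=
  pullback.fst f (Spec.map (CommRingCat.ofHom (Ideal.Quotient.mk I)))

theorem clopen_incl : Full.ClopenInj (incl I f) ∧ Full.ClopenSurj (incl I f) := by
  have hlift := S17961.result A I f
  refine ⟨fun Y W hW hp => ?_, fun Y W' hW' => ?_⟩
  · obtain ⟨U, -, hU⟩ := hlift Y.left Y.hom Y.prop.1 ∅ isClopen_empty
    exact (hU W ⟨hW, hp⟩).trans (hU ∅ ⟨isClopen_empty, Set.preimage_empty⟩).symm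
  · obtain ⟨U, hU, -⟩ := hlift Y.left Y.hom Y.prop.1 W' hW'
    exact ⟨U, hU⟩

/-- A connected cover has connected special fibre. -/
theorem connected_restrict (Y : FEt.Cat X) [ConnectedSpace Y.left] :
    ConnectedSpace ↥((FEt.restrict (incl I f)).obj Y).left := by
  obtain ⟨h1, h2⟩ := clopen_incl I f
  have hne : Nonempty ↥(pullback Y.hom (incl I f)) := by
    by_contra h
    exact Set.univ_nonempty.ne_empty (h1 Y Set.univ isClopen_univ
      (Set.eq_empty_of_forall_notMem fun z _ => h ⟨z⟩))
  exact
    { toPreconnectedSpace := preconnectedSpace_iff_clopen.mpr fun W' hW' => by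
        obtain ⟨W, hW, rfl⟩ := h2 Y W' hW'
        rcases isClopen_iff.mp hW with h | h <;> subst h
        · exact Or.inl Set.preimage_empty
        · exact Or.inr Set.preimage_univ
      toNonempty := hne }

/-- The square of restriction functors. -/
def squareIso : FEt.restrict f ⋙ FEt.restrict (incl I f) ≅
    FEt.restrict (Spec.map (CommRingCat.ofHom (Ideal.Quotient.mk I))) ⋙
      FEt.restrict (pullback.snd f (Spec.map (CommRingCat.ofHom (Ideal.Quotient.mk I)))) :=
  (MorphismProperty.Over.pullbackComp (incl I f) f _ rfl).symm ≪≫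
    MorphismProperty.Over.pullbackCongr pullback.condition ≪≫
    MorphismProperty.Over.pullbackComp _ _ _ rfl

theorem full_faithful_of_fibre
    (h : (FEt.restrict (pullback.snd f (Spec.map (CommRingCat.ofHom (Ideal.Quotient.mk I))))).Full ∧
      (FEt.restrict (pullback.snd f (Spec.map (CommRingCat.ofHom (Ideal.Quotient.mk I))))).Faithful) :
    (FEt.restrict f).Full ∧ (FEt.restrict f).Faithful := by
  obtain ⟨h1, h2⟩ := clopen_incl I f
  obtain ⟨hf, hf'⟩ := Full.full_faithful (incl I f) h1 h2
  obtain ⟨h3, h4⟩ := h
  have := S0239.result A I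
  have hF := Functor.Full.of_iso (squareIso I f).symm
  have hF' := Functor.Faithful.of_iso (squareIso I f).symm
  exact ⟨Functor.Full.of_comp_faithful (FEt.restrict f) (FEt.restrict (incl I f)),
    Functor.Faithful.of_comp (FEt.restrict f) (FEt.restrict (incl I f))⟩

end Groth.Agent.FEtCat.ProperHenselian
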