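import Groth.Agent.FEtCat.DepthTwo
import Groth.Agent.FEtCat.Basic
import Groth.Agent.HartogsAffine.Basic
import Mathlib.AlgebraicGeometry.Normalization
import Mathlib.AlgebraicGeometry.Morphisms.Flat
import Mathlib.RingTheory.Kaehler.TensorProduct
import Mathlib.RingTheory.Smooth.Fiber
import Mathlib.RingTheory.RingHom.Etale
import Mathlib.LinearAlgebra.TensorProduct.Pi

/-!
# Purity descends along flat quasi-compact surjections

`essSurj`: a finite étale cover of an open `U` with complement of depth at least two extends as soon as it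
extends after a jointly surjective family of flat affine base changes; the extension is the normalization
of the base in the cover.
-/

set_option autoImplicit false
set_option linter.style.haveILetI false
set_option backward.isDefEq.respectTransparency.types false

universe u

open CategoryTheory CategoryTheory.Limits AlgebraicGeometry Opposite TopologicalSpace
open scoped TensorProduct

noncomputable section

namespace Groth.Agent.FEtCat.PureDescent

theorem appTop_morphismRestrict {P : ∀ {A B : Type u} [CommRing A] [CommRing B], (A →+* B) → Prop}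
    (hP : RingHom.RespectsIso P) {Y X : Scheme.{u}} (π : Y ⟶ X) (U : X.Opens) (h : P (π.app U).hom) :
    P (π ∣_ U).appTop.hom := by
  have key : ∀ V : X.Opens, V = U → P (π.app V).hom := by rintro V rfl; exact h
  rw [morphismRestrict_appTop]
  exact (hP.cancel_right_isIso (π.app _) (Y.presheaf.map _)).mpr (key _ U.ι_image_top)

/-- Finite étale algebras descend along jointly faithfully flat families. -/
theorem finite_etale_of_family {A C : Type u} [CommRing A] [IsNoetherianRing A] [CommRing C] [Algebra A C]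
    {ι : Type u} [Finite ι] (B : ι → Type u) [∀ i, CommRing (B i)] [∀ i, Algebra A (B i)]
    [∀ i, Module.Flat A (B i)] (hsurj : ∀ p : PrimeSpectrum A, ∃ i, p ∈ Set.range (PrimeSpectrum.comap (algebraMap A (B i))))
    (hfin : ∀ i, Module.Finite (B i) (B i ⊗[A] C)) (het : ∀ i, Algebra.Etale (B i) (B i ⊗[A] C)) :
    Module.Finite A C ∧ Algebra.Etale A C := by
  classical
  haveI := Fintype.ofFinite ι
  let P := ∀ i, B i
  haveI : Module.Flat A P := Module.Flat.of_linearEquiv (DFinsupp.linearEquivFunOnFintype (R := A) (M := B)).symm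
  haveI : Module.FaithfullyFlat A P := Module.FaithfullyFlat.of_comap_surjective fun p => by
    obtain ⟨i, q, hq⟩ := hsurj p
    refine ⟨PrimeSpectrum.comap (Pi.evalRingHom B i) q, ?_⟩
    rw [← hq, ← PrimeSpectrum.comap_comp_apply]
    rfl
  have hsub : ∀ (N : Type u) [AddCommGroup N] [Module A N], (∀ i, Subsingleton (B i ⊗[A] N)) → Subsingleton N := by
    intro N _ _ h
    haveI : Subsingleton (P ⊗[A] N) := (TensorProduct.piLeft (R := A) (M := B) (N := N)).subsingleton
    exact Module.FaithfullyFlat.lTensor_reflects_triviality A P N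
  have hfinC : Module.Finite A C := by
    have h : ∀ i, ∃ S : Finset C, Submodule.span (B i) ((fun c => (1 : B i) ⊗ₜ[A] c) '' (S : Set C)) = ⊤ := fun i => by
      obtain ⟨T, hT⟩ := (hfin i).fg_top
      choose k t m hm using fun x : B i ⊗[A] C => TensorProduct.exists_sum_tmul_eq x
      refine ⟨T.biUnion fun x => Finset.image (m x) Finset.univ, top_unique (hT.ge.trans ?_)⟩
      rw [Submodule.span_le]
      intro x hx
      rw [hm x, SetLike.mem_coe]
      refine Submodule.sum_mem _ fun j _ => ?_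
      rw [show t x j ⊗ₜ[A] m x j = t x j • ((1 : B i) ⊗ₜ[A] m x j) by rw [TensorProduct.smul_tmul', smul_eq_mul, mul_one]]
      exact Submodule.smul_mem _ _ (Submodule.subset_span ⟨_, Finset.mem_biUnion.mpr ⟨x, hx, Finset.mem_image.mpr ⟨j, Finset.mem_univ _, rfl⟩⟩, rfl⟩)
    choose S hS using h
    let M : Submodule A C := Submodule.span A (⋃ i, (S i : Set C))
    have hM : M.FG := ⟨Finset.univ.biUnion S, by simp [M]⟩
    suffices M = ⊤ by exact ⟨this ▸ hM⟩
    have := hsub (C ⧸ M) fun i => by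
      refine subsingleton_of_forall_eq 0 fun y => ?_
      obtain ⟨y, rfl⟩ := LinearMap.lTensor_surjective (B i) (Submodule.mkQ_surjective M) y
      have hy : y ∈ Submodule.span (B i) ((fun c => (1 : B i) ⊗ₜ[A] c) '' (S i : Set C)) := (hS i).ge trivial
      show TensorProduct.AlgebraTensorModule.lTensor (B i) (B i) M.mkQ y = 0
      refine (Submodule.span_le (p := LinearMap.ker _)).mpr ?_ hy
      rintro _ ⟨c, hc, rfl⟩
      simp [(Submodule.Quotient.mk_eq_zero M).mpr (Submodule.subset_span (Set.mem_iUnion_of_mem i hc))]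
    exact Submodule.Quotient.subsingleton_iff.mp this
  refine ⟨hfinC, ?_⟩
  haveI := hfinC
  haveI : Algebra.FormallyUnramified A C := ⟨hsub _ fun i => by
    haveI := het i
    let _ : Algebra C (B i ⊗[A] C) := Algebra.TensorProduct.rightAlgebra
    exact (KaehlerDifferential.tensorKaehlerEquivBase A (B i) C (B i ⊗[A] C)).subsingleton⟩
  haveI : Module.Flat A C := by
    haveI : ∀ i, Module.Flat A (B i ⊗[A] C) := fun i => by
      haveI := het i
      exact Module.Flat.trans A (B i) (B i ⊗[A] C)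
    haveI : Module.Flat A (P ⊗[A] C) :=
      Module.Flat.of_linearEquiv ((TensorProduct.piLeft (R := A) (M := B) (N := C)).trans
        (DFinsupp.linearEquivFunOnFintype (R := A) (M := fun i => B i ⊗[A] C)).symm)
    refine Module.Flat.iff_lTensor_preserves_injective_linearMap.mpr fun N N' _ _ _ _ g hg => ?_
    rw [← Module.FaithfullyFlat.lTensor_injective_iff_injective A P]
    have h := Module.Flat.lTensor_preserves_injective_linearMap (M := P ⊗[A] C) g hg
    rw [LinearMap.lTensor_tensor] at h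
    simpa using h
  haveI : Algebra.FinitePresentation A C :=
    (Algebra.FinitePresentation.of_finiteType (R := A) (A := C)).mp inferInstance
  exact Algebra.Etale.of_formallyUnramified_of_flat

theorem isIso_middle {C : Type*} [Category C] {a b c d : C} {f : a ⟶ b} {g : b ⟶ c} {h : c ⟶ d}
    [IsIso f] [IsIso h] (hi : IsIso (f ≫ g ≫ h)) : IsIso g :=
  haveI : IsIso (g ≫ h) := IsIso.of_isIso_comp_left f (g ≫ h)
  IsIso.of_isIso_comp_right g h

theorem isIso_map_of_eq {X : Scheme.{u}} {a b a' b' : X.Opens} (h : a ≤ b) (h' : a' ≤ b') (ea : a = a')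
    (eb : b = b') (hi : IsIso (X.presheaf.map (homOfLE h).op)) : IsIso (X.presheaf.map (homOfLE h').op) := by
  subst ea eb
  exact hi

variable {X : Scheme.{u}} [IsLocallyNoetherian X] (U : X.Opens)

set_option maxHeartbeats 1000000 in
/-- A cover extends when it extends after a jointly surjective flat family of base changes. -/
theorem essSurj
    (hU : ∀ x : X, x ∉ U → (2 : ℕ∞) ≤ LocCoh.depth (X.presheaf.stalk x) (X.presheaf.stalk x))
    (hloc : ∀ W : X.Opens, IsAffineOpen W → ∃ (ι : Type u) (_ : Finite ι) (T : ι → Scheme.{u})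
      (g : ∀ i, T i ⟶ X), (∀ i, IsAffine (T i)) ∧ (∀ i, Flat (g i)) ∧ (∀ i, Set.range (g i) ⊆ W) ∧
      (W : Set X) ⊆ ⋃ i, Set.range (g i) ∧ ∀ i, (FEt.restrict (g i ⁻¹ᵁ U).ι).EssSurj) :
    (FEt.restrict U.ι).EssSurj := by
  refine ⟨fun Z₀ => ?_⟩
  suffices key : ∀ {Z : Scheme.{u}} (z : Z ⟶ (U : Scheme.{u})) [IsFinite z] [Etale z],
      ∃ Y : FEt.Cat X, Nonempty ((FEt.restrict U.ι).obj Y ≅ Basic.mk z) from
    @key Z₀.left Z₀.hom Z₀.prop.1 Z₀.prop.2
  intro Z z _ _
  haveI : QuasiCompact U.ι := inferInstance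
  let ζ : Z ⟶ X := z ≫ U.ι
  let π := ζ.fromNormalization
  let τ := ζ.toNormalization
  -- global functions over an affine open
  have hfe : ∀ W : X.Opens, IsAffineOpen W → (ζ.app W).hom.Finite ∧ (ζ.app W).hom.Etale := by
    intro W hW
    obtain ⟨ι, _, T, g, hT, hg, hgW, hcov, hess⟩ := hloc W hW
    letI : Algebra Γ(X, W) Γ(Z, ζ ⁻¹ᵁ W) := (ζ.app W).hom.toAlgebra
    have hle : ∀ i, (⊤ : (T i).Opens) ≤ g i ⁻¹ᵁ W := fun i t _ => hgW i ⟨t, rfl⟩
    letI : ∀ i, Algebra Γ(X, W) Γ(T i, ⊤) := fun i => ((g i).appLE W ⊤ (hle i)).hom.toAlgebra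
    haveI : IsNoetherianRing Γ(X, W) := IsLocallyNoetherian.component_noetherian ⟨W, hW⟩
    haveI : ∀ i, Module.Flat Γ(X, W) Γ(T i, ⊤) := fun i =>
      haveI := hg i
      haveI := hT i
      (g i).flat_appLE hW (isAffineOpen_top _) (hle i)
    have hres : Function.Bijective (X.presheaf.map (homOfLE (inf_le_left : W ⊓ U ≤ W)).op) := by
      haveI : IsAffine (W : Scheme.{u}) := hW
      have hb := HartogsAffine.bijective_res (W.ι ⁻¹ᵁ U) fun y hy => by
        refine le_trans (hU (W.ι y) hy) (le_of_eq ?_)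
        exact HartogsAffine.depth_congr_ringEquiv (W.stalkIso y).commRingCatIsoToRingEquiv
      have hiso1 : IsIso ((W : Scheme.{u}).presheaf.map (homOfLE (le_top : W.ι ⁻¹ᵁ U ≤ ⊤)).op) :=
        (ConcreteCategory.isIso_iff_bijective _).mpr hb
      refine (ConcreteCategory.isIso_iff_bijective _).mp ?_
      exact isIso_map_of_eq (show W.ι ''ᵁ (W.ι ⁻¹ᵁ U) ≤ W.ι ''ᵁ ⊤ from Scheme.Hom.image_mono _ le_top) inf_le_left
        (show W.ι ''ᵁ (W.ι ⁻¹ᵁ U) = W ⊓ U by
          rw [Scheme.Hom.image_preimage_eq_opensRange_inf, Scheme.Opens.opensRange_ι])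
        W.ι_image_top hiso1
    have hpieces : ∀ i, Module.Finite Γ(T i, ⊤) (Γ(T i, ⊤) ⊗[Γ(X, W)] Γ(Z, ζ ⁻¹ᵁ W)) ∧
        Algebra.Etale Γ(T i, ⊤) (Γ(T i, ⊤) ⊗[Γ(X, W)] Γ(Z, ζ ⁻¹ᵁ W)) := by
      intro i
      haveI := hT i
      haveI := hg i
      haveI := hess i
      let UT := g i ⁻¹ᵁ U
      let ρ : (UT : Scheme.{u}) ⟶ (U : Scheme.{u}) := g i ∣_ U
      have sq : IsPullback ρ UT.ι U.ι (g i) := isPullback_morphismRestrict (g i) U
      have H : IsPullback (pullback.fst z ρ) (pullback.snd z ρ ≫ UT.ι) ζ (g i) :=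
        (IsPullback.of_hasPullback z ρ).paste_vert sq
      let ζT := pullback.snd z ρ ≫ UT.ι
      let Zi := (FEt.restrict ρ).obj (Basic.mk z)
      obtain ⟨Y', ⟨e⟩⟩ : ∃ Y', Nonempty ((FEt.restrict UT.ι).obj Y' ≅ Zi) :=
        ⟨_, ⟨Functor.objObjPreimageIso _ _⟩⟩
      haveI : IsAffine Y'.left := isAffine_of_isAffineHom (Y := T i) Y'.hom
      haveI : IsAffine ((𝟭 Scheme).obj Y'.left) := inferInstanceAs (IsAffine Y'.left)
      -- Hartogs on the flat cover
      have hY : Function.Bijective (pullback.fst Y'.hom UT.ι).appTop := by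
        have H2 : IsPullback (pullback.snd Y'.hom UT.ι ≫ ρ) (pullback.fst Y'.hom UT.ι) U.ι (Y'.hom ≫ g i) :=
          (IsPullback.of_hasPullback Y'.hom UT.ι).flip.paste_horiz sq
        haveI : Flat (Y'.hom ≫ g i) := inferInstance
        have hcU : IsCompact (X := (U : Scheme.{u})) (U.ι ⁻¹ᵁ W) := U.ι.isCompact_preimage hW.isCompact
        have hqU : IsQuasiSeparated (α := (U : Scheme.{u})) (U.ι ⁻¹ᵁ W) :=
          U.ι.isQuasiSeparated_preimage hW.isQuasiSeparated
        have hp := (isIso_pushoutSection_iff H2 (US := W) (UT := ⊤) (UX := U.ι ⁻¹ᵁ W) (UY := ⊤)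
          (fun y _ => hgW i ⟨Y'.hom y, rfl⟩) le_rfl (by
            refine le_antisymm (le_inf (fun y _ => ?_) le_top) le_top
            show (pullback.snd Y'.hom UT.ι ≫ ρ) y ∈ U.ι ⁻¹ᵁ W
            show U.ι ((pullback.snd Y'.hom UT.ι ≫ ρ) y) ∈ W
            rw [← Scheme.Hom.comp_apply, H2.w]
            exact hgW i ⟨_, rfl⟩)).1
          (isIso_pushoutSection_of_isQuasiSeparated_of_flat_right H2 _ le_rfl _ hW (isAffineOpen_top _) hcU hqU)
        haveI : IsIso (U.ι.appLE W (U.ι ⁻¹ᵁ W) le_rfl) := by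
          rw [← Scheme.Hom.app_eq_appLE, Scheme.Opens.ι_app]
          refine (ConcreteCategory.isIso_iff_bijective _).mpr ?_
          exact (ConcreteCategory.isIso_iff_bijective _).mp (isIso_map_of_eq (inf_le_left : W ⊓ U ≤ W)
            (U.ι.image_preimage_le W) (show W ⊓ U = U.ι ''ᵁ (U.ι ⁻¹ᵁ W) by
              rw [Scheme.Hom.image_preimage_eq_opensRange_inf, Scheme.Opens.opensRange_ι, inf_comm]) rfl
            ((ConcreteCategory.isIso_iff_bijective _).mpr hres))
        have := hp.isIso_inr_of_isIso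
        refine (ConcreteCategory.isIso_iff_bijective _).mp ?_
        rw [Scheme.Hom.appTop, Scheme.Hom.app_eq_appLE]
        exact this
      -- transport
      let q : pullback z ρ ⟶ Y'.left := e.inv.left ≫ pullback.fst Y'.hom UT.ι
      haveI : IsIso e.inv.left := Basic.isIso_left e.inv
      have hq : ζT = q ≫ Y'.hom := by
        show pullback.snd z ρ ≫ UT.ι = _
        refine Eq.trans ?_ (Category.assoc _ _ _).symm
        refine Eq.trans ?_ (congrArg (e.inv.left ≫ ·) pullback.condition.symm)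
        refine Eq.trans ?_ (Category.assoc _ _ _)
        exact congrArg (· ≫ UT.ι) (MorphismProperty.Over.w e.inv).symm
      have hqb : Function.Bijective q.appTop := by
        rw [Scheme.Hom.comp_appTop, ConcreteCategory.coe_comp]
        haveI : IsIso (Scheme.Hom.appTop e.inv.left) := Functor.map_isIso Scheme.Γ e.inv.left.op
        exact (ConcreteCategory.bijective_of_isIso (Scheme.Hom.appTop e.inv.left)).comp hY
      have eT : ζT.appLE ⊤ ⊤ le_top = ζT.appTop := by
        rw [Scheme.Hom.appTop, Scheme.Hom.app_eq_appLE]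
        rfl
      have hfT : (ζT.appLE ⊤ ⊤ le_top).hom.Finite ∧ (ζT.appLE ⊤ ⊤ le_top).hom.Etale := by
        rw [eT, hq, Scheme.Hom.comp_appTop, CommRingCat.hom_comp]
        haveI : IsIso q.appTop := (ConcreteCategory.isIso_iff_bijective _).mpr hqb
        exact ⟨(RingHom.Finite.of_surjective _ hqb.2).comp
            (@Scheme.Hom.finite_appTop Y'.left (T i) Y'.hom _ Y'.prop.1),
          (RingHom.Etale.respectsIso.cancel_right_isIso Y'.hom.appTop q.appTop).mpr
            (HasRingHomProperty.appTop @Etale (X := Y'.left) (Y := T i) Y'.hom Y'.prop.2)⟩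
      have hc : IsCompact (X := Z) (ζ ⁻¹ᵁ W) := ζ.isCompact_preimage hW.isCompact
      have hqs : IsQuasiSeparated (α := Z) (ζ ⁻¹ᵁ W) := ζ.isQuasiSeparated_preimage hW.isQuasiSeparated
      have eY : (⊤ : (pullback z ρ).Opens) ≤ pullback.fst z ρ ⁻¹ᵁ (ζ ⁻¹ᵁ W) := fun y _ => by
        show ζ (pullback.fst z ρ y) ∈ W
        rw [← Scheme.Hom.comp_apply, H.w]
        exact hgW i ⟨_, rfl⟩
      have hp := (isIso_pushoutSection_iff H (US := W) (UT := ⊤) (UX := ζ ⁻¹ᵁ W) (UY := ⊤) (hle i) le_rfl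
        (le_antisymm (le_inf eY le_top) le_top)).1
        (isIso_pushoutSection_of_isQuasiSeparated_of_flat_right H (hle i) le_rfl
          (le_antisymm (le_inf eY le_top) le_top) hW (isAffineOpen_top _) hc hqs)
      letI : Algebra Γ(T i, ⊤) Γ(pullback z ρ, ⊤) := (ζT.appLE ⊤ ⊤ le_top).hom.toAlgebra
      letI : Algebra Γ(Z, ζ ⁻¹ᵁ W) Γ(pullback z ρ, ⊤) :=
        ((pullback.fst z ρ).appLE (ζ ⁻¹ᵁ W) ⊤ eY).hom.toAlgebra
      letI : Algebra Γ(X, W) Γ(pullback z ρ, ⊤) := ((ζT.appLE ⊤ ⊤ le_top).hom.comp ((g i).appLE W ⊤ (hle i)).hom).toAlgebra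
      haveI : IsScalarTower Γ(X, W) Γ(T i, ⊤) Γ(pullback z ρ, ⊤) := .of_algebraMap_eq fun x => rfl
      haveI : IsScalarTower Γ(X, W) Γ(Z, ζ ⁻¹ᵁ W) Γ(pullback z ρ, ⊤) := .of_algebraMap_eq fun x => by
        have h := congr($(hp.w).hom x)
        simp only [CommRingCat.hom_comp, RingHom.comp_apply, ← Scheme.Hom.app_eq_appLE] at h
        exact h.symm
      haveI : Algebra.IsPushout Γ(X, W) Γ(Z, ζ ⁻¹ᵁ W) Γ(T i, ⊤) Γ(pullback z ρ, ⊤) :=
        CommRingCat.isPushout_iff_isPushout.mp (by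
          simp only [← Scheme.Hom.app_eq_appLE] at hp
          exact hp)
      haveI : Algebra.IsPushout Γ(X, W) Γ(T i, ⊤) Γ(Z, ζ ⁻¹ᵁ W) Γ(pullback z ρ, ⊤) :=
        Algebra.IsPushout.symm inferInstance
      let ε := Algebra.IsPushout.equiv Γ(X, W) Γ(T i, ⊤) Γ(Z, ζ ⁻¹ᵁ W) Γ(pullback z ρ, ⊤)
      haveI : Module.Finite Γ(T i, ⊤) Γ(pullback z ρ, ⊤) := hfT.1
      haveI : Algebra.Etale Γ(T i, ⊤) Γ(pullback z ρ, ⊤) := hfT.2
      exact ⟨Module.Finite.equiv ε.symm.toLinearEquiv, Algebra.Etale.of_equiv ε.symm⟩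
    have hsurj : ∀ p : PrimeSpectrum Γ(X, W), ∃ i,
        p ∈ Set.range (PrimeSpectrum.comap (algebraMap Γ(X, W) Γ(T i, ⊤))) := by
      intro p
      obtain ⟨i, t, ht⟩ := Set.mem_iUnion.mp (hcov (hW.range_fromSpec.le ⟨p, rfl⟩))
      haveI := hT i
      refine ⟨i, (isAffineOpen_top (T i)).primeIdealOf ⟨t, trivial⟩, hW.fromSpec.isOpenEmbedding.injective ?_⟩
      show (Spec.map ((g i).appLE W ⊤ (hle i)) ≫ hW.fromSpec) _ = _
      rw [IsAffineOpen.SpecMap_appLE_fromSpec (g i) hW (isAffineOpen_top _) (hle i), Scheme.Hom.comp_apply,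
        IsAffineOpen.fromSpec_primeIdealOf]
      exact ht
    obtain ⟨h1, h2⟩ := finite_etale_of_family (fun i => Γ(T i, ⊤)) hsurj (fun i => (hpieces i).1)
      (fun i => (hpieces i).2)
    exact ⟨RingHom.finite_algebraMap.mpr h1, RingHom.etale_algebraMap.mpr h2⟩
  -- sections of the normalization
  have hiso : ∀ (W : X.Opens) (_ : IsAffineOpen W) (eW : ζ ⁻¹ᵁ W ≤ τ ⁻¹ᵁ (π ⁻¹ᵁ W)),
      IsIso (τ.appLE (π ⁻¹ᵁ W) (ζ ⁻¹ᵁ W) eW) := by
    intro W hW eW
    letI := (ζ.app W).hom.toAlgebra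
    rw [← ζ.normalizationObjIso_hom_val hW, ConcreteCategory.isIso_iff_bijective]
    have htop : integralClosure Γ(X, W) Γ(Z, ζ ⁻¹ᵁ W) = ⊤ :=
      integralClosure_eq_top_iff.2 (algebraMap_isIntegral_iff.1 (hfe W hW).1.to_isIntegral)
    have hval : Function.Bijective (integralClosure Γ(X, W) Γ(Z, ζ ⁻¹ᵁ W)).val.toRingHom :=
      ⟨Subtype.val_injective, fun x => ⟨⟨x, htop.ge trivial⟩, rfl⟩⟩
    exact hval.comp (ConcreteCategory.bijective_of_isIso (ζ.normalizationObjIso hW).hom)
  have heq : ∀ W : X.Opens, ζ ⁻¹ᵁ W ≤ τ ⁻¹ᵁ (π ⁻¹ᵁ W) := fun W => by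
    simp [τ, π, ← Scheme.Hom.comp_preimage]
  have hloc' : ∀ x : X, ∃ W : X.Opens, x ∈ W ∧ IsFinite (π ∣_ W) ∧ Etale (π ∣_ W) := by
    intro x
    obtain ⟨_, ⟨(W : X.Opens), hW, rfl⟩, hxW, -⟩ :=
      X.isBasis_affineOpens.exists_subset_of_mem_open (Set.mem_univ x) isOpen_univ
    haveI : IsAffine (W : Scheme.{u}) := hW
    haveI : IsAffine (π ⁻¹ᵁ W).toScheme := hW.preimage _
    haveI := hiso W hW (heq W)
    have eW : ζ.app W = π.app W ≫ τ.appLE _ _ (heq W) := by
      rw [ζ.app_eq_appLE, π.app_eq_appLE, Scheme.Hom.appLE_comp_appLE]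
      simp only [π, τ, Scheme.Hom.toNormalization_fromNormalization]
    obtain ⟨h1, h2⟩ := hfe W hW
    rw [eW, CommRingCat.hom_comp] at h1 h2
    replace h1 := (RingHom.finite_respectsIso.cancel_right_isIso _ _).mp h1
    replace h2 := (RingHom.Etale.respectsIso.cancel_right_isIso _ _).mp h2
    refine ⟨W, hxW, ?_, ?_⟩
    · rw [HasAffineProperty.iff_of_isAffine (P := @IsFinite)]
      refine ⟨inferInstance, ?_⟩
      exact appTop_morphismRestrict RingHom.finite_respectsIso _ W h1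
    · rw [HasRingHomProperty.iff_of_isAffine (P := @Etale)]
      exact appTop_morphismRestrict RingHom.Etale.respectsIso _ W h2
  haveI : IsFinite π := IsZariskiLocalAtTarget.of_forall_exists_morphismRestrict (P := @IsFinite) fun x =>
    let ⟨W, hx, h, _⟩ := hloc' x; ⟨W, hx, h⟩
  haveI : Etale π := IsZariskiLocalAtTarget.of_forall_exists_morphismRestrict (P := @Etale) fun x =>
    let ⟨W, hx, _, h⟩ := hloc' x; ⟨W, hx, h⟩
  -- the comparison
  let k : Z ⟶ pullback π U.ι := pullback.lift τ z ζ.toNormalization_fromNormalization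
  haveI : IsFinite k := by
    have : IsFinite (k ≫ pullback.snd π U.ι) := by rw [pullback.lift_snd]; infer_instance
    exact IsFinite.of_comp k (pullback.snd π U.ι)
  haveI : IsIso k := by
    refine IsZariskiLocalAtTarget.of_forall_exists_morphismRestrict (P := .isomorphisms _) fun y => ?_
    let u := pullback.snd π U.ι y
    obtain ⟨_, ⟨(W : X.Opens), hW, rfl⟩, huW, hWU⟩ :=
      X.isBasis_affineOpens.exists_subset_of_mem_open (show U.ι u ∈ (U : Set X) from u.2) U.2
    let V0 := pullback.snd π U.ι ⁻¹ᵁ (U.ι ⁻¹ᵁ W)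
    have hV0 : IsAffineOpen V0 := (hW.preimage_of_isOpenImmersion U.ι (by
      rw [Scheme.Opens.opensRange_ι]; exact hWU)).preimage _
    refine ⟨V0, huW, (isIso_morphismRestrict_iff_isIso_app _ hV0).mpr ?_⟩
    haveI := hiso W hW (heq W)
    have hfst : pullback.fst π U.ι ⁻¹ᵁ (π ⁻¹ᵁ W) = V0 := by
      rw [← Scheme.Hom.comp_preimage, pullback.condition, Scheme.Hom.comp_preimage]
    haveI : IsIso ((pullback.fst π U.ι).app (π ⁻¹ᵁ W)) := by
      refine Scheme.Hom.isIso_app _ _ fun y hy => ?_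
      show y ∈ Set.range (pullback.fst π U.ι)
      rw [Scheme.Pullback.range_fst, Scheme.Opens.range_ι]
      exact hWU hy
    have hτ : τ.app (π ⁻¹ᵁ W) = (pullback.fst π U.ι).app (π ⁻¹ᵁ W) ≫ k.app _ ≫
        Z.presheaf.map (eqToHom ((congrArg (fun m : Z ⟶ ζ.normalization => m ⁻¹ᵁ (π ⁻¹ᵁ W))
          (pullback.lift_fst τ z ζ.toNormalization_fromNormalization)).symm.trans
          (Scheme.Hom.comp_preimage _ _ _))).op := by
      rw [Scheme.Hom.congr_app (pullback.lift_fst τ z ζ.toNormalization_fromNormalization).symm (π ⁻¹ᵁ W),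
        Scheme.Hom.comp_app]
      exact Category.assoc _ _ _
    have hτiso : IsIso (τ.app (π ⁻¹ᵁ W)) := by
      rw [τ.app_eq_appLE]
      have : τ ⁻¹ᵁ (π ⁻¹ᵁ W) = ζ ⁻¹ᵁ W := by simp [τ, π, ← Scheme.Hom.comp_preimage]
      have key : ∀ (O : Z.Opens) (h : O ≤ τ ⁻¹ᵁ (π ⁻¹ᵁ W)), O = ζ ⁻¹ᵁ W →
          IsIso (τ.appLE (π ⁻¹ᵁ W) O h) := by
        rintro O h rfl
        exact hiso W hW h
      exact key _ le_rfl this
    rw [hτ] at hτiso
    exact hfst ▸ isIso_middle hτiso
  let φ := Basic.homMk (Y := Basic.mk z) (Z := (FEt.restrict U.ι).obj (Basic.mk π)) k (pullback.lift_snd _ _ _)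
  haveI : IsIso φ.left := inferInstanceAs (IsIso k)
  haveI := Basic.isIso_of_left φ
  exact ⟨Basic.mk π, ⟨(asIso φ).symm⟩⟩

end Groth.Agent.FEtCat.PureDescent
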