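import Groth.Agent.LefPic.Punctured
import Groth.Agent.ParaFormal.FlatGr
import Groth.Agent.S0239
import Groth.Agent.S0263
import Groth.Agent.RegLoc.AdicNoeth
import Mathlib.AlgebraicGeometry.QuasiAffine
import Mathlib.AlgebraicGeometry.Morphisms.Flat
import Mathlib.RingTheory.Etale.Descent
import Mathlib.RingTheory.Finiteness.Descent
import Mathlib.RingTheory.AdicCompletion.AsTensorProduct

/-!
# Purity passes from a quotient with free associated graded ring

`purityHolds_of_grData`: if `J` has free graded pieces, `A/J` has depth at least three and is pure, then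
so is `A`. For complete `A` the Lefschetz theorem makes restriction to the punctured spectrum of `A/J`
fully faithful; in general one descends along the completion.
-/

set_option autoImplicit false
set_option linter.style.haveILetI false
set_option backward.isDefEq.respectTransparency.types false

universe u

open CategoryTheory CategoryTheory.Limits AlgebraicGeometry Opposite TopologicalSpace
open scoped TensorProduct

noncomputable section

namespace Groth.Agent.FEtCat.PurityQuot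

open Groth.Agent.ParaFormal

variable {A : Type u} [CommRing A]

/-- Independent representatives of the graded pieces form bases. -/
theorem free_of_grData (J : Ideal A) (G : GrData J) (hG : G.Indep ⊥) (n : ℕ) :
    Module.Free (A ⧸ J) (↥(J ^ n) ⧸ (J • (⊤ : Submodule A ↥(J ^ n)))) := by
  classical
  have hmem : ∀ z : ↥(J ^ n), z ∈ J • (⊤ : Submodule A ↥(J ^ n)) ↔ (z : A) ∈ J ^ (n + 1) := by
    intro z
    have hmap : Submodule.map (Submodule.subtype (J ^ n)) (J • (⊤ : Submodule A ↥(J ^ n))) = J ^ (n + 1) := by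
      rw [Submodule.map_smul'', Submodule.map_top, Submodule.range_subtype, smul_eq_mul, pow_succ']
    rw [← hmap]
    exact ⟨fun hz => ⟨z, hz, rfl⟩, fun ⟨w, hw, e⟩ => by rwa [← Subtype.ext e]⟩
  let v : Fin (G.r n) → ↥(J ^ n) ⧸ (J • (⊤ : Submodule A ↥(J ^ n))) :=
    fun i => Submodule.Quotient.mk ⟨G.b n i, G.mem n i⟩
  have hsum : ∀ t : Fin (G.r n) → A, ∑ i, Ideal.Quotient.mk J (t i) • v i =
      Submodule.Quotient.mk (∑ i, t i • (⟨G.b n i, G.mem n i⟩ : ↥(J ^ n))) := fun t => by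
    rw [← Submodule.mkQ_apply, map_sum]
    refine Finset.sum_congr rfl fun i _ => ?_
    rw [map_smul]
    exact algebraMap_smul (A ⧸ J) (t i) _
  refine Module.Free.of_basis (Module.Basis.mk (v := v) ?_ ?_)
  · refine Fintype.linearIndependent_iff.mpr fun c hc i => ?_
    choose t ht using fun j => Ideal.Quotient.mk_surjective (c j)
    rw [Finset.sum_congr rfl fun j _ => by rw [← ht j], hsum, Submodule.Quotient.mk_eq_zero, hmem] at hc
    simp only [AddSubmonoidClass.coe_finset_sum, SetLike.val_smul, smul_eq_mul] at hc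
    have h := hG n t (by rw [bot_sup_eq]; simpa [mul_comm] using hc) i
    rw [bot_sup_eq] at h
    rw [← ht i]
    exact Ideal.Quotient.eq_zero_iff_mem.mpr h
  · rintro q -
    obtain ⟨⟨z, hz⟩, rfl⟩ := Submodule.Quotient.mk_surjective _ q
    obtain ⟨p, hp, w, hw, rfl⟩ := Submodule.mem_sup.mp (G.span n hz)
    obtain ⟨t, ht⟩ := Ideal.mem_span_range_iff_exists_fun.mp hp
    rw [Submodule.mem_span_range_iff_exists_fun]
    refine ⟨fun i => Ideal.Quotient.mk J (t i), ?_⟩
    rw [hsum, Submodule.Quotient.eq, hmem]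
    simp only [AddSubgroupClass.coe_sub, AddSubmonoidClass.coe_finset_sum, SetLike.val_smul, smul_eq_mul]
    rw [ht, sub_add_cancel_left]
    exact (J ^ (n + 1)).neg_mem hw

theorem exists_restrictId {X : Scheme.{u}} (Z : FEt.Cat X) :
    Nonempty ((FEt.restrict (𝟙 X)).obj Z ≅ Z) := by
  let φ : (FEt.restrict (𝟙 X)).obj Z ⟶ Z := Basic.homMk (pullback.fst Z.hom (𝟙 X))
    (pullback.condition.trans (Category.comp_id _))
  haveI : IsIso φ.left := inferInstanceAs (IsIso (pullback.fst Z.hom (𝟙 X)))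
  haveI := Basic.isIso_of_left φ
  exact ⟨asIso φ⟩

/-- Restriction along the identity. -/
def restrictIdIso {X : Scheme.{u}} (Z : FEt.Cat X) : (FEt.restrict (𝟙 X)).obj Z ≅ Z :=
  (exists_restrictId Z).some

variable [IsLocalRing A] [IsNoetherianRing A]

/-- The complete case. -/
theorem purityHolds_complete (J : Ideal A) (hJ : J ≠ ⊤) {B : Type u} [CommRing B] [IsLocalRing B]
    [IsNoetherianRing B] (π : A →+* B) (hπ : Function.Surjective π) (hker : RingHom.ker π = J)
    (hd : (3 : ℕ∞) ≤ LocCoh.depth B B) (G : GrData J) (hG : G.Indep ⊥) [IsAdicComplete J A]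
    (h0 : FEt.PurityHolds B) : FEt.PurityHolds A := by
  subst hker
  let J := RingHom.ker π
  let q : A ⧸ J ≃+* B := RingHom.quotientKerEquivOfSurjective hπ
  haveI : Nontrivial (A ⧸ J) := Ideal.Quotient.nontrivial_iff.mpr hJ
  haveI : IsLocalRing (A ⧸ J) := IsLocalRing.of_surjective' _ Ideal.Quotient.mk_surjective
  have hd' : (3 : ℕ∞) ≤ LocCoh.depth (A ⧸ J) (A ⧸ J) := by
    rw [← HartogsAffine.depth_congr_ringEquiv q]; exact hd
  obtain ⟨-, hlef⟩ := LefPic.Punctured.lef_structureModule J hJ hd' (free_of_grData J G hG)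
  let U := FEt.puncturedSpec A
  haveI : CompactSpace (U : Scheme.{u}) :=
    isCompact_iff_compactSpace.1 (TopologicalSpace.NoetherianSpace.isCompact (α := PrimeSpectrum A) _)
  haveI : Scheme.IsQuasiAffine (U : Scheme.{u}) := Scheme.IsQuasiAffine.of_isImmersion U.ι
  let s : Spec (CommRingCat.of B) ⟶ Spec (CommRingCat.of A) := Spec.map (CommRingCat.ofHom π)
  haveI : IsClosedImmersion s := IsClosedImmersion.spec_of_surjective _ hπ
  let s₀ := Spec.map (CommRingCat.ofHom (Ideal.Quotient.mk J))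
  let 𝓙 := s₀.ker.comap U.ι
  let j := 𝓙.subschemeι
  obtain ⟨hfull, hfaith⟩ := Lef.full_faithful 𝓙 fun Z => by
    exact Lef.QuasiAffine.homToFormalBijective_push (X := (U : Scheme.{u})) Z.hom _ hlef
  refine ⟨fun Z => ?_⟩
  -- the closed subscheme is the punctured spectrum of `B`
  let UB := FEt.puncturedSpec B
  have hpre : s ⁻¹ᵁ U = UB := preimage_punctured π hπ
  have hs : s₀.ker = s.ker := by
    have e : CommRingCat.ofHom π = CommRingCat.ofHom (Ideal.Quotient.mk J) ≫ q.toCommRingCatIso.hom := by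
      ext a; rfl
    show _ = (Spec.map (CommRingCat.ofHom π)).ker
    rw [e, Spec.map_comp, Scheme.Hom.ker_comp_of_isIso]
  let b : (UB : Scheme.{u}) ⟶ (U : Scheme.{u}) := IsOpenImmersion.lift U.ι (UB.ι ≫ s) (by
    rintro _ ⟨z, rfl⟩
    rw [Scheme.Opens.range_ι]
    have hz : UB.ι z ∈ s ⁻¹ᵁ U := hpre.ge z.2
    exact hz)
  have hb : b ≫ U.ι = UB.ι ≫ s := IsOpenImmersion.lift_fac _ _ _
  let c : 𝓙.subscheme ⟶ Spec (CommRingCat.of B) :=
    IsClosedImmersion.lift s (j ≫ U.ι) (by
      rw [← hs, Scheme.Hom.ker_comp, Scheme.IdealSheafData.le_map_iff_comap_le,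
        Scheme.IdealSheafData.ker_subschemeι])
  have hc : c ≫ s = j ≫ U.ι := IsClosedImmersion.lift_fac _ _ _
  let a : 𝓙.subscheme ⟶ (UB : Scheme.{u}) := IsOpenImmersion.lift UB.ι c (by
    rintro _ ⟨z, rfl⟩
    rw [Scheme.Opens.range_ι]
    refine hpre.le ?_
    show s (c z) ∈ U
    rw [← Scheme.Hom.comp_apply, hc]
    exact (j z).2)
  have ha : a ≫ UB.ι = c := IsOpenImmersion.lift_fac _ _ _
  have hab : a ≫ b = j := by
    rw [← cancel_mono U.ι, Category.assoc, hb, ← Category.assoc, ha, hc]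
  -- the inverse
  have hbker : 𝓙 ≤ b.ker := by
    show s₀.ker.comap U.ι ≤ b.ker
    rw [← Scheme.IdealSheafData.le_map_iff_comap_le, ← Scheme.Hom.ker_comp, hb, hs]
    exact Scheme.Hom.le_ker_comp _ _
  let a' : (UB : Scheme.{u}) ⟶ 𝓙.subscheme := IsClosedImmersion.lift j b (by
    rw [Scheme.IdealSheafData.ker_subschemeι]; exact hbker)
  have ha' : a' ≫ j = b := IsClosedImmersion.lift_fac _ _ _
  have hinv : a ≫ a' = 𝟙 _ := by
    rw [← cancel_mono j, Category.assoc, ha', hab, Category.id_comp]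
  -- restrict, extend, lift
  haveI : (FEt.restrict UB.ι).EssSurj := h0
  obtain ⟨Y₀, ⟨e₀⟩⟩ : ∃ Y₀, Nonempty ((FEt.restrict UB.ι).obj Y₀ ≅
      (FEt.restrict a').obj ((FEt.restrict j).obj Z)) := ⟨_, ⟨Functor.objObjPreimageIso _ _⟩⟩
  haveI : HenselianRing A (RingHom.ker π) := inferInstance
  haveI := S0239.result A J
  obtain ⟨Y, ⟨e₁⟩⟩ : ∃ Y, Nonempty ((FEt.restrict s₀).obj Y ≅
      (FEt.restrict (Spec.map q.toCommRingCatIso.inv ≫ 𝟙 _)).obj Y₀) :=
    ⟨_, ⟨Functor.objObjPreimageIso _ _⟩⟩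
  refine ⟨Y, ⟨(FEt.restrict j).preimageIso ?_⟩⟩
  let c₀ : 𝓙.subscheme ⟶ Spec (CommRingCat.of (A ⧸ J)) := c ≫ Spec.map q.toCommRingCatIso.hom
  have hc₀ : c₀ ≫ s₀ = j ≫ U.ι := by
    rw [Category.assoc, ← Spec.map_comp]
    exact hc
  refine (MorphismProperty.Over.pullbackComp j U.ι _ rfl).symm.app Y ≪≫
    (MorphismProperty.Over.pullbackCongr hc₀.symm).app Y ≪≫
    (MorphismProperty.Over.pullbackComp c₀ s₀ _ rfl).app Y ≪≫ (FEt.restrict c₀).mapIso e₁ ≪≫
    (MorphismProperty.Over.pullbackComp c₀ (Spec.map q.toCommRingCatIso.inv ≫ 𝟙 _) _ rfl).symm.app Y₀ ≪≫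
    (MorphismProperty.Over.pullbackCongr ?_).app Y₀ ≪≫
    (MorphismProperty.Over.pullbackComp a UB.ι _ rfl).app Y₀ ≪≫ (FEt.restrict a).mapIso e₀ ≪≫
    (MorphismProperty.Over.pullbackComp a a' _ rfl).symm.app _ ≪≫
    (MorphismProperty.Over.pullbackCongr hinv).app _ ≪≫ restrictIdIso _
  rw [ha]
  simp only [c₀, Category.assoc, Category.comp_id, ← Spec.map_comp, Iso.inv_hom_id, Spec.map_id]

omit [IsLocalRing A] [IsNoetherianRing A] in
theorem isUnit_of_isUnit_map {B : Type u} [CommRing B] (π : A →+* B) (hπ : Function.Surjective π)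
    (h : RingHom.ker π ≤ Ideal.jacobson ⊥) {x : A} (hx : IsUnit (π x)) : IsUnit x := by
  obtain ⟨v, hv⟩ := hx.exists_right_inv
  obtain ⟨w, rfl⟩ := hπ v
  have hm : x * w - 1 ∈ RingHom.ker π := by
    rw [RingHom.mem_ker, map_sub, map_mul, hv, map_one, sub_self]
  have h1 := Ideal.mem_jacobson_bot.mp (h hm) 1
  rw [mul_one, sub_add_cancel] at h1
  exact isUnit_of_mul_isUnit_left h1

/-- The preimage of the punctured spectrum under a local homomorphism whose closed fibre is a point. -/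
theorem preimage_punctured_local {B : Type u} [CommRing B] [IsLocalRing B] (φ : A →+* B) [IsLocalHom φ]
    (h : IsLocalRing.maximalIdeal B ≤ (IsLocalRing.maximalIdeal A).map φ) :
    Spec.map (CommRingCat.ofHom φ) ⁻¹ᵁ FEt.puncturedSpec A = FEt.puncturedSpec B := by
  ext p
  show ¬ (PrimeSpectrum.comap φ p = IsLocalRing.closedPoint A) ↔ ¬ (p = IsLocalRing.closedPoint B)
  refine not_congr ⟨fun hp => PrimeSpectrum.ext ?_, fun hp => hp ▸ IsLocalRing.comap_closedPoint φ⟩
  refine le_antisymm (IsLocalRing.le_maximalIdeal p.isPrime.ne_top) (h.trans ?_)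
  rw [Ideal.map_le_iff_le_comap]
  exact (congrArg PrimeSpectrum.asIdeal hp).ge

omit [IsNoetherianRing A] in
/-- The germ at the closed point of the spectrum of a local ring. -/
theorem bijective_germ_closedPoint : Function.Bijective ((Scheme.ΓSpecIso (CommRingCat.of A)).inv ≫
    (Spec (CommRingCat.of A)).presheaf.germ ⊤ (IsLocalRing.closedPoint A) trivial).hom := by
  let S := (Spec (CommRingCat.of A)).presheaf.stalk (IsLocalRing.closedPoint A)
  letI : Algebra A S := inferInstanceAs (Algebra A ((Spec.structureSheaf A).presheaf.stalk _))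
  have : IsLocalization.AtPrime S (IsLocalRing.maximalIdeal A) :=
    inferInstanceAs (IsLocalization.AtPrime ((Spec.structureSheaf A).presheaf.stalk _) (IsLocalRing.closedPoint A).asIdeal)
  exact (IsLocalization.atUnits A (IsLocalRing.maximalIdeal A).primeCompl (S := S) fun x hx =>
    IsLocalRing.notMem_maximalIdeal.mp hx).bijective

set_option maxHeartbeats 1000000 in
/-- Descent of extensions along a faithfully flat local homomorphism. -/
theorem exists_extension {Ah : Type u} [CommRing Ah] [IsLocalRing Ah] [IsNoetherianRing Ah] [Algebra A Ah]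
    [Module.FaithfullyFlat A Ah] [IsLocalHom (algebraMap A Ah)]
    (hmax : IsLocalRing.maximalIdeal Ah ≤ (IsLocalRing.maximalIdeal A).map (algebraMap A Ah))
    (hA : (2 : ℕ∞) ≤ LocCoh.depth A A) (hAh : (2 : ℕ∞) ≤ LocCoh.depth Ah Ah) (h : FEt.PurityHolds Ah) :
    FEt.PurityHolds A := by
  refine ⟨fun Z₀ => ?_⟩
  suffices key : ∀ {T : Scheme.{u}} (z : T ⟶ (FEt.puncturedSpec A : Scheme.{u})) [IsFinite z] [Etale z],
      ∃ Y : FEt.Cat (Spec (CommRingCat.of A)),
        Nonempty ((FEt.restrict (FEt.puncturedSpec A).ι).obj Y ≅ Basic.mk z) from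
    @key Z₀.left Z₀.hom Z₀.prop.1 Z₀.prop.2
  intro T z _ _
  let U := FEt.puncturedSpec A
  let V := FEt.puncturedSpec Ah
  let σ : Spec (CommRingCat.of Ah) ⟶ Spec (CommRingCat.of A) := Spec.map (CommRingCat.ofHom (algebraMap A Ah))
  haveI : Flat σ := Flat.SpecMap_iff.mpr (RingHom.flat_algebraMap_iff.mpr inferInstance)
  have hpre : σ ⁻¹ᵁ U = V := preimage_punctured_local _ hmax
  let τ : (V : Scheme.{u}) ⟶ (U : Scheme.{u}) := IsOpenImmersion.lift U.ι (V.ι ≫ σ) (by
    rintro _ ⟨z, rfl⟩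
    rw [Scheme.Opens.range_ι]
    have hz : V.ι z ∈ σ ⁻¹ᵁ U := hpre.ge z.2
    exact hz)
  have hτ : τ ≫ U.ι = V.ι ≫ σ := IsOpenImmersion.lift_fac _ _ _
  have sq : IsPullback τ V.ι U.ι σ := (IsOpenImmersion.isPullback _ _ _ _ hτ.symm (by
    rw [Scheme.Opens.opensRange_ι, Scheme.Opens.opensRange_ι, hpre]))
  haveI : CompactSpace (U : Scheme.{u}) :=
    isCompact_iff_compactSpace.1 (TopologicalSpace.NoetherianSpace.isCompact (α := PrimeSpectrum A) _)
  haveI : Scheme.IsQuasiAffine (U : Scheme.{u}) := Scheme.IsQuasiAffine.of_isImmersion U.ι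
  haveI : Scheme.IsQuasiAffine T := Scheme.IsQuasiAffine.of_isAffineHom (Y := (U : Scheme.{u})) z
  haveI : CompactSpace T := QuasiCompact.compactSpace_of_compactSpace (Y := (U : Scheme.{u})) z
  haveI : QuasiSeparatedSpace T := by
    exact quasiSeparatedSpace_of_quasiSeparated (z ≫ U.ι)
  let Zh := (FEt.restrict τ).obj (Basic.mk z)
  haveI : (FEt.restrict V.ι).EssSurj := h
  obtain ⟨hfin, het⟩ := S0263.result Ah hAh Zh ⟨_, ⟨Functor.objObjPreimageIso _ Zh⟩⟩
  -- the functions on `Z`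
  have H : IsPullback (pullback.fst z τ) (pullback.snd z τ ≫ V.ι) (z ≫ U.ι) σ :=
    (IsPullback.of_hasPullback z τ).paste_vert sq
  have hp : IsPushout (z ≫ U.ι).appTop σ.appTop (pullback.fst z τ).appTop
      (pullback.snd z τ ≫ V.ι).appTop := by
    have h := (isIso_pushoutSection_iff H (US := ⊤) (UT := ⊤) (UX := ⊤) (UY := ⊤) le_top le_top (by simp)).1
      (isIso_pushoutSection_of_isQuasiSeparated_of_flat_right H le_top le_top (by simp) (isAffineOpen_top _)
        (isAffineOpen_top _) isCompact_univ isQuasiSeparated_univ)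
    simpa [Scheme.Hom.appTop, Scheme.Hom.app_eq_appLE] using h
  let φ : CommRingCat.of A ⟶ Γ(T, ⊤) := (Scheme.ΓSpecIso (CommRingCat.of A)).inv ≫ (z ≫ U.ι).appTop
  let ψ : CommRingCat.of Ah ⟶ Γ(pullback z τ, ⊤) :=
    (Scheme.ΓSpecIso (CommRingCat.of Ah)).inv ≫ (pullback.snd z τ ≫ V.ι).appTop
  have hp' : IsPushout φ (CommRingCat.ofHom (algebraMap A Ah)) (pullback.fst z τ).appTop ψ := by
    refine hp.of_iso (Scheme.ΓSpecIso _) (Iso.refl _) (Scheme.ΓSpecIso _) (Iso.refl _) ?_ ?_ ?_ ?_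
    · simp [φ]
    · exact Scheme.ΓSpecIso_naturality _
    · simp
    · simp [ψ]
  have hφ : φ.hom.Finite ∧ φ.hom.Etale := by
    letI : Algebra A Γ(T, ⊤) := φ.hom.toAlgebra
    letI : Algebra Ah Γ(pullback z τ, ⊤) := ψ.hom.toAlgebra
    letI : Algebra Γ(T, ⊤) Γ(pullback z τ, ⊤) := (pullback.fst z τ).appTop.hom.toAlgebra
    letI : Algebra A Γ(pullback z τ, ⊤) := ((pullback.fst z τ).appTop.hom.comp φ.hom).toAlgebra
    haveI : IsScalarTower A Γ(T, ⊤) Γ(pullback z τ, ⊤) := .of_algebraMap_eq fun x => rfl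
    haveI : IsScalarTower A Ah Γ(pullback z τ, ⊤) := .of_algebraMap_eq fun x => congr($(hp'.w).hom x)
    haveI : Algebra.IsPushout A Γ(T, ⊤) Ah Γ(pullback z τ, ⊤) :=
      CommRingCat.isPushout_iff_isPushout.mp (by exact hp')
    haveI : Algebra.IsPushout A Ah Γ(T, ⊤) Γ(pullback z τ, ⊤) := Algebra.IsPushout.symm inferInstance
    let e := Algebra.IsPushout.equiv A Ah Γ(T, ⊤) Γ(pullback z τ, ⊤)
    haveI : Module.Finite Ah Γ(pullback z τ, ⊤) := hfin
    haveI : Algebra.Etale Ah Γ(pullback z τ, ⊤) := het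
    haveI : Module.Finite Ah (Ah ⊗[A] Γ(T, ⊤)) := Module.Finite.equiv e.symm.toLinearEquiv
    haveI : Algebra.Etale Ah (Ah ⊗[A] Γ(T, ⊤)) := Algebra.Etale.of_equiv e.symm
    exact ⟨Module.Finite.of_finite_tensorProduct_of_faithfullyFlat Ah,
      Algebra.Etale.of_etale_tensorProduct_of_faithfullyFlat Ah⟩
  -- the extension
  let g : Spec Γ(T, ⊤) ⟶ Spec (CommRingCat.of A) := Spec.map φ
  haveI : IsFinite g := (IsFinite.SpecMap_iff φ).mpr hφ.1
  haveI : Etale g := (HasRingHomProperty.Spec_iff (P := @Etale)).mpr hφ.2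
  let Y : FEt.Cat (Spec (CommRingCat.of A)) := Basic.mk g
  have hY : T.toSpecΓ ≫ g = z ≫ U.ι := by
    refine ext_of_isAffine ?_
    rw [Scheme.Hom.comp_appTop, Scheme.toSpecΓ_appTop, Scheme.ΓSpecIso_naturality]
    simp [φ]
  let k : T ⟶ pullback g U.ι := pullback.lift T.toSpecΓ z hY
  let W := pullback g U.ι
  haveI : IsOpenImmersion k := by
    have : IsOpenImmersion (k ≫ pullback.fst g U.ι) := by rw [pullback.lift_fst]; infer_instance
    exact IsOpenImmersion.of_comp k (pullback.fst g U.ι)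
  haveI : IsFinite k := by
    have : IsFinite (k ≫ pullback.snd g U.ι) := by rw [pullback.lift_snd]; infer_instance
    exact IsFinite.of_comp k (pullback.snd g U.ι)
  haveI : IsLocallyNoetherian (Spec Γ(T, ⊤)) := LocallyOfFiniteType.isLocallyNoetherian g
  have hbij : Function.Bijective (pullback.fst g U.ι).appTop := by
    refine S0263.bijective_appTop _ fun y hy => ?_
    rw [Scheme.Pullback.range_fst, Scheme.Opens.range_ι] at hy
    rw [DepthTwo.depth_stalk g y, show g y = IsLocalRing.closedPoint A from by_contra hy]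
    let S := (Spec (CommRingCat.of A)).presheaf.stalk (IsLocalRing.closedPoint A)
    rw [HartogsAffine.depth_congr_ringEquiv (R := A) (S := S) (RingEquiv.ofBijective
      ((Scheme.ΓSpecIso (CommRingCat.of A)).inv ≫ (Spec (CommRingCat.of A)).presheaf.germ ⊤ _ trivial).hom ?_)]
    · exact hA
    · exact bijective_germ_closedPoint
  have hinj : Function.Injective k.appTop := by
    have h1 : (pullback.fst g U.ι).appTop ≫ k.appTop = T.toSpecΓ.appTop := by
      rw [← Scheme.Hom.comp_appTop, pullback.lift_fst]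
    intro x y hxy
    obtain ⟨x', rfl⟩ := hbij.2 x
    obtain ⟨y', rfl⟩ := hbij.2 y
    rw [← CommRingCat.comp_apply, ← CommRingCat.comp_apply, h1, Scheme.toSpecΓ_appTop] at hxy
    rw [(ConcreteCategory.bijective_of_isIso (Scheme.ΓSpecIso Γ(T, ⊤)).hom).1 hxy]
  have hsurj : Surjective k := by
    refine ⟨fun w => by_contra fun hw => ?_⟩
    haveI : IsAffineHom (pullback.snd g U.ι) := inferInstance
    haveI : Scheme.IsQuasiAffine W := Scheme.IsQuasiAffine.of_isAffineHom (pullback.snd g U.ι)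
    haveI : CompactSpace W := QuasiCompact.compactSpace_of_compactSpace (pullback.snd g U.ι)
    obtain ⟨_, ⟨_, ⟨r, -, rfl⟩, rfl⟩, hwr, hr⟩ := (Scheme.IsQuasiAffine.isBasis_basicOpen W).exists_subset_of_mem_open
      (show w ∈ (Set.range k)ᶜ from hw) k.isClosedMap.isClosed_range.isOpen_compl
    have h1 : IsNilpotent (k.appTop r) := by
      rw [Scheme.isNilpotent_iff_basicOpen_eq_bot_of_isCompact isCompact_univ, Scheme.preimage_basicOpen_top k r |>.symm]
      ext z
      exact ⟨fun hz => hr hz ⟨z, rfl⟩, fun hz => hz.elim⟩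
    obtain ⟨n, hn⟩ := h1
    rw [← map_pow] at hn
    have h2 : W.basicOpen r = ⊥ :=
      (Scheme.isNilpotent_iff_basicOpen_eq_bot_of_isCompact isCompact_univ r).mp
        ⟨n, hinj (hn.trans (map_zero _).symm)⟩
    exact (h2.le hwr : w ∈ (⊥ : W.Opens)).elim
  haveI : Epi k.base := (TopCat.epi_iff_surjective _).mpr k.surjective
  haveI : IsIso k := IsOpenImmersion.isIso k
  haveI : IsIso (Basic.homMk (Y := Basic.mk z) (Z := (FEt.restrict U.ι).obj Y) k (pullback.lift_snd _ _ _)).left :=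
    inferInstanceAs (IsIso k)
  haveI := Basic.isIso_of_left (Basic.homMk (Y := Basic.mk z) (Z := (FEt.restrict U.ι).obj Y) k (pullback.lift_snd _ _ _))
  exact ⟨Y, ⟨(asIso (Basic.homMk (Y := Basic.mk z) (Z := (FEt.restrict U.ι).obj Y) k (pullback.lift_snd _ _ _))).symm⟩⟩

open Ideal in
/-- Purity passes from a quotient with free graded ring. -/
theorem purityHolds_of_grData (J : Ideal A) (hJ : J ≠ ⊤) [IsLocalRing (A ⧸ J)] (G : GrData J)
    (hG : G.Indep ⊥) (hd : (3 : ℕ∞) ≤ LocCoh.depth (A ⧸ J) (A ⧸ J)) (h0 : FEt.PurityHolds (A ⧸ J)) :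
    (3 : ℕ∞) ≤ LocCoh.depth A A ∧ FEt.PurityHolds A := by
  have hdep := three_le_depth_of_quotient J hJ G hG hd
  refine ⟨hdep, ?_⟩
  have hfg : J.FG := J.fg_of_isNoetherianRing
  let Ah := AdicCompletion J A
  haveI : IsNoetherianRing Ah := RegLoc.AdicNoeth.isNoetherianRing_adicCompletion J hfg
  let π : Ah →+* A ⧸ J := (AdicCompletion.evalOneₐ J).toRingHom
  have hπ : Function.Surjective π := AdicCompletion.evalOneₐ_surjective J
  have hker : RingHom.ker π = J.map (algebraMap A Ah) := AdicCompletion.ker_evalOneₐ_eq_map J hfg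
  haveI : IsAdicComplete (J.map (algebraMap A Ah)) Ah := AdicCompletion.isAdicComplete_self J hfg
  have hjac : RingHom.ker π ≤ Ideal.jacobson ⊥ := hker.le.trans (IsAdicComplete.le_jacobson_bot _)
  haveI : Nontrivial Ah := π.domain_nontrivial
  haveI : IsLocalRing Ah := IsLocalRing.of_isUnit_or_isUnit_one_sub_self fun x =>
    (IsLocalRing.isUnit_or_isUnit_one_sub_self (π x)).imp (isUnit_of_isUnit_map π hπ hjac)
      fun h => isUnit_of_isUnit_map π hπ hjac (by rwa [map_sub, map_one])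
  have hcomp : π.comp (algebraMap A Ah) = Ideal.Quotient.mk J := AdicCompletion.evalOneₐ_comp_algebraMap_eq_mk J
  haveI : IsLocalHom (algebraMap A Ah) := ⟨fun a ha => by
    refine isUnit_of_isUnit_map (Ideal.Quotient.mk J) Ideal.Quotient.mk_surjective ?_ ?_
    · rw [Ideal.mk_ker, IsLocalRing.jacobson_eq_maximalIdeal ⊥ bot_ne_top]
      exact IsLocalRing.le_maximalIdeal hJ
    · rw [← hcomp]; exact ha.map π⟩
  haveI : Module.FaithfullyFlat A Ah := Module.FaithfullyFlat.of_flat_of_isLocalHom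
  have hmax : IsLocalRing.maximalIdeal Ah ≤ (IsLocalRing.maximalIdeal A).map (algebraMap A Ah) := by
    intro x hx
    obtain ⟨a, ha⟩ := Ideal.Quotient.mk_surjective (π x)
    have hxa : x - algebraMap A Ah a ∈ J.map (algebraMap A Ah) := by
      rw [← hker, RingHom.mem_ker, map_sub, ← ha, ← hcomp]
      exact sub_self _
    have ham : a ∈ IsLocalRing.maximalIdeal A := fun hu => hx
      (isUnit_of_isUnit_map π hπ hjac (ha ▸ hu.map (Ideal.Quotient.mk J)))
    have := add_mem (Ideal.map_mono (IsLocalRing.le_maximalIdeal hJ) hxa)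
      (Ideal.mem_map_of_mem (algebraMap A Ah) ham)
    rwa [sub_add_cancel] at this
  obtain ⟨G', hG'⟩ := exists_grData_map (B := Ah) G hG
  have hJ' : J.map (algebraMap A Ah) ≠ ⊤ := hker ▸ RingHom.ker_ne_top π
  haveI : Nontrivial (Ah ⧸ J.map (algebraMap A Ah)) := Ideal.Quotient.nontrivial_iff.mpr hJ'
  haveI : IsLocalRing (Ah ⧸ J.map (algebraMap A Ah)) :=
    IsLocalRing.of_surjective' _ Ideal.Quotient.mk_surjective
  have hd' : (3 : ℕ∞) ≤ LocCoh.depth (Ah ⧸ J.map (algebraMap A Ah)) (Ah ⧸ J.map (algebraMap A Ah)) := by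
    rw [← HartogsAffine.depth_congr_ringEquiv
      ((Ideal.quotEquivOfEq hker.symm).trans (RingHom.quotientKerEquivOfSurjective hπ))]
    exact hd
  have hAh : (3 : ℕ∞) ≤ LocCoh.depth Ah Ah := three_le_depth_of_quotient _ hJ' G' hG' hd'
  exact exists_extension hmax ((by norm_num : (2 : ℕ∞) ≤ 3).trans hdep) ((by norm_num : (2 : ℕ∞) ≤ 3).trans hAh)
    (purityHolds_complete _ hJ' π hπ hker hd G' hG' h0)

end Groth.Agent.FEtCat.PurityQuot
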