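import Groth.Agent.FEtCat.Basic
import Mathlib.RingTheory.Finiteness.Projective
import Mathlib.Algebra.Category.Ring.Constructions
import Mathlib.AlgebraicGeometry.Morphisms.Flat
import Mathlib.Topology.Sheaves.SheafCondition.Sites

/-!
# `O = f_* O` is inherited by finite flat base changes
-/

set_option backward.isDefEq.respectTransparency.types false

universe u

open CategoryTheory CategoryTheory.Limits AlgebraicGeometry TopologicalSpace Opposite

noncomputable section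

namespace Groth.Agent.FEtCat.PushOne

variable {X S Y : Scheme.{u}} (f : X ⟶ S) (p : Y ⟶ S) [IsFinite p] [Flat p] [LocallyOfFinitePresentation p]

/-- The pullback of `U` to the fibre product. -/
abbrev over (U : S.Opens) : (pullback p f).Opens := pullback.fst p f ⁻¹ᵁ (p ⁻¹ᵁ U)

theorem over_eq (U : S.Opens) : over f p U = pullback.snd p f ⁻¹ᵁ (f ⁻¹ᵁ U) := by
  rw [over, ← Scheme.Hom.comp_preimage, pullback.condition, Scheme.Hom.comp_preimage]

theorem snd_le {U : S.Opens} {W : X.Opens} (h : W ≤ f ⁻¹ᵁ U) : pullback.snd p f ⁻¹ᵁ W ≤ over f p U := by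
  rw [over_eq]
  exact (pullback.snd p f).preimage_mono h

variable {f p}

/-- Coefficient functionals on an affine piece. -/
theorem exists_coeff {U : S.Opens} (hU : IsAffineOpen U) {n : ℕ} (b : Fin n → Γ(Y, p ⁻¹ᵁ U))
    (φ : Fin n → Γ(Y, p ⁻¹ᵁ U) → Γ(S, U))
    (hadd : ∀ i x y, φ i (x + y) = φ i x + φ i y) (hsmul : ∀ i a x, φ i (p.app U a * x) = a * φ i x)
    (hb : ∀ x, x = ∑ i, p.app U (φ i x) * b i) {W : X.Opens} (hW : IsAffineOpen W) (hWU : W ≤ f ⁻¹ᵁ U) :
    ∃ ψ : Fin n → Γ(pullback p f, pullback.snd p f ⁻¹ᵁ W) → Γ(X, W),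
      (∀ i x, ψ i ((pullback.fst p f).appLE _ _ (snd_le f p hWU) x) = f.appLE U W hWU (φ i x)) ∧
      (∀ i z z', ψ i (z + z') = ψ i z + ψ i z') ∧
      (∀ i c z, ψ i ((pullback.snd p f).app W c * z) = c * ψ i z) ∧
      ∀ z, z = ∑ i, (pullback.snd p f).app W (ψ i z) * (pullback.fst p f).appLE _ _ (snd_le f p hWU) (b i) := by
  classical
  let B : Type u := Γ(Y, p ⁻¹ᵁ U)
  let UY := pullback.snd p f ⁻¹ᵁ W
  have hUY : UY = pullback.fst p f ⁻¹ᵁ (p ⁻¹ᵁ U) ⊓ pullback.snd p f ⁻¹ᵁ W :=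
    (inf_eq_right.mpr (snd_le f p hWU)).symm
  have hpo := (isIso_pushoutSection_iff (IsPullback.of_hasPullback p f) hWU le_rfl hUY).mp
    (isIso_pushoutSection_of_isAffineOpen (IsPullback.of_hasPullback p f) hWU le_rfl hUY hU hW (hU.preimage p))
  rw [← Scheme.Hom.app_eq_appLE, ← Scheme.Hom.app_eq_appLE] at hpo
  let _ : Algebra Γ(S, U) Γ(Y, p ⁻¹ᵁ U) := (p.app U).hom.toAlgebra
  let _ : Algebra Γ(S, U) Γ(X, W) := (f.appLE U W hWU).hom.toAlgebra
  let _ : Algebra Γ(Y, p ⁻¹ᵁ U) Γ(pullback p f, UY) :=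
    ((pullback.fst p f).appLE (p ⁻¹ᵁ U) UY (snd_le f p hWU)).hom.toAlgebra
  let _ : Algebra Γ(X, W) Γ(pullback p f, UY) := ((pullback.snd p f).app W).hom.toAlgebra
  let _ : Algebra Γ(S, U) Γ(pullback p f, UY) :=
    (p.app U ≫ (pullback.fst p f).appLE (p ⁻¹ᵁ U) UY (snd_le f p hWU)).hom.toAlgebra
  have : IsScalarTower Γ(S, U) Γ(Y, p ⁻¹ᵁ U) Γ(pullback p f, UY) := .of_algebraMap_eq' rfl
  have : IsScalarTower Γ(S, U) Γ(X, W) Γ(pullback p f, UY) :=
    .of_algebraMap_eq' (congrArg CommRingCat.Hom.hom hpo.w)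
  have hpush : Algebra.IsPushout Γ(S, U) Γ(Y, p ⁻¹ᵁ U) Γ(X, W) Γ(pullback p f, UY) :=
    CommRingCat.isPushout_iff_isPushout.mp hpo
  have hbc := hpush.symm.out
  let φl : Fin n → (Γ(Y, p ⁻¹ᵁ U) →ₗ[Γ(S, U)] Γ(X, W)) := fun i =>
    (Algebra.linearMap Γ(S, U) Γ(X, W)).comp
      { toFun := φ i, map_add' := hadd i, map_smul' := fun a x => by
          rw [Algebra.smul_def, RingHom.id_apply]
          exact hsmul i a x }
  let ψ : Fin n → (Γ(pullback p f, UY) →ₗ[Γ(X, W)] Γ(X, W)) := fun i => hbc.lift (φl i)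
  have h1 : ∀ i (x : Γ(Y, p ⁻¹ᵁ U)), ψ i (algebraMap _ Γ(pullback p f, UY) x) = f.appLE U W hWU (φ i x) :=
    fun i x => hbc.lift_eq (φl i) x
  refine ⟨fun i => ψ i, h1, fun i => map_add (ψ i), fun i c z => ?_, fun z => ?_⟩
  · exact (congrArg (ψ i) (Algebra.smul_def c z).symm).trans ((map_smul (ψ i) c z).trans (smul_eq_mul _ _))
  · let R : Γ(pullback p f, UY) →ₗ[Γ(X, W)] Γ(pullback p f, UY) :=
      ∑ i, (ψ i).smulRight (algebraMap Γ(Y, p ⁻¹ᵁ U) Γ(pullback p f, UY) (b i))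
    have hR : R = LinearMap.id := by
      refine hbc.algHom_ext R LinearMap.id fun x => ?_
      simp only [R, LinearMap.sum_apply, LinearMap.smulRight_apply, LinearMap.id_apply,
        IsScalarTower.coe_toAlgHom', AlgHom.toLinearMap_apply, h1]
      conv_rhs => rw [hb x, map_sum]
      refine Finset.sum_congr rfl fun i _ => ?_
      rw [Algebra.smul_def, map_mul]
      congr 1
      exact RingHom.congr_fun (IsScalarTower.algebraMap_eq Γ(S, U) Γ(X, W) Γ(pullback p f, UY)).symm (φ i x)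
    have := LinearMap.congr_fun hR z
    simp only [R, LinearMap.sum_apply, LinearMap.smulRight_apply, LinearMap.id_apply, Algebra.smul_def] at this
    exact this.symm

theorem bijective_fst_app_affine (hf : ∀ U : S.Opens, Function.Bijective (f.app U)) {U : S.Opens}
    (hU : IsAffineOpen U) : Function.Bijective ((pullback.fst p f).app (p ⁻¹ᵁ U)) := by
  classical
  let _ : Algebra Γ(S, U) Γ(Y, p ⁻¹ᵁ U) := (p.app U).hom.toAlgebra
  have h1 : Module.Finite Γ(S, U) Γ(Y, p ⁻¹ᵁ U) :=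
    RingHom.finite_algebraMap.mp (IsFinite.finite_app p U hU)
  have h2 : Module.Flat Γ(S, U) Γ(Y, p ⁻¹ᵁ U) := RingHom.flat_algebraMap_iff.mp (by
    have := p.flat_appLE hU (hU.preimage p) le_rfl
    rwa [← Scheme.Hom.app_eq_appLE] at this)
  have h3 : Algebra.FinitePresentation Γ(S, U) Γ(Y, p ⁻¹ᵁ U) := RingHom.finitePresentation_algebraMap.mp (by
    have := HasRingHomProperty.appLE (P := @LocallyOfFinitePresentation) p inferInstance ⟨U, hU⟩
      ⟨p ⁻¹ᵁ U, hU.preimage p⟩ le_rfl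
    rwa [← Scheme.Hom.app_eq_appLE] at this)
  have h4 : Module.FinitePresentation Γ(S, U) Γ(Y, p ⁻¹ᵁ U) := .of_finite_of_finitePresentation _ _
  have h5 : Module.Projective Γ(S, U) Γ(Y, p ⁻¹ᵁ U) := Module.Flat.projective_of_finitePresentation
  obtain ⟨n, π, s, -, -, hπs⟩ := Module.Finite.exists_comp_eq_id_of_projective Γ(S, U) Γ(Y, p ⁻¹ᵁ U)
  let b : Fin n → Γ(Y, p ⁻¹ᵁ U) := fun i => π (Pi.single i 1)
  let φ : Fin n → Γ(Y, p ⁻¹ᵁ U) → Γ(S, U) := fun i x => s x i
  have hsmul : ∀ i a x, φ i (p.app U a * x) = a * φ i x := fun i a x => by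
    change s (algebraMap Γ(S, U) Γ(Y, p ⁻¹ᵁ U) a * x) i = a * s x i
    rw [← Algebra.smul_def, map_smul]
    rfl
  have hb : ∀ x, x = ∑ i, p.app U (φ i x) * b i := fun x => by
    have h : x = π (∑ i, s x i • Pi.single i (1 : Γ(S, U))) := by
      rw [← pi_eq_sum_univ' (s x)]
      exact (LinearMap.congr_fun hπs x).symm
    refine h.trans ?_
    rw [map_sum]
    refine Finset.sum_congr rfl fun i _ => ?_
    rw [map_smul, Algebra.smul_def]
    rfl
  have hψ := fun (W : {W : X.Opens // IsAffineOpen W ∧ W ≤ f ⁻¹ᵁ U}) =>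
    exists_coeff hU b φ (fun i x y => congrFun (map_add s x y) i) hsmul hb W.2.1 W.2.2
  choose ψ hψ₁ hψadd hψsmul hψ₂ using hψ
  have hsum : ∀ (W) i (c : Fin n → Γ(X, W.1)),
      ψ W i (∑ j, (pullback.snd p f).app W.1 (c j) * (pullback.fst p f).appLE _ _ (snd_le f p W.2.2) (b j)) =
        ∑ j, c j * f.appLE U W.1 W.2.2 (φ i (b j)) := by
    intro W i c
    let A : Γ(pullback p f, pullback.snd p f ⁻¹ᵁ W.1) →+ Γ(X, W.1) := AddMonoidHom.mk' (ψ W i) (hψadd W i)
    change A _ = _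
    rw [map_sum]
    exact Finset.sum_congr rfl fun j _ => (hψsmul W i _ _).trans (congrArg _ (hψ₁ W i _))
  have hnat : ∀ (W W' : {W : X.Opens // IsAffineOpen W ∧ W ≤ f ⁻¹ᵁ U}) (h : W'.1 ≤ W.1) i
      (z : Γ(pullback p f, pullback.snd p f ⁻¹ᵁ W.1)),
      ψ W' i ((pullback p f).presheaf.map (homOfLE ((pullback.snd p f).preimage_mono h)).op z) =
        X.presheaf.map (homOfLE h).op (ψ W i z) := by
    intro W W' h i z
    conv_lhs => rw [hψ₂ W z]
    conv_rhs => rw [hψ₂ W z]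
    rw [hsum, map_sum, map_sum]
    simp only [map_mul, ← CommRingCat.comp_apply, Scheme.Hom.appLE_map]
    simp only [Scheme.Hom.app_eq_appLE, Scheme.Hom.appLE_map]
    simp only [Scheme.Hom.app_eq_appLE] at hsum
    rw [← hsum W' i]
    congr 1
    refine Finset.sum_congr rfl fun j _ => ?_
    congr 1
    rw [← CommRingCat.comp_apply, Scheme.Hom.map_appLE]
  have hres : ∀ {W : X.Opens} (hW : W ≤ f ⁻¹ᵁ U) (x : Γ(Y, p ⁻¹ᵁ U)),
      (pullback p f).presheaf.map (homOfLE (snd_le f p hW)).op ((pullback.fst p f).app (p ⁻¹ᵁ U) x) =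
        (pullback.fst p f).appLE _ _ (snd_le f p hW) x := fun hW x => rfl
  refine ⟨(injective_iff_map_eq_zero _).mpr fun x hx => ?_, fun z => ?_⟩
  · have hφ : ∀ i, φ i x = 0 := fun i => (hf U).1 (by
      rw [map_zero]
      refine TopCat.Presheaf.section_ext X.sheaf (f ⁻¹ᵁ U) _ _ fun y hy => ?_
      obtain ⟨_, ⟨W, hW, rfl⟩, hyW, hWU⟩ := X.isBasis_affineOpens.exists_subset_of_mem_open hy (f ⁻¹ᵁ U).2
      have h := hψ₁ ⟨W, hW, hWU⟩ i x
      rw [← hres hWU x, hx, map_zero] at h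
      have h0 : ψ ⟨W, hW, hWU⟩ i 0 = 0 := by simpa using hψadd ⟨W, hW, hWU⟩ i 0 0
      rw [h0] at h
      change X.presheaf.germ (f ⁻¹ᵁ U) y hy (f.app U (φ i x)) = X.presheaf.germ (f ⁻¹ᵁ U) y hy 0
      rw [map_zero, ← X.presheaf.germ_res_apply (homOfLE hWU) y hyW]
      refine (congrArg (X.presheaf.germ W y hyW)
        (?_ : X.presheaf.map (homOfLE hWU).op (f.app U (φ i x)) = 0)).trans (map_zero _)
      exact h.symm)
    rw [hb x]
    simp [hφ]
  · let ι := {W : X.Opens // IsAffineOpen W ∧ W ≤ f ⁻¹ᵁ U}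
    have hcov : f ⁻¹ᵁ U ≤ iSup fun W : ι => W.1 := fun y hy => by
      obtain ⟨_, ⟨W, hW, rfl⟩, hyW, hWU⟩ := X.isBasis_affineOpens.exists_subset_of_mem_open hy (f ⁻¹ᵁ U).2
      exact Opens.mem_iSup.mpr ⟨⟨W, hW, hWU⟩, hyW⟩
    let zW : ∀ W : ι, Γ(pullback p f, pullback.snd p f ⁻¹ᵁ W.1) := fun W =>
      (pullback p f).presheaf.map (homOfLE (snd_le f p W.2.2)).op z
    have hcomp : ∀ i, TopCat.Presheaf.IsCompatible X.sheaf.1 (fun W : ι => W.1) (fun W => ψ W i (zW W)) := by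
      intro i W W'
      refine TopCat.Presheaf.section_ext X.sheaf (W.1 ⊓ W'.1) _ _ fun y hy => ?_
      obtain ⟨_, ⟨V, hV, rfl⟩, hyV, hVle⟩ := X.isBasis_affineOpens.exists_subset_of_mem_open hy (W.1 ⊓ W'.1).2
      let V' : ι := ⟨V, hV, (le_trans hVle inf_le_left).trans W.2.2⟩
      have e : ∀ (W : ι) (h : V ≤ W.1), X.presheaf.map (homOfLE h).op (ψ W i (zW W)) = ψ V' i (zW V') := by
        intro W h
        rw [← hnat W V' h i]
        congr 1
        simp only [zW, ← CommRingCat.comp_apply, ← Functor.map_comp]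
        rfl
      have e1 := congrArg (X.presheaf.germ V y hyV)
        ((e W (le_trans hVle inf_le_left)).trans (e W' (le_trans hVle inf_le_right)).symm)
      rw [X.presheaf.germ_res_apply, X.presheaf.germ_res_apply] at e1
      refine (X.presheaf.germ_res_apply _ y hy _).trans (e1.trans ?_)
      exact (X.presheaf.germ_res_apply _ y hy _).symm
    choose c hc _ using fun i => TopCat.Sheaf.existsUnique_gluing' X.sheaf (fun W : ι => W.1) (f ⁻¹ᵁ U)
      (fun W => homOfLE W.2.2) hcov (fun W => ψ W i (zW W)) (hcomp i)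
    choose a ha using fun i => (hf U).2 (c i)
    refine ⟨∑ i, p.app U (a i) * b i, ?_⟩
    refine TopCat.Sheaf.eq_of_locally_eq' (pullback p f).sheaf (fun W : ι => pullback.snd p f ⁻¹ᵁ W.1) _
      (fun W => homOfLE (snd_le f p W.2.2)) ?_ _ _ fun W => ?_
    · intro y hy
      have : pullback.snd p f y ∈ f ⁻¹ᵁ U := by
        have := (over_eq f p U) ▸ hy
        exact this
      obtain ⟨W, hW⟩ := Opens.mem_iSup.mp (hcov this)
      exact Opens.mem_iSup.mpr ⟨W, hW⟩
    · change (pullback p f).presheaf.map _ _ = zW W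
      rw [hres W.2.2, map_sum, hψ₂ W (zW W)]
      refine Finset.sum_congr rfl fun i _ => ?_
      rw [map_mul]
      congr 1
      have hw : p.app U ≫ (pullback.fst p f).appLE (p ⁻¹ᵁ U) _ (snd_le f p W.2.2) =
          f.appLE U W.1 W.2.2 ≫ (pullback.snd p f).app W.1 := by
        rw [Scheme.Hom.app_eq_appLE, Scheme.Hom.app_eq_appLE, Scheme.Hom.appLE_comp_appLE,
          Scheme.Hom.appLE_comp_appLE]
        simp [pullback.condition]
      rw [← CommRingCat.comp_apply, hw, CommRingCat.comp_apply]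
      congr 1
      refine Eq.trans ?_ (hc i W)
      rw [← ha i]
      rfl

/-- Global functions on the base change of a finite flat scheme. -/
theorem bijective_fst_appTop (hf : ∀ U : S.Opens, Function.Bijective (f.app U)) :
    Function.Bijective (pullback.fst p f).appTop := by
  let F := (TopCat.Sheaf.pushforward CommRingCat.{u} p.base).obj Y.sheaf
  let G := (TopCat.Sheaf.pushforward CommRingCat.{u} (pullback.fst p f ≫ p).base).obj (pullback p f).sheaf
  let φ : F ⟶ G := ⟨{ app := fun V => (pullback.fst p f).app (p ⁻¹ᵁ V.unop)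
                      naturality := fun V W i => (pullback.fst p f).naturality _ }⟩
  have : IsIso φ := TopCat.Sheaf.isIso_iff_isIso_basis (B := fun U : S.affineOpens => U.1)
    (by simpa using S.isBasis_affineOpens) fun U =>
      (ConcreteCategory.isIso_iff_bijective _).mpr (bijective_fst_app_affine hf U.2)
  have h0 : IsIso φ.hom := Functor.map_isIso (TopCat.Sheaf.forget CommRingCat.{u} S) φ
  have h1 := (NatTrans.isIso_iff_isIso_app φ.hom).mp h0 (op ⊤)
  have h := (ConcreteCategory.isIso_iff_bijective (φ.hom.app (op ⊤))).mp h1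
  exact h

end Groth.Agent.FEtCat.PushOne
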