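import Mathlib.RingTheory.Etale.Field
import Mathlib.RingTheory.Smooth.Flat
import Mathlib.RingTheory.Polynomial.GaussLemma
import Mathlib.RingTheory.DedekindDomain.IntegralClosure
import Mathlib.RingTheory.Localization.FractionRing
import Groth.Agent.RegLoc.Serre

/-!
# Algebras which are finite étale off the closed point of a normal local ring of depth `≥ 2`
-/

set_option autoImplicit false
set_option linter.style.haveILetI false
set_option maxHeartbeats 800000

noncomputable section

universe u v

open TensorProduct Polynomial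

set_option backward.isDefEq.respectTransparency.types false

namespace Groth.Agent.FEtCat.SectionsFinite

variable {A : Type u} [CommRing A] [IsDomain A] [IsNoetherianRing A] [IsLocalRing A]

omit [IsDomain A] in
/-- In depth `≥ 2`, a fraction having every `a i` as a denominator up to powers lies in `A`. -/
theorem exists_eq_of_forall {K : Type v} [Field K] [Algebra A K] [IsFractionRing A K]
    (hA : 2 ≤ LocCoh.depth A A) {ι : Type*} (a : ι → A)
    (ha : ∀ q : Ideal A, q.IsPrime → (∀ i, a i ∈ q) → q = IsLocalRing.maximalIdeal A)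
    (x : K) (hx : ∀ i, ∃ (n : ℕ) (b : A), algebraMap A K (a i) ^ n * x = algebraMap A K b) :
    ∃ b : A, x = algebraMap A K b := by
  let J : Ideal A :=
    { carrier := {c | ∃ b, algebraMap A K c * x = algebraMap A K b}
      add_mem' := fun {c d} hc hd => by
        obtain ⟨b, hb⟩ := hc
        obtain ⟨b', hb'⟩ := hd
        exact ⟨b + b', by rw [map_add, map_add, add_mul, hb, hb']⟩
      zero_mem' := ⟨0, by simp⟩
      smul_mem' := fun t {c} hc => by
        obtain ⟨b, hb⟩ := hc
        exact ⟨t * b, by rw [smul_eq_mul, map_mul, map_mul, mul_assoc, hb]⟩ }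
  obtain ⟨c, hc, d, hd, hreg, hdiv⟩ :=
    Groth.Agent.RegLoc.Serre.exists_regular_pair hA (I := J) fun q hq hle => ha q hq fun i => by
      obtain ⟨n, b, hb⟩ := hx i
      exact hq.mem_of_pow_mem n (hle ⟨b, by rwa [map_pow]⟩)
  obtain ⟨α, hα⟩ := hc
  obtain ⟨γ, hγ⟩ := hd
  have hc0 : algebraMap A K c ≠ 0 := by
    rw [map_ne_zero_iff _ (IsFractionRing.injective A K)]
    rintro rfl
    exact one_ne_zero (hreg (show (0 : A) • (1 : A) = (0 : A) • (0 : A) by simp))
  obtain ⟨b, rfl⟩ := hdiv α ⟨γ, IsFractionRing.injective A K (by rw [map_mul, map_mul, ← hα, ← hγ]; ring)⟩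
  exact ⟨b, mul_left_cancel₀ hc0 (hα.trans (map_mul _ _ _))⟩

variable [IsIntegrallyClosed A] {S : Type u} [CommRing S] [Algebra A S]

theorem finite (hA : 2 ≤ LocCoh.depth A A) {ι : Type u} (a : ι → A) (ha0 : ∀ i, a i ≠ 0)
    (ha : ∀ q : Ideal A, q.IsPrime → (∀ i, a i ∈ q) → q = IsLocalRing.maximalIdeal A) (i₀ : ι)
    (het : ∀ i, Module.Finite (Localization.Away (a i)) (Localization.Away (a i) ⊗[A] S) ∧
      Algebra.Etale (Localization.Away (a i)) (Localization.Away (a i) ⊗[A] S))
    (hinj : ∀ s : S, (∀ i, (1 : Localization.Away (a i)) ⊗ₜ[A] s = 0) → s = 0) :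
    Module.Finite A S := by
  let K := FractionRing A
  let L := K ⊗[A] S
  have hu : ∀ i, IsUnit (algebraMap A K (a i)) := fun i =>
    ((map_ne_zero_iff _ (IsFractionRing.injective A K)).mpr (ha0 i)).isUnit
  letI : ∀ i, Algebra (Localization.Away (a i)) K := fun i => (IsLocalization.Away.lift (a i) (hu i)).toAlgebra
  haveI : ∀ i, IsScalarTower A (Localization.Away (a i)) K := fun i =>
    IsScalarTower.of_algebraMap_eq fun x => (IsLocalization.Away.lift_eq (a i) (hu i) x).symm
  haveI : ∀ i, IsFractionRing (Localization.Away (a i)) K := fun i =>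
    IsFractionRing.isFractionRing_of_isDomain_of_isLocalization (Submonoid.powers (a i)) _ K
  haveI : ∀ i, IsDomain (Localization.Away (a i)) := fun i =>
    IsLocalization.isDomain_localization (powers_le_nonZeroDivisors_of_noZeroDivisors (ha0 i))
  haveI : ∀ i, IsIntegrallyClosed (Localization.Away (a i)) := fun i =>
    isIntegrallyClosed_of_isLocalization _ (Submonoid.powers (a i)) (powers_le_nonZeroDivisors_of_noZeroDivisors (ha0 i))
  let e : ∀ i, K ⊗[Localization.Away (a i)] (Localization.Away (a i) ⊗[A] S) ≃ₐ[K] L := fun i =>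
    Algebra.TensorProduct.cancelBaseChange A (Localization.Away (a i)) K K S
  haveI := (het i₀).1
  haveI := (het i₀).2
  haveI : Module.Finite K L := Module.Finite.equiv (e i₀).toLinearEquiv
  haveI : Algebra.Etale K L :=
    Algebra.Etale.of_equiv (A := K ⊗[Localization.Away (a i₀)] (Localization.Away (a i₀) ⊗[A] S)) (e i₀)
  -- the image of `S` in `L` is faithful and integral over `A`
  have hφ : ∀ i (s : S), ((1 : K) ⊗ₜ[A] s : L) =
      e i (Algebra.TensorProduct.includeRight ((1 : Localization.Away (a i)) ⊗ₜ[A] s)) := fun i s => by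
    simp only [e, Algebra.TensorProduct.includeRight_apply]
    erw [Algebra.TensorProduct.cancelBaseChange_tmul, one_smul]
  have hι : Function.Injective (Algebra.TensorProduct.includeRight : S →ₐ[A] L) := by
    rw [injective_iff_map_eq_zero]
    intro s hs
    refine hinj s fun i => ?_
    haveI := (het i).2
    refine Algebra.TensorProduct.includeRight_injective (R := Localization.Away (a i)) (A := K)
      (B := Localization.Away (a i) ⊗[A] S) (IsFractionRing.injective _ _) ?_
    rw [map_zero]
    exact (e i).injective (((hφ i s).symm.trans hs).trans (map_zero (e i)).symm)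
  have hint : ∀ s : S, IsIntegral A ((1 : K) ⊗ₜ[A] s : L) := by
    intro s
    set y : L := (1 : K) ⊗ₜ[A] s
    have hy : IsIntegral K y := IsIntegral.of_finite K y
    have hc : ∀ n, ∃ b : A, (minpoly K y).coeff n = algebraMap A K b := fun n => by
      refine exists_eq_of_forall hA a ha _ fun i => ?_
      haveI := (het i).1
      obtain ⟨q, hq, hq0⟩ : IsIntegral (Localization.Away (a i)) y := by
        have h1 := (IsIntegral.of_finite (Localization.Away (a i)) ((1 : Localization.Away (a i)) ⊗ₜ[A] s)).map
          (Algebra.TensorProduct.includeRight :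
            Localization.Away (a i) ⊗[A] S →ₐ[Localization.Away (a i)]
              K ⊗[Localization.Away (a i)] (Localization.Away (a i) ⊗[A] S))
        have h2 := h1.map ((e i).toAlgHom.restrictScalars (Localization.Away (a i)))
        rwa [AlgHom.restrictScalars_apply, AlgEquiv.coe_toAlgHom, ← hφ] at h2
      have hd : minpoly K y ∣ q.map (algebraMap (Localization.Away (a i)) K) :=
        minpoly.dvd K y (by rw [Polynomial.aeval_map_algebraMap]; exact hq0)
      obtain ⟨g, hg⟩ := integralClosure.mem_lifts_of_monic_of_dvd_map K hq (minpoly.monic hy) hd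
      obtain ⟨z, hz⟩ : ∃ z : Localization.Away (a i), algebraMap _ K z = (minpoly K y).coeff n := by
        refine IsIntegrallyClosed.isIntegral_iff.mp ?_
        rw [← hg, coe_mapRingHom, coeff_map]
        exact (g.coeff n).2
      obtain ⟨⟨b, w⟩, hw⟩ := IsLocalization.surj (Submonoid.powers (a i)) z
      obtain ⟨m, hm⟩ := w.2
      refine ⟨m, b, ?_⟩
      rw [← hz, ← map_pow, show a i ^ m = (w : A) from hm, IsScalarTower.algebraMap_apply A (Localization.Away (a i)) K,
        IsScalarTower.algebraMap_apply A (Localization.Away (a i)) K b, ← map_mul, mul_comm]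
      exact congrArg _ hw
    choose b hb using hc
    obtain ⟨p, hp, -, hpm⟩ := Polynomial.lifts_and_natDegree_eq_and_monic (f := algebraMap A K)
      ((Polynomial.lifts_iff_coeff_lifts _).mpr fun n => ⟨b n, (hb n).symm⟩) (minpoly.monic hy)
    refine ⟨p, hpm, ?_⟩
    change Polynomial.aeval y p = 0
    rw [← Polynomial.aeval_map_algebraMap K, hp, minpoly.aeval]
  obtain ⟨I, hI, F, hF, hKF, f, hf⟩ := (Algebra.Etale.iff_exists_algEquiv_prod K L).mp (inferInstance : Algebra.Etale K L)
  haveI := fun j => (hf j).1
  haveI := fun j => (hf j).2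
  letI : ∀ j, Algebra A (F j) := fun j => ((algebraMap K (F j)).comp (algebraMap A K)).toAlgebra
  haveI : ∀ j, IsScalarTower A K (F j) := fun j => IsScalarTower.of_algebraMap_eq fun _ => rfl
  haveI : ∀ j, Module.Finite A (integralClosure A (F j)) := fun j => IsIntegralClosure.finite A K (F j) _
  let ψ : S →ₐ[A] ∀ j, F j := (f.toAlgHom.restrictScalars A).comp Algebra.TensorProduct.includeRight
  let θ : S →ₗ[A] ∀ j, integralClosure A (F j) := LinearMap.pi fun j =>
    LinearMap.codRestrict (integralClosure A (F j)).toSubmodule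
      ((LinearMap.proj j).comp ψ.toLinearMap) fun s =>
        ((hint s).map (f.toAlgHom.restrictScalars A)).map (Pi.evalAlgHom A F j)
  refine Module.Finite.of_injective θ fun s t hst => hι (f.injective (funext fun j => ?_))
  exact congrArg Subtype.val (congrFun hst j)

end Groth.Agent.FEtCat.SectionsFinite
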