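import Groth.Agent.S7857
import Groth.Agent.UnramFib.Basic
import Mathlib.RingTheory.RingHom.Flat
import Mathlib.RingTheory.RingHom.Finite
import Mathlib.RingTheory.RingHom.FinitePresentation
import Mathlib.RingTheory.RingHom.Etale

/-!
# Stein factorisation of proper flat families with geometrically reduced fibres
-/

set_option autoImplicit false
set_option backward.isDefEq.respectTransparency.types false

universe u

open CategoryTheory CategoryTheory.Limits AlgebraicGeometry Opposite TopologicalSpace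

noncomputable section

namespace Groth.Agent.FEtCat.SteinFlat

open Groth.Agent.CBC Groth.Agent.CBC.GeomRedH0

variable {X S : Scheme.{u}}

local notation "O" => Coh.structureModule _

/-- Over a right exact neighbourhood the functions form a finite flat algebra. -/
theorem finite_flat_of_rExact {f : X ⟶ S} [IsProper f] [(Coh.structureModule X).IsQuasicoherent]
    (hfl : FlatMod.IsFlatOver f (Coh.structureModule X)) (N : Nhd f (Coh.structureModule X))
    (hR : (N.D.K (Coh.structureModule X)).RExact 0) :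
    (f.app N.V).hom.Finite ∧ (f.app N.V).hom.Flat := by
  letI : Algebra Γ(S, N.V) Γ(X, f ⁻¹ᵁ N.V) := (f.app N.V).hom.toAlgebra
  let M := (Coh.push f).obj (Coh.structureModule X)
  let e := (zeroSec (Coh.structureModule X) N.D).symm ≪≫ₗ ((N.D.K (Coh.structureModule X)).hA 0).symm ≪≫ₗ (N.w 0).e₀
  have := (N.w 0).fp
  have := (N.w 0).rExact_iff.1 hR
  have := (N.w 0).lExact_iff.1 (N.lExact_zero hfl)
  have := finite_ker (N.w 0).u
  have := projective_ker (N.w 0).u
  have : Module.Finite Γ(S, N.V) Γ(M, N.V) := Module.Finite.equiv e.symm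
  have : Module.Projective Γ(S, N.V) Γ(M, N.V) := Module.Projective.of_equiv e.symm
  let l : Γ(M, N.V) ≃ₗ[Γ(S, N.V)] Γ(X, f ⁻¹ᵁ N.V) :=
    { toFun := fun a => a
      invFun := fun a => a
      map_add' := fun _ _ => rfl
      map_smul' := fun r a => rfl
      left_inv := fun _ => rfl
      right_inv := fun _ => rfl }
  have : Module.Finite Γ(S, N.V) Γ(X, f ⁻¹ᵁ N.V) := Module.Finite.equiv l
  have : Module.Projective Γ(S, N.V) Γ(X, f ⁻¹ᵁ N.V) := Module.Projective.of_equiv l
  exact ⟨RingHom.finite_algebraMap.mpr inferInstance, RingHom.flat_algebraMap_iff.mpr inferInstance⟩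

/-- Locally on the base, functions on a proper flat family with geometrically reduced fibres form a
finite flat algebra of finite presentation. -/
theorem exists_finite_flat (f : X ⟶ S) [IsProper f] [Flat f] [LocallyOfFinitePresentation f]
    [GeometricallyReduced f] (s : S) :
    ∃ U : S.Opens, IsAffineOpen U ∧ s ∈ U ∧
      ((f.app U).hom.Finite ∧ (f.app U).hom.Flat ∧ (f.app U).hom.FinitePresentation) := by
  obtain ⟨_, ⟨(V : S.Opens), hV, rfl⟩, hsV, -⟩ :=
    S.isBasis_affineOpens.exists_subset_of_mem_open (Set.mem_univ s) isOpen_univ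
  let u : (f ⁻¹ᵁ V).toScheme ⟶ Spec (CommRingCat.of Γ(S, V)) := overV f hV
  have hpb : IsPullback u (f ⁻¹ᵁ V).ι hV.fromSpec f := isPullback_overV f hV
  haveI : IsProper u := MorphismProperty.of_isPullback hpb.flip ‹IsProper f›
  haveI : Flat u := MorphismProperty.of_isPullback hpb.flip ‹Flat f›
  haveI : LocallyOfFinitePresentation u :=
    MorphismProperty.of_isPullback hpb.flip ‹LocallyOfFinitePresentation f›
  obtain ⟨A₀, X₀, u₀, q, hA₀, hu₀, hfl₀, H₀⟩ := AbSch51.ConstFun.exists_flat_model u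
  haveI : IsNoetherianRing A₀ := by
    have := (Subalgebra.fg_iff_finiteType A₀).mp hA₀
    exact Algebra.FiniteType.isNoetherianRing ℤ A₀
  haveI : LocallyOfFinitePresentation u₀ := inferInstance
  let τ := Spec.map (CommRingCat.ofHom A₀.val.toRingHom)
  let x : Spec (CommRingCat.of Γ(S, V)) := hV.primeIdealOf ⟨s, hsV⟩
  have hx : hV.fromSpec x = s := hV.fromSpec_primeIdealOf ⟨s, hsV⟩
  have hgs : GeometricallyReduced (f.fiberToSpecResidueField s) :=
    MorphismProperty.pullback_snd _ _ ‹GeometricallyReduced f›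
  have hgx : GeometricallyReduced (u.fiberToSpecResidueField x) :=
    (Set.ext_iff.1 (S9735.result f hV.fromSpec u (f ⁻¹ᵁ V).ι hpb.flip) x).2 (by
      show GeometricallyReduced (f.fiberToSpecResidueField (hV.fromSpec x))
      rw [hx]; exact hgs)
  have hg₀ : GeometricallyReduced (u₀.fiberToSpecResidueField (τ x)) :=
    (Set.ext_iff.1 (S9735.result u₀ τ u q H₀) x).1 hgx
  haveI : (Coh.structureModule X₀).IsQuasicoherent := ProjTwist.isQuasicoherent_structureModule X₀
  have hflat := IntProd70.isFlatOver_unit u₀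
  obtain ⟨N₀, hN₀⟩ := exists_nhd (IntProd70.isFP_unit X₀) hflat (τ x)
  obtain ⟨N, hN, hR, -⟩ := N₀.exists_rExact_of_surjAt hflat hN₀ (surjAt_zero u₀ N₀ hN₀ hg₀)
  let Ω : S.Opens := hV.fromSpec ''ᵁ (τ ⁻¹ᵁ N.V)
  obtain ⟨_, ⟨(U : S.Opens), hU, rfl⟩, hsU, hUΩ⟩ :=
    S.isBasis_affineOpens.exists_subset_of_mem_open (show s ∈ Ω from ⟨x, hN, hx⟩) Ω.2
  have hUV : U ≤ V := fun z hz => by
    obtain ⟨w, -, rfl⟩ := hUΩ hz
    exact hV.range_fromSpec.le ⟨w, rfl⟩
  refine ⟨U, hU, hsU, ?_⟩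
  let ρ : U.toScheme ⟶ Spec (CommRingCat.of A₀) := (S.homOfLE hUV ≫ hV.isoSpec.hom) ≫ τ
  let rU : (f ⁻¹ᵁ U).toScheme ⟶ (f ⁻¹ᵁ V).toScheme := X.homOfLE (f.preimage_mono hUV)
  have hU₁ : IsPullback rU (f.resLE U (f ⁻¹ᵁ U) le_rfl) u (S.homOfLE hUV ≫ hV.isoSpec.hom) := by
    refine IsPullback.of_right ?_ ?_ hpb.flip
    · rw [Category.assoc, IsAffineOpen.isoSpec_hom_fromSpec, Scheme.homOfLE_ι, Scheme.homOfLE_ι,
        Scheme.Hom.resLE_eq_morphismRestrict]
      exact (isPullback_morphismRestrict f U).flip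
    · show rU ≫ overV f hV = _
      rw [overV, ← Category.assoc, ← Category.assoc, Scheme.Hom.map_resLE, Scheme.Hom.resLE_map]
  have hU₂ : IsPullback (rU ≫ q) (f.resLE U (f ⁻¹ᵁ U) le_rfl) u₀ ρ := hU₁.paste_horiz H₀
  haveI : IsAffine U.toScheme := hU
  have hUN : (⊤ : U.toScheme.Opens) ≤ ρ ⁻¹ᵁ N.V := fun z _ => by
    show τ ((S.homOfLE hUV ≫ hV.isoSpec.hom) z) ∈ N.V
    obtain ⟨w, hw, hwz⟩ := hUΩ z.2
    have : (S.homOfLE hUV ≫ hV.isoSpec.hom) z = w := by
      refine hV.fromSpec.isOpenEmbedding.injective (Eq.trans ?_ hwz.symm)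
      have hc : (S.homOfLE hUV ≫ hV.isoSpec.hom) ≫ hV.fromSpec = U.ι := by
        rw [Category.assoc, IsAffineOpen.isoSpec_hom_fromSpec, Scheme.homOfLE_ι]
      exact congr($hc z)
    rw [this]
    exact hw
  have eU : (⊤ : (f ⁻¹ᵁ U).toScheme.Opens) ≤ (rU ≫ q) ⁻¹ᵁ (u₀ ⁻¹ᵁ N.V) := fun z _ => by
    show u₀ ((rU ≫ q) z) ∈ N.V
    rw [← Scheme.Hom.comp_apply, hU₂.w]
    exact hUN trivial
  have p₁ := isPushout_of_rExact N hR hU₂ (isAffineOpen_top _) hUN eU
  obtain ⟨h1, h2⟩ := finite_flat_of_rExact hflat N hR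
  haveI : IsNoetherianRing Γ(Spec (CommRingCat.of A₀), N.V) :=
    IsLocallyNoetherian.component_noetherian ⟨N.V, N.hV⟩
  have h3 : (u₀.app N.V).hom.FinitePresentation :=
    RingHom.FinitePresentation.of_finiteType.mp (RingHom.Finite.finiteType h1)
  let P : ∀ {A B : Type u} [CommRing A] [CommRing B], (A →+* B) → Prop :=
    fun φ => φ.Finite ∧ φ.Flat ∧ φ.FinitePresentation
  have hP : RingHom.RespectsIso P :=
    RingHom.RespectsIso.and RingHom.finite_respectsIso
      (RingHom.RespectsIso.and RingHom.Flat.respectsIso RingHom.finitePresentation_respectsIso)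
  have hst : ∀ {Q : ∀ {A B : Type u} [CommRing A] [CommRing B], (A →+* B) → Prop},
      RingHom.IsStableUnderBaseChange Q → Q (u₀.app N.V).hom →
        Q (f.resLE U (f ⁻¹ᵁ U) le_rfl).appTop.hom := by
    intro Q hQ hq
    haveI := RingHom.isStableUnderCobaseChange_toMorphismProperty_iff.mpr hQ
    exact MorphismProperty.of_isPushout (P := RingHom.toMorphismProperty Q) p₁.flip hq
  have key : P (f.resLE U (f ⁻¹ᵁ U) le_rfl).appTop.hom :=
    ⟨hst RingHom.finite_isStableUnderBaseChange h1, hst RingHom.Flat.isStableUnderBaseChange h2,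
      hst RingHom.finitePresentation_isStableUnderBaseChange h3⟩
  rw [Scheme.Hom.appTop, Scheme.Hom.resLE_app_top, CommRingCat.hom_comp] at key
  have k1 := (hP.cancel_left_isIso U.topIso.hom (f.appLE U (f ⁻¹ᵁ U) le_rfl ≫ (f ⁻¹ᵁ U).topIso.inv)).mp key
  rw [CommRingCat.hom_comp] at k1
  have k2 := (hP.cancel_right_isIso (f.appLE U (f ⁻¹ᵁ U) le_rfl) (f ⁻¹ᵁ U).topIso.inv).mp k1
  rw [← Scheme.Hom.app_eq_appLE] at k2
  exact k2

end Groth.Agent.FEtCat.SteinFlat
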