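import Groth.Agent.S17758
import Groth.Agent.FEtCat.Basic
import Groth.Agent.Hensel.Local
import Groth.Agent.C2Cond88.Compl
import Groth.Agent.CohenFact61.Main
import Groth.Agent.CycCover.Regular
import Groth.Agent.RegLoc.Basic
import Groth.Agent.RegLoc.Homological
import Groth.Agent.InvQLib.FiniteFree
import Groth.Prelude.Def_FEt

/-!
# Pieces of finite étale covers over complete intersections of small deviation

Over a complete regular local ring `S` of dimension `d`, the zero locus of at most `d - 2` elements in a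
finite étale `S`-algebra is a finite union of clopen pieces, each connected after removing the closed
points.
-/

set_option autoImplicit false
set_option linter.style.haveILetI false

universe u

open IsLocalRing Topology

namespace Groth.Agent.FEtCat.VdimPieces

/-- A topological criterion: clopen subsets of the complement of `Z` extend uniquely. -/
theorem clopen_extend {T : Type*} [TopologicalSpace T] (Z : Set T) {ι : Type*} [Finite ι]
    (C : ι → Set T) (hC : ∀ i, IsClopen (C i)) (hcov : ∀ x, ∃ i, x ∈ C i)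
    (hconn : ∀ i, _root_.IsPreconnected (C i \ Z)) (hgen : ∀ z ∈ Z, ∃ x, x ∉ Z ∧ x ⤳ z) :
    (∀ W : Set T, IsClopen W → W ⊆ Z → W = ∅) ∧
      ∀ W' : Set ↥(Zᶜ : Set T), IsClopen W' → ∃ W : Set T, IsClopen W ∧ Subtype.val ⁻¹' W = W' := by
  refine ⟨fun W hW hWZ => Set.eq_empty_of_forall_notMem fun z hz => ?_, fun W' hW' => ?_⟩
  · obtain ⟨x, hx, hxz⟩ := hgen z (hWZ hz)
    exact hx (hWZ (hxz.mem_open hW.2 hz))
  have hpre : ∀ i, _root_.IsPreconnected (Subtype.val ⁻¹' C i : Set ↥(Zᶜ : Set T)) := fun i => by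
    rw [← Topology.IsInducing.subtypeVal.isPreconnected_image, Subtype.image_preimage_coe,
      ← Set.diff_eq_compl_inter]
    exact hconn i
  let g : {i : ι // (Subtype.val ⁻¹' C i : Set ↥(Zᶜ : Set T)) ∩ W' ≠ ∅} → Set T := fun i => C i.1
  refine ⟨⋃ i, g i, isClopen_iUnion_of_finite fun i => hC i.1, ?_⟩
  ext x
  simp only [Set.mem_preimage, Set.mem_iUnion, g]
  constructor
  · rintro ⟨⟨i, hi⟩, hx⟩
    exact (hpre i).subset_isClopen hW' (Set.nonempty_iff_ne_empty.mpr hi) hx
  · intro hx
    obtain ⟨i, hi⟩ := hcov x.1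
    exact ⟨⟨i, Set.nonempty_iff_ne_empty.mp ⟨x, hi, hx⟩⟩, hi⟩

variable {S : Type u} [CommRing S] [IsRegularLocalRing S] [IsAdicComplete (maximalIdeal S) S]

/-- The punctured zero locus of at most `d - 2` elements. -/
theorem isConnected_base (d : ℕ) (hd : ringKrullDim S = d) (s : Finset S) (hs : s.card + 2 ≤ d)
    (hI : Ideal.span (s : Set S) ≠ ⊤) :
    _root_.IsConnected {x : PrimeSpectrum S | Ideal.span (s : Set S) ≤ x.asIdeal ∧
      x.asIdeal ≠ maximalIdeal S} := by
  haveI := RegLoc.isDomain S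
  refine S17758.result S d hd s.card hs (fun i => (s.equivFin.symm i : S)) _ hI ?_
  congr 2
  ext x
  simp only [Set.mem_range, SetLike.mem_coe]
  exact ⟨fun hx => ⟨s.equivFin ⟨x, hx⟩, by rw [Equiv.symm_apply_apply]⟩,
    fun ⟨i, hi⟩ => hi ▸ (s.equivFin.symm i).2⟩

/-- The pieces. -/
theorem exists_pieces (d : ℕ) (hd : ringKrullDim S = d) (s : Finset S) (hs : s.card + 2 ≤ d)
    (hI : Ideal.span (s : Set S) ≠ ⊤) (B : Type u) [CommRing B] [Algebra S B] [Module.Finite S B]
    [Algebra.Etale S B] :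
    ∃ (n : ℕ) (C : Fin n → Set (PrimeSpectrum B)), (∀ i, IsClopen (C i)) ∧ (∀ x, ∃ i, x ∈ C i) ∧
      ∀ i, _root_.IsConnected (C i ∩ {x | (Ideal.span (s : Set S)).map (algebraMap S B) ≤ x.asIdeal ∧
          x.asIdeal.comap (algebraMap S B) ≠ maximalIdeal S}) ∧
        ∀ z ∈ C i, z.asIdeal.comap (algebraMap S B) = maximalIdeal S → ∀ x ∈ C i, x ⤳ z := by
  haveI : IsRegularRing S := RegLoc.Homological.isRegularRing
  haveI := C2Cond88.henselianLocalRing_of_isAdicComplete S
  haveI := RegLoc.isDomain S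
  obtain ⟨n, e, he, hloc⟩ := Hensel.exists_pi_local (R := S) B
  refine ⟨n, fun i => PrimeSpectrum.zeroLocus {1 - e i}, fun i => ?_, fun x => ?_, fun i => ?_⟩
  · exact PrimeSpectrum.isClopen_iff_zeroLocus.mpr ⟨1 - e i, (he.idem i).one_sub, rfl⟩
  · by_contra h
    push Not at h
    refine x.isPrime.ne_top (x.asIdeal.eq_top_iff_one.mpr ?_)
    rw [← he.complete]
    refine Ideal.sum_mem _ fun i _ => ?_
    have h1 : (1 - e i) * e i ∈ x.asIdeal := by
      rw [sub_mul, one_mul, (he.idem i).eq, sub_self]; exact x.asIdeal.zero_mem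
    exact (x.isPrime.mem_or_mem h1).resolve_left fun h2 => h i (by simpa using h2)
  let D := B ⧸ Ideal.span {1 - e i}
  haveI : IsLocalRing D := hloc i
  haveI : IsLocalization.Away (e i) D :=
    IsLocalization.away_of_isIdempotentElem (he.idem i) (by simp [D, Ideal.Quotient.algebraMap_eq])
      Ideal.Quotient.mk_surjective
  haveI : Algebra.Etale B D := Algebra.Etale.of_isLocalizationAway (e i)
  haveI : Algebra.Etale S D := Algebra.Etale.comp S B D
  haveI : Module.Finite S D := Module.Finite.trans B D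
  haveI : IsRegularRing D := CycCover.isRegularRing_of_etale (R := S)
  haveI : IsRegularLocalRing D := IsRegularLocalRing.of_isRegularRing_of_isLocalRing D
  haveI := RegLoc.isDomain D
  haveI : IsAdicComplete (maximalIdeal D) D := CohenFact61.isAdicComplete_of_finite S D
  haveI : IsLocalHom (algebraMap S D) := ⟨fun a ha => by
    by_contra hu
    obtain ⟨M, hM⟩ := Ideal.exists_maximal D
    have h1 := IsLocalRing.eq_maximalIdeal (Ideal.isMaximal_comap_of_isIntegral_of_isMaximal (R := S) M)
    exact hM.ne_top (Ideal.eq_top_of_isUnit_mem _ (show algebraMap S D a ∈ M from h1.ge hu) ha)⟩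
  haveI : Module.Flat S D := inferInstance
  haveI : Module.FaithfullyFlat S D := Module.FaithfullyFlat.of_flat_of_isLocalHom
  have hinj : Function.Injective (algebraMap S D) := FaithfulSMul.algebraMap_injective S D
  have hdD : ringKrullDim D = d := (InvQLib.FiniteFree.ringKrullDim_eq_of_integral S D hinj).trans hd
  have hI' : (Ideal.span (s : Set S)).map (algebraMap S D) ≠ ⊤ := fun h => by
    have := (Ideal.map_mono (f := algebraMap S D) (le_maximalIdeal hI)).trans
      (((local_hom_TFAE (algebraMap S D)).out 0 2).mp ‹_›)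
    exact (maximalIdeal.isMaximal D).ne_top (top_le_iff.mp (h ▸ this))
  have hconn := S17758.result D d hdD s.card hs (fun j => algebraMap S D (s.equivFin.symm j : S))
    ((Ideal.span (s : Set S)).map (algebraMap S D)) hI' (by
      rw [Ideal.map_span]
      congr 2
      ext x
      simp only [Set.mem_range, Set.mem_image, SetLike.mem_coe]
      exact ⟨fun ⟨y, hy, hyx⟩ => ⟨s.equivFin ⟨y, hy⟩, by rw [Equiv.symm_apply_apply]; exact hyx⟩,
        fun ⟨j, hj⟩ => ⟨_, (s.equivFin.symm j).2, hj⟩⟩)
  let c := PrimeSpectrum.comap (Ideal.Quotient.mk (Ideal.span {1 - e i}))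
  have hrange : Set.range c = PrimeSpectrum.zeroLocus {1 - e i} := by
    rw [range_comap_of_surjective _ _ Ideal.Quotient.mk_surjective, Ideal.mk_ker,
      PrimeSpectrum.zeroLocus_span]
  have hmax : ∀ x : PrimeSpectrum D, x.asIdeal.comap (algebraMap S D) = maximalIdeal S ↔
      x.asIdeal = maximalIdeal D := fun x => by
    constructor
    · intro hx
      haveI : (x.asIdeal.comap (algebraMap S D)).IsMaximal := hx ▸ maximalIdeal.isMaximal S
      exact IsLocalRing.eq_maximalIdeal (Ideal.isMaximal_of_isIntegral_of_isMaximal_comap x.asIdeal ‹_›)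
    · intro hx
      rw [hx]
      exact ((local_hom_TFAE (algebraMap S D)).out 0 4).mp ‹_›
  have hcomap : ∀ x : PrimeSpectrum D, (c x).asIdeal.comap (algebraMap S B) =
      x.asIdeal.comap (algebraMap S D) := fun x => rfl
  refine ⟨?_, fun z hz hzm x hx => ?_⟩
  · convert hconn.image c (PrimeSpectrum.continuous_comap _).continuousOn using 1
    ext y
    constructor
    · rintro ⟨hy, hIy, hym⟩
      obtain ⟨x, rfl⟩ := hrange.ge hy
      refine ⟨x, ⟨?_, fun h => hym ((hcomap x).trans ((hmax x).mpr h))⟩, rfl⟩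
      rw [Ideal.map_le_iff_le_comap] at hIy ⊢
      exact hIy
    · rintro ⟨x, ⟨hx, hxm⟩, rfl⟩
      refine ⟨hrange.le ⟨x, rfl⟩, ?_, fun h => hxm ((hmax x).mp ((hcomap x).symm.trans h))⟩
      rw [Ideal.map_le_iff_le_comap] at hx ⊢
      exact hx
  · obtain ⟨z', rfl⟩ := hrange.ge hz
    obtain ⟨x', rfl⟩ := hrange.ge hx
    have hz' : z'.asIdeal = maximalIdeal D := (hmax z').mp ((hcomap z').symm.trans hzm)
    refine (PrimeSpectrum.le_iff_specializes x' z').mp ?_ |>.map (PrimeSpectrum.continuous_comap _)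
    show x'.asIdeal ≤ z'.asIdeal
    rw [hz']
    exact le_maximalIdeal x'.isPrime.ne_top

end Groth.Agent.FEtCat.VdimPieces
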